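import Cfsg.Agent.HJ.T3C0
import Cfsg.Agent.HJ.T3C1
import Cfsg.Agent.HJ.T3C2
import Cfsg.Agent.HJ.T3C3
import Cfsg.Agent.HJ.T3C4
import Cfsg.Agent.HJ.T3C5

set_option autoImplicit false
set_option maxRecDepth 100000

namespace Cfsg.Agent.HJ.T3
open Cfsg.Agent.Comp

theorem index.{u} : IndexLe.{u} 10 R3 WP 52326 :=
  indexLe_of_cert P HT (by decide +kernel)
    (show P.RowsOK 16 52352 from (Par.RowsOK.join (Par.RowsOK.join (Par.RowsOK.join (Par.RowsOK.join r0 r1) (Par.RowsOK.join r2 r3)) (Par.RowsOK.join (Par.RowsOK.join r4 r5) (Par.RowsOK.join r6 r7))) (Par.RowsOK.join (Par.RowsOK.join (Par.RowsOK.join r8 r9) (Par.RowsOK.join r10 r11)) (Par.RowsOK.join (Par.RowsOK.join r12 r13) (Par.RowsOK.join r14 (Par.RowsOK.join r15 r16))))))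

end Cfsg.Agent.HJ.T3
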