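import Cfsg.Agent.HJ.J2
import Cfsg.Agent.HJ.T3
import Cfsg.Agent.Comp.J3.Main
import Cfsg.Agent.J1.Gen

/-!
# HJ/J3F: computations in the model of `J₃`
-/

set_option autoImplicit false
set_option maxRecDepth 100000

namespace Cfsg.Agent.HJ

open Cfsg.Agent.Comp Cfsg.Agent.Core Subgroup
open scoped Pointwise

theorem map_cent {G G' : Type*} [Group G] [Group G'] (e : G ≃* G') (Q : Subgroup G) :
    (centralizer (Q : Set G)).map e.toMonoidHom = centralizer (Q.map e.toMonoidHom : Set G') := by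
  refine le_antisymm (map_centralizer_le_centralizer_image _ _) fun g hg => ?_
  obtain ⟨g, rfl⟩ := e.surjective g
  exact ⟨g, fun u hu => e.injective (by rw [map_mul, map_mul]; exact hg _ ⟨u, hu, rfl⟩), rfl⟩

def F3 : List (List ℕ) := [[0], [5, 0, 4, 5, 4, 5, 4, 5, 0, 4, 5], [3, 4, 3, 4, 3, 5, 3, 4, 3, 4, 3], [0, 3, 0, 3],
  [1], [2], [3, 4, 3, 4, 3, 0, 4, 5], [5, 0, 3, 4, 3, 4, 3, 4], [3, 5, 0, 4, 5, 4, 3, 5, 3, 5, 4, 5, 4, 0, 5, 3],
  [5, 0, 4, 5, 4, 3, 5, 3, 5, 4, 5, 4, 0, 5]]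

def B3 : List (List ℕ) := [[0], [5], [4], [8, 9, 8], [6, 9, 8, 1, 2, 8, 2, 8, 1, 2, 8, 2, 8, 2, 3, 9, 8, 2, 8, 5, 9,
  3, 2, 8, 2, 8, 2, 8, 2, 8, 3], [1, 8, 2, 8, 2, 8, 1]]

def w5 : List ℕ := [3, 0, 3, 4]
def w17 : List ℕ := [0, 3, 4]
def w19 : List ℕ := [0, 3, 4, 5]
def w9 : List ℕ := [4, 3, 0, 3, 4, 5, 3, 4, 3, 0, 1, 3, 5, 4, 3]
def w9' : List ℕ := [3, 4, 5, 3, 0, 2, 3, 4, 3, 5, 4, 3, 0, 3, 4]

def X3 : List (List ℕ) := [wpow w5 5, w5 ++ [0] ++ wpow w5 4 ++ [0], wpow w17 17, wpow w19 19, w9 ++ w9',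
  w9 ++ w19 ++ w9' ++ wpow w19 13]

def RF3 : List (List ℕ) :=
  R3.map (subst F3) ++ ((List.range 6).map fun i => subst F3 (B3.getD i []) ++ [i]) ++ X3

theorem satF3 : Sat J3.s RF3 :=
  J3.rep.sat_of_inj J3.card.2.2 (by decide +kernel)
    (sat_of_relsP J3.ok (by norm_num)
      (show relsP (nat_lit 6156) (nat_lit 13) (nat_lit 0) (nat_lit 13) J3.T RF3 = true by decide +kernel))

theorem satX3 : Sat J3.s X3 := satF3.mono fun _ hw => List.mem_append_right _ hw

/-- the letters `z e s a x x⁻¹ f f⁻¹ r v` in the model -/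
noncomputable def σ3 (i : ℕ) : J3.G := ev J3.s (F3.getD i [])

instance : Finite J3.G := J3.card.1

theorem pres3 : ∃ π : Pres 10 R3 →* J3.G, Function.Surjective π ∧ (∀ i < 10, π (presS 10 R3 i) = σ3 i) ∧
    Finite (Pres 10 R3) ∧ Nat.card π.ker ≤ 3 := by
  have hR : ∀ w ∈ R3, ∀ a ∈ w, a < 10 := by decide +kernel
  obtain ⟨hfin, hle⟩ := (CardLe.tc (V := WP) (V' := []) (n := 2880) (m := 1) [0, 1, 3, 9, 4, 5, 6, 7, 8] TP.index
    (presS_sat 10 R3) (by decide +kernel) (by decide +kernel) (by decide +kernel) (cardLe_nil _)).step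
    (T3.index _ _ (presS_sat 10 R3))
  rw [presS_top] at hfin hle
  haveI : Finite (Pres 10 R3) := Finite.of_equiv _ topEquiv.toEquiv
  rw [card_top] at hle
  obtain ⟨f, hf', hf⟩ := (isPres_pres hR).lift hR _
    (Sat.subst (satF3.mono fun w hw => List.mem_append_left _ (List.mem_append_left _ hw)))
  rw [gen_top_of_back J3.pres.1 (satF3.mono fun w hw => List.mem_append_left _ (List.mem_append_right _ hw))
    (by decide +kernel)] at hf
  refine ⟨f, MonoidHom.range_eq_top.mp hf, hf', this, ?_⟩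
  have h1 := f.ker.card_mul_index
  rw [index_ker, hf, card_top, J3.card.2.1] at h1
  omega

theorem ne_one_J3 {w : List ℕ} {p : ℕ} (hw : ∀ x ∈ w, x < 6) (hp : p < 6156)
    (h : Nat.beq (Nat.land (Nat.shiftRight (runW (nat_lit 1) J3.T w (pt p)) p) (nat_lit 1)) (nat_lit 0) = true) :
    J3.phi (ev J3.s w) p ≠ p := J3.rep.ev_eq hw ▸ ne_one_of_moves J3.ok hp h

theorem order_J3 {w : List ℕ} {p n : ℕ} [Fact n.Prime] (h1 : J3.phi (ev J3.s w) p ≠ p) (h2 : wpow w n ∈ X3) :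
    orderOf (ev J3.s w) = n :=
  orderOf_eq_prime (ev_wpow J3.s w n ▸ satX3 _ h2) fun e => h1 (by rw [e, map_one]; rfl)

theorem five_J3 : ∃ u : J3.G, orderOf u = 5 ∧ u * σ3 0 = σ3 0 * u := by
  haveI : Fact (Nat.Prime 5) := ⟨by norm_num⟩
  have h1 := order_J3 (ne_one_J3 (w := w5) (p := 1) (by decide) (by norm_num) (by decide +kernel)) (n := 5)
    (by simp [X3])
  refine ⟨_, h1, comm_of_conj ?_⟩
  have h2 := satX3 (w5 ++ [0] ++ wpow w5 4 ++ [0]) (by simp [X3])
  have h3 := J3.pres.sat [0, 0] (by decide)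
  simp only [ev_append, ev_wpow, ev_cons, ev_nil, mul_one] at h2 h3
  rw [show σ3 0 = J3.s 0 from mul_one _, ← eq_inv_of_mul_eq_one_left ((pow_succ _ 4).symm.trans
    (orderOf_dvd_iff_pow_eq_one.mp h1.dvd)), eq_inv_of_mul_eq_one_left h2, inv_eq_of_mul_eq_one_left h3]

theorem fix17 {i : ℕ} (hi : i < 6156) (h : J3.phi (ev J3.s w17) i = i) : i = 0 ∨ i = 191 := by
  by_contra! H
  rw [J3.rep.ev_eq (by decide)] at h
  refine (testBit_moved J3.ok (B := 13) (by norm_num) w17 hi).mp ?_ h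
  rw [show moved 6156 13 J3.T w17 13 = Nat.lor (ivl 1 190) (ivl 192 5964) from
    Nat.eq_of_beq_eq_true (by decide +kernel)]
  change (ivl 1 190 ||| ivl 192 5964).testBit i = true
  rw [Nat.testBit_or, testBit_ivl, testBit_ivl, Bool.or_eq_true, decide_eq_true_eq, decide_eq_true_eq]
  omega

theorem cent17 {P : Subgroup J3.G} (hP : Nat.card P = 17) (ho : Odd (Nat.card (centralizer (P : Set J3.G)))) :
    centralizer (P : Set J3.G) = P := by
  haveI : Fact (Nat.Prime 17) := ⟨by norm_num⟩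
  have g17 := order_J3 (ne_one_J3 (w := w17) (p := 1) (by decide) (by norm_num) (by decide +kernel)) (n := 17)
    (by simp [X3])
  have gS : ev J3.s w17 ∈ genW J3.s J3.W0 := ev_mem_of_letters (by decide)
  have hS : Nat.card (genW J3.s J3.W0) = 17 * 480 :=
    card_eq_of_index (n := 6156) J3.card.2.1 J3.stab.1 (by norm_num)
  have h191 : J3.phi (ev J3.s w17) 191 = 191 :=
    J3.rep.ev_eq (w := w17) (by decide) ▸ apply_eq_of J3.ok (by norm_num) (by decide +kernel)
  have hm := ne_one_J3 (w := [3, 4, 0]) (p := 191) (by decide) (by norm_num) (by decide +kernel)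
  have e0 : ev J3.s [3, 4, 0] = (J3.s 0)⁻¹ * ev J3.s w17 * (J3.s 0)⁻¹⁻¹ := by
    simp only [w17, ev_cons, ev_nil]; group
  have hfix := @fix17
  generalize ev J3.s w17 = g at g17 gS h191 e0 hfix
  wlog hg : P = zpowers g generalizing P
  · obtain ⟨k, -, hk⟩ := IsSylowOf.exists_conj_eq (J1.sylow_count (m := 2954880) (mem_top g) g17
      (by rw [card_top, J3.card.2.1]) (by norm_num)).1 (isSylowOf_of_card (P := P) le_top (by
        rw [hP, card_top, J3.card.2.1, show 50232960 = 17 * 2954880 by norm_num,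
          Nat.factorization_mul (by norm_num) (by norm_num), Finsupp.add_apply,
          Nat.Prime.factorization_self (by norm_num), Nat.factorization_eq_zero_of_not_dvd (by norm_num)]; rfl))
    have h1 : centralizer (P : Set J3.G) = MulAut.conj k • centralizer (zpowers g : Set J3.G) := by
      rw [← hk, conj_smul_eq_map, conj_smul_eq_map, map_cent]
    rw [h1, this (by rw [Nat.card_zpowers, g17]) (by rwa [h1, card_conj_smul] at ho) rfl, hk]
  subst hg
  have g0 := (J3.stab.2 g).mp gS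
  have hC : centralizer (zpowers g : Set J3.G) ≤ genW J3.s J3.W0 := fun c hc => by
    have k : ∀ i < 6156, J3.phi g i = i → J3.phi c i = 0 ∨ J3.phi c i = 191 := fun i hi h =>
      hfix (Bd.lt (J3.rep.bd c) hi) (by
        rw [← Equiv.Perm.mul_apply, ← map_mul, hc g (mem_zpowers g), map_mul, Equiv.Perm.mul_apply, h])
    refine Transfer.mem_of_pow_mem_of_coprime (n := 2) (Nat.coprime_two_left.mpr (Inv.odd_orderOf_of_mem ho hc))
      ((J3.stab.2 _).mpr ?_)
    rw [pow_two, map_mul, Equiv.Perm.mul_apply]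
    rcases k 0 (by norm_num) g0 with e | e <;> rw [e]
    · exact e
    · exact (k 191 (by norm_num) h191).resolve_right fun e' =>
        absurd ((J3.phi c).injective (e.trans e'.symm)) (by norm_num)
  obtain ⟨-, h3⟩ := J1.sylow_count gS g17 hS (by norm_num)
  have h4 := card_inf_mul_relIndex (normalizer (zpowers g : Set J3.G)) (genW J3.s J3.W0)
  obtain ⟨m, hm'⟩ : 17 ∣ Nat.card (normalizer (zpowers g : Set J3.G) ⊓ genW J3.s J3.W0 : Subgroup J3.G) :=
    g17 ▸ Subgroup.orderOf_dvd_natCard _ ⟨le_normalizer (mem_zpowers _), gS⟩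
  have h5 := card_dvd_of_le (le_inf (centralizer_le_normalizer _) hC)
  rw [hm', hS, mul_assoc, mul_right_inj' (by norm_num)] at h4
  rcases (by decide +kernel : ∀ n ≤ 480, n % 17 = 1 % 17 → n ∣ 480 → n = 1 ∨ n = 120) _
    (Nat.le_of_dvd (by norm_num) (Dvd.intro_left _ h4)) h3 (Dvd.intro_left _ h4) with e | e
  · rw [relIndex_eq_one] at e
    have h6 := J1.mem_norm_zpowers_iff.mp (e (inv_mem (letter_mem_genW (x := 0) (by decide))))
    rw [← e0] at h6
    exact absurd ((zpowers_le (H := (MulAction.stabilizer (Equiv.Perm ℕ) 191).comap J3.phi)).mpr h191 h6) hm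
  · rw [e] at h4
    rw [hm', show m = 4 by omega] at h5
    refine (eq_of_le_of_card_ge (le_centralizer _) ?_).symm
    rw [hP]
    exact Nat.le_of_dvd (by norm_num)
      (((Nat.coprime_two_right.mpr ho).pow_right 2).dvd_of_dvd_mul_right h5)

theorem nineteen : ∃ g h : J3.G, orderOf g = 19 ∧ h * g * h⁻¹ = g ^ 6 := by
  haveI : Fact (Nat.Prime 19) := ⟨by norm_num⟩
  have h1 := order_J3 (ne_one_J3 (w := w19) (p := 0) (by decide) (by norm_num) (by decide +kernel)) (n := 19)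
    (by simp [X3])
  have h2 := satX3 (w9 ++ w9') (by simp [X3])
  have h3 := satX3 (w9 ++ w19 ++ w9' ++ wpow w19 13) (by simp [X3])
  simp only [ev_append, ev_wpow] at h2 h3
  refine ⟨_, ev J3.s w9, h1, ?_⟩
  rw [inv_eq_of_mul_eq_one_right h2, eq_inv_of_mul_eq_one_left h3, inv_eq_iff_mul_eq_one, ← pow_add]
  exact orderOf_dvd_iff_pow_eq_one.mp h1.dvd

end Cfsg.Agent.HJ
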