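import Cfsg.Agent.HJ.Two
import Cfsg.Agent.Orth.Fix
import Cfsg.Agent.Orth.Count
import Cfsg.Agent.Fischer.ES
import Cfsg.Agent.S1265

/-!
# HJ/Entry: from the hypotheses on an involution centraliser to the models
-/

set_option autoImplicit false
set_option maxRecDepth 100000
set_option synthInstance.maxSize 100000

namespace Cfsg.Agent.HJ

open Cfsg.Agent.Comp Cfsg.Agent.Core Subgroup
open scoped commutatorElement

variable {G : Type*} [Group G]

theorem card_omega : Nat.card (Omega (ZMod 2) (quadFormMinus 1 (ZMod 2) 1 1)) = 60 := by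
  have hab : Orth.Aniso (1 : ZMod 2) 1 := by unfold Orth.Aniso; decide
  have hQ : Orth.ND (Orth.minusQ 1 (ZMod 2) 1 1) := Orth.nd_minusQ _ (Orth.aniso_disc_ne_zero hab)
  obtain ⟨v, hv⟩ := hQ.exists_Q_eq (by simp) 1
  have h := hQ.card_inf_commutator (hQ.dickKer_of_not_isPlus rfl (Orth.not_isPlus_minusQ 1 hab)) ⊤
    ⟨v, by rw [hv]; exact one_ne_zero, mem_top _⟩
  rw [card_top, Orth.card_OG_minusQ 1 hab, Nat.card_zmod,
    Nat.card_congr (Equiv.subtypeUnivEquiv fun _ => mem_top _)] at h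
  refine (Nat.card_congr (Orth.omegaEquiv (Orth.minusQ 1 (ZMod 2) 1 1)).toEquiv).trans ?_
  norm_num at h ⊢
  omega

theorem exists_nm [Finite G] {t : G} (ht : orderOf t = 2) {Q : Subgroup (centralizer ({t} : Set G))} [Q.Normal]
    (hX : IsExtraspecial 2 Q) (h32 : Nat.card Q = 32) (hC : centralizer (Q : Set (centralizer ({t} : Set G))) ≤ Q)
    (h60 : Q.index = 60) (hi : ¬ IsIsolatedInvolution t) : ∃ φ ψ, NM φ ψ ∧ φ hz = t := by
  obtain ⟨g, hg, hne⟩ : ∃ g, Commute t (g * t * g⁻¹) ∧ g * t * g⁻¹ ≠ t := by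
    by_contra! H
    exact hi ⟨ht, H⟩
  rcases ident hX h32 hC h60 with ⟨⟨e⟩⟩ | ⟨⟨e⟩⟩
  · obtain ⟨φ, h, rfl⟩ := exists_cm (Inv.ne_one_of_two ht) e fun g hg => h_center g (hg _) (hg _) (hg _)
    obtain ⟨k, hk⟩ := conj_e h hg.symm.eq hne
    obtain ⟨f, hf⟩ := exists_nc h hk
    obtain ⟨ψ, hψ⟩ := hf.exists_nm
    exact ⟨φ, ψ, hψ, rfl⟩
  · obtain ⟨φ, h, rfl⟩ := exists_cm (Inv.ne_one_of_two ht) e fun g hg => k_center g (hg _) (hg _) (hg _)
    exact absurd (not_nonsplit h hg.symm.eq) hne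

theorem exists_nm_of_fitting [Finite G] {z : G} (hz2 : orderOf z = 2) {Q : Subgroup (centralizer ({z} : Set G))}
    [Q.Normal] (hF : generalizedFittingSubgroup (centralizer ({z} : Set G)) = Q) (hQ : IsExtraspecial 2 Q)
    (hcard : Nat.card Q = 2 ^ 5)
    (e : centralizer ({z} : Set G) ⧸ Q ≃* Omega (ZMod 2) (quadFormMinus 1 (ZMod 2) 1 1))
    (hnwc : ∃ g : G, (∃ hq : g * z * g⁻¹ ∈ centralizer ({z} : Set G),
      (⟨g * z * g⁻¹, hq⟩ : centralizer ({z} : Set G)) ∈ Q) ∧ g * z * g⁻¹ ≠ z) : ∃ φ ψ, NM φ ψ ∧ φ hz = z := by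
  obtain ⟨g, ⟨hq, -⟩, hne⟩ := hnwc
  exact exists_nm hz2 hQ hcard (hF ▸ S1265.result) ((Nat.card_congr e.toEquiv).trans card_omega)
    fun H => hne (H.2 g (mem_cent.mp hq).symm)

theorem card_A5 : Nat.card (alternatingGroup (Fin 5)) = 60 := by
  rw [nat_card_alternatingGroup, Nat.card_eq_fintype_card, Fintype.card_fin]; rfl

theorem not_isolated [Finite G] [IsSimpleGroup G] {t : G} (h : 4 ∣ Nat.card G) : ¬ IsIsolatedInvolution t := fun ht => by
  have hO : oddCore G = ⊥ := (inferInstance : (oddCore G).Normal).eq_bot_or_eq_top.resolve_right fun e => by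
    have := Inv.odd_card_oddCore (G := G)
    rw [e, card_top] at this
    exact absurd ((Odd.of_dvd_nat this h)) (by decide)
  haveI : (zpowers t).Normal := ⟨fun n hn g => by
    rw [conj_eq (Inv.commute_of_mem_zpowers (Inv.zstar_commute hO ht g) hn).symm.eq]; exact hn⟩
  rcases this.eq_bot_or_eq_top with e | e
  · exact Inv.ne_one_of_two ht.1 (zpowers_eq_bot.mp e)
  · rw [← card_top, ← e, Nat.card_zpowers, ht.1] at h
    exact absurd h (by decide)

theorem a_two' : ∀ u : El DA, u ^ 4 = 1 → ∀ v : El DA, v ^ 4 = 1 → (u * v) ^ 4 = 1 → u * v = v * u := by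
  decide +kernel

/-- an extraspecial group of order 32 has no abelian centraliser -/
theorem exists_noncomm [Finite G] {Q : Subgroup G} {z e : G} (h : Fischer.ES Q z) (h32 : Nat.card Q = 32)
    (he : e ∈ Q) : ∃ u ∈ Q, ∃ v ∈ Q, Commute e u ∧ Commute e v ∧ ¬ Commute u v := by
  classical
  by_contra! H
  have h1 : ∀ u ∈ Q, Commute e u → u = 1 ∨ u = z ∨ u = e ∨ u = e * z := fun u hu hc =>
    h.cent_cent he hu fun p hp hp' => H u hu p hp hc hp'
  obtain ⟨w, hw⟩ : ∃ w, ∀ u ∈ Q, Commute e u ∨ (w * u ∈ Q ∧ Commute e (w * u)) := by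
    by_cases H' : ∀ w ∈ Q, Commute e w
    · exact ⟨1, fun u hu => Or.inl (H' u hu)⟩
    push Not at H'
    obtain ⟨w, hw, hw'⟩ := H'
    refine ⟨w, fun u hu => or_iff_not_imp_left.mpr fun hu' => ⟨mul_mem hw hu, Commute.symm ?_⟩⟩
    exact (h.commute_mul_iff hw hu he).mpr (iff_of_false (fun e => hw' e.symm) fun e => hu' e.symm)
  have h2 : (Q : Set G) ⊆ ([1, z, e, e * z, w⁻¹ * 1, w⁻¹ * z, w⁻¹ * e, w⁻¹ * (e * z)].toFinset : Set G) := by
    intro u hu
    simp only [List.coe_toFinset, List.mem_cons, List.not_mem_nil, or_false, Set.mem_setOf_eq,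
      eq_inv_mul_iff_mul_eq]
    rcases hw u hu with H | H
    · rcases h1 u hu H with e | e | e | e <;> simp only [e, true_or, or_true]
    · rcases h1 _ H.1 H.2 with e | e | e | e <;> simp only [e, true_or, or_true]
  have h3 := Set.ncard_le_ncard h2 (Finset.finite_toSet _)
  rw [Set.ncard_coe_finset, ← Nat.card_coe_set_eq, SetLike.coe_sort_coe, h32] at h3
  exact absurd (h3.trans (List.toFinset_card_le _)) (by simp)

theorem exists_nm_of_simple [Finite G] [IsSimpleGroup G] {t : G} (ht : orderOf t = 2)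
    {Q : Subgroup (centralizer ({t} : Set G))} [Q.Normal] (hX : IsExtraspecial 2 Q) (h32 : Nat.card Q = 32)
    (e : centralizer ({t} : Set G) ⧸ Q ≃* alternatingGroup (Fin 5)) : ∃ φ ψ, NM φ ψ ∧ φ hz = t := by
  have h60 : Q.index = 60 := (Nat.card_congr e.toEquiv).trans card_A5
  have hi : ¬ IsIsolatedInvolution t := not_isolated
    (((show 4 ∣ 32 by norm_num).trans (h32 ▸ card_subgroup_dvd_card Q)).trans (card_subgroup_dvd_card _))
  refine exists_nm ht hX h32 (by_contra fun hC => hi ⟨ht, fun g hg => ?_⟩) h60 hi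
  obtain ⟨ε⟩ := equiv_DA
  let π : centralizer ({t} : Set G) →* El DA := (e.trans ε.symm).toMonoidHom.comp (QuotientGroup.mk' Q)
  have hπ : ∀ u, π u = 1 ↔ u ∈ Q := fun u =>
    (map_eq_one_iff _ (e.trans ε.symm).injective).trans (QuotientGroup.eq_one_iff u)
  have πs : Function.Surjective π := (e.trans ε.symm).surjective.comp (QuotientGroup.mk'_surjective Q)
  clear_value π
  haveI : IsSimpleGroup (El DA) := ε.isSimpleGroup
  have hsur : ∀ u, ∃ c ∈ centralizer (Q : Set (centralizer ({t} : Set G))), c⁻¹ * u ∈ Q := fun u => by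
    obtain ⟨c, hc, e⟩ := ((Normal.map inferInstance π πs).eq_bot_or_eq_top.resolve_left fun H =>
      hC fun c hc => (hπ c).mp (H.le ⟨c, hc, rfl⟩)).ge (mem_top (π u))
    exact ⟨c, hc, (hπ _).mp (by rw [map_mul, map_inv, e, inv_mul_cancel])⟩
  obtain ⟨z, hz, -⟩ := Fischer.exists_es hX
  let t' : centralizer ({t} : Set G) := ⟨t, mem_cent.mpr rfl⟩
  have tc : ∀ u, u * t' = t' * u := fun u => Subtype.ext (mem_cent.mp u.2)
  obtain rfl : t' = z := by
    refine (hz.cent t' ((hπ _).mp ?_) fun y _ => (tc y).symm).resolve_left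
      fun e => Inv.ne_one_of_two ht (congrArg Subtype.val e)
    refine (by decide +kernel : ∀ u : El DA, u * El.l DA 2 = El.l DA 2 * u → u * El.l DA 4 = El.l DA 4 * u → u = 1)
      _ ?_ ?_
    · obtain ⟨u, hu⟩ := πs (El.l DA 2)
      rw [← hu, ← map_mul, ← map_mul, tc]
    · obtain ⟨u, hu⟩ := πs (El.l DA 4)
      rw [← hu, ← map_mul, ← map_mul, tc]
  have key : ∀ u v : centralizer ({t} : Set G), u ^ 4 = 1 → v ^ 4 = 1 → (u * v) ^ 4 = 1 →
      ⁅u, v⁆ = 1 ∨ ⁅u, v⁆ = t' := fun u v h1 h2 h3 => by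
    have h4 : ⁅u, v⁆ ∈ Q := (hπ _).mp (by
      rw [map_commutatorElement, commutatorElement_eq_one_iff_mul_comm]
      exact a_two' _ (by rw [← map_pow, h1, map_one]) _ (by rw [← map_pow, h2, map_one])
        (by rw [← map_mul, ← map_pow, h3, map_one]))
    refine hz.cent _ h4 fun y hy => ?_
    have act : ∀ w : centralizer ({t} : Set G), ∀ y ∈ Q, w * y * w⁻¹ = y ∨ w * y * w⁻¹ = y * t' := fun w y hy => by
      obtain ⟨c, hc, hq⟩ := hsur w⁻¹
      have := hz.conj _ (inv_mem hq) y hy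
      rwa [show (c⁻¹ * w⁻¹)⁻¹ * y * (c⁻¹ * w⁻¹)⁻¹⁻¹ = w * (c * y * c⁻¹) * w⁻¹ by group, ← hc y hy,
        mul_inv_cancel_right] at this
    have nrm : ∀ w : centralizer ({t} : Set G), ∀ y ∈ Q, w * y * w⁻¹ ∈ Q := fun w y hy =>
      Normal.conj_mem inferInstance y hy w
    have sw : ∀ y ∈ Q, u * (v * y * v⁻¹) * u⁻¹ = v * (u * y * u⁻¹) * v⁻¹ := fun y hy => by
      have k : ∀ w a : centralizer ({t} : Set G), w * (a * t') * w⁻¹ = w * a * w⁻¹ * t' := fun w a => by
        rw [← mul_assoc, mul_assoc _ t', ← tc, ← mul_assoc]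
      rcases act u y hy with e1 | e1 <;> rcases act v y hy with e2 | e2 <;> simp only [e1, e2, k]
    refine comm_of_conj ?_
    calc _ = u * (v * (u⁻¹ * (v⁻¹ * y * v⁻¹⁻¹) * u⁻¹⁻¹) * v⁻¹) * u⁻¹ := by rw [commutatorElement_def]; group
      _ = _ := by rw [sw _ (nrm _ _ (nrm _ _ hy))]; group
  let w : centralizer ({t} : Set G) := ⟨g * t * g⁻¹, mem_cent.mpr hg.symm.eq⟩
  obtain ⟨c, hc, hq⟩ := hsur w
  obtain ⟨u, hu, v, hv, h1, h2, h3⟩ := exists_noncomm hz h32 hq
  have k : ∀ u ∈ Q, Commute (c⁻¹ * w) u → g⁻¹ * u * g⁻¹⁻¹ ∈ centralizer ({t} : Set G) := fun u hu h => by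
    have h4 : Commute w u := by simpa using (show Commute c u from (hc u hu).symm).mul_left h
    exact mem_cent.mpr ((comm_conj_iff (k := g⁻¹) (a := g * t * g⁻¹) (by group) u).mp
      (congrArg Subtype.val h4.symm.eq))
  have p4 : ∀ u ∈ Q, (g⁻¹ * (u : G) * g⁻¹⁻¹) ^ 4 = 1 := fun u hu => by
    have : u ^ 4 = 1 := by
      rw [show u ^ 4 = u * u * (u * u) by simp only [pow_succ, pow_zero, one_mul, mul_assoc]]
      rcases hz.sq u hu with e | e <;> rw [e]
      exacts [one_mul _, hz.zsq]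
    rw [conj_pow, ← coe_pow, this, coe_one]; group
  have h5 : ⁅u, v⁆ = t' := by rw [commutatorElement_def, hz.conj_eq hu hv h3, tc]; group
  have h6 : ⁅g⁻¹ * (u : G) * g⁻¹⁻¹, g⁻¹ * (v : G) * g⁻¹⁻¹⁆ = g⁻¹ * t * g := by
    refine Eq.trans ?_ (congrArg (fun y : centralizer ({t} : Set G) => g⁻¹ * y * g) h5)
    simp only [commutatorElement_def, coe_mul, coe_inv]; group
  rcases key ⟨_, k u hu h1⟩ ⟨_, k v hv h2⟩ (Subtype.ext (p4 u hu)) (Subtype.ext (p4 v hv))
    (Subtype.ext (Eq.trans (by simp only [coe_mul, coe_pow]; congr 1; group) (p4 _ (mul_mem hu hv)))) with e | e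
  · have := h6.symm.trans (congrArg Subtype.val e)
    rw [coe_one, mul_assoc, inv_mul_eq_one, eq_comm, mul_eq_right] at this
    exact absurd this (Inv.ne_one_of_two ht)
  · have := h6.symm.trans (congrArg Subtype.val e)
    nth_rw 1 [← show g⁻¹ * t * g = t from this]
    group

variable {φ : El DH →* G} {ψ : El DN →* G}

theorem NM.one_class [Finite G] (h : NM φ ψ) (hza : IsConj 𝐳 𝐚) {t : G} (ht : orderOf t = 2) : IsConj 𝐳 t := by
  rcases inv_classes h.toCM ht with H | H | H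
  exacts [H, h.conj_ze.trans H, hza.trans H]

theorem NM.exists_jc' [Finite G] (h : NM φ ψ) (hcl : ∃ x y : G, orderOf x = 2 ∧ orderOf y = 2 ∧ ¬ IsConj x y) :
    ∃ χ, JC φ ψ χ := by
  obtain ⟨x, y, hx, hy, hne⟩ := hcl
  exact h.exists_jc fun H => hne ((h.one_class H hx).symm.trans (h.one_class H hy))

end Cfsg.Agent.HJ
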