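import Cfsg.Agent.HJ.FactH

set_option autoImplicit false
set_option maxRecDepth 100000
set_option synthInstance.maxSize 100000

namespace Cfsg.Agent.HJ
open Cfsg.Agent.Comp Cfsg.Agent.Core

theorem h_f1 : ∀ u : El DH, u * ha * u⁻¹ * ha = ha * (u * ha * u⁻¹) → u * u * u = 1 → u * he = he * u := by
  decide +kernel

theorem h_f2 : ∀ u : El DH, u * he = he * u → u * ha * u⁻¹ * ha = ha * (u * ha * u⁻¹) := by
  decide +kernel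

theorem n_f3 : ∀ t : El DN, t * nz = nz * t → t * na = na * t →
    (t * (nx * nf * t * (nx * nf)⁻¹) * ((nx * nf)⁻¹ * t * (nx * nf)⁻¹⁻¹) = 1 → t = 1 ∨ t = nz ∨ t = ne ∨ t = ne * nz) ∧
    (t * (nx * nf⁻¹) = nx * nf⁻¹ * t → t = 1) ∧ (t * nf = nf * t → t = 1) ∧ t * ne = ne * t := by
  decide +kernel

theorem n_f4 : ∀ u : El DN, u * (nx * nf) = nx * nf * u → u * nz = nz * u → u * u * u = 1 → u = 1 ∨ ∃ w : El DN,
    w * na = na * w ∧ w * nz = nz * w ∧ w * ne = ne * w ∧ w * (nx * nf) = nx * nf * w ∧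
      (w * u * w⁻¹ = nx ∨ w * u * w⁻¹ = nx⁻¹) := by
  decide +kernel

theorem n_f5 : ∀ m : El DN, m * nx * m⁻¹ = nx ∨ m * nx * m⁻¹ = nx⁻¹ →
    m * (nx * nf) * m⁻¹ = nx * nf ∨ m * (nx * nf) * m⁻¹ = (nx * nf)⁻¹ → m * na * m⁻¹ * na = na * (m * na * m⁻¹) →
    m * nx * m⁻¹ = nx ∧ m * (nx * nf) * m⁻¹ = nx * nf ∧ m * m * m = 1 ∧
      (∃ i < 3, nf ^ i * (m * na * m⁻¹) * (nf ^ i)⁻¹ = na) ∧
      ∃ i < 3, (nx * nf⁻¹) ^ i * (m * na * m⁻¹) * ((nx * nf⁻¹) ^ i)⁻¹ = na := by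
  decide +kernel

end Cfsg.Agent.HJ
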