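import Cfsg.Agent.HJ.FactH
import Cfsg.Agent.HJ.TabA
import Cfsg.Agent.HJ.TabC

set_option autoImplicit false
set_option maxRecDepth 100000
set_option synthInstance.maxSize 100000

namespace Cfsg.Agent.HJ
open Cfsg.Agent.Comp Cfsg.Agent.Core

def cz : El DC := ⟨nat_lit 1, by decide +kernel⟩
def ce : El DC := ⟨nat_lit 2, by decide +kernel⟩
def cy : El DC := ⟨nat_lit 3, by decide +kernel⟩
def cr : El DC := ⟨nat_lit 5, by decide +kernel⟩
def ca : El DC := ⟨nat_lit 6, by decide +kernel⟩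
def cb : El DC := ⟨nat_lit 7, by decide +kernel⟩

def wInvC : Nat := nat_lit 0x441c0000000000003c00180000000000003d004d000044441c1c140000000000000000000000000000000000490000000000003c3c00000018180000000000000005000000000000003d3d0000004d4d0000000000441c001414000000000000004a00000000000000000045000000000000000000004949000000000000003c000000001800000000000005050000000000003d000000004d04000000001b0000140000000000004a4a0000000000004545000000000003000049000000000000000000000005000000000000040400001b1b000000004a0000004500030300000000000000000400001b0000030000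

/-- `w` conjugates `r` to `u` -/
abbrev Cj {M : Type} [Group M] (w r u : M) : Prop := w * r * w⁻¹ = u

/-- the involutions of `C(z)` fused to `z` -/
abbrev PE (u : El DH) : Prop := u = hz ∨ Cj (El.tab DH wInv u.v) he u
/-- the class of `a` in `C(z)` -/
abbrev PA (u : El DH) : Prop := Cj (El.tab DH wInv u.v) ha u
abbrev PN (u : El DN) : Prop := Cj (El.tab DN wInvN u.v) nz u ∨ Cj (El.tab DN wInvN u.v) ns u
abbrev CZ (u : El DC) : Prop := Cj (El.tab DC wInvC u.v) cz u
abbrev CA (u : El DC) : Prop := u = ca ∨ u = cb ∨ u = ca * cb ∨ Cj (El.tab DC wInvC u.v) (ca * cz) u ∨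
  Cj (El.tab DC wInvC u.v) (cb * cz) u ∨ Cj (El.tab DC wInvC u.v) (ca * cb * cz) u

theorem h_inv' : ∀ u : El DH, u * u = 1 → u = 1 ∨ PE u ∨ PA u := by
  decide +kernel

theorem h_exp : ∀ u : El DH, u ^ 8 = 1 ∨ u ^ 10 = 1 ∨ u ^ 12 = 1 := by
  decide +kernel

theorem h_n1 : (El.sum fun u : El DH => @Bool.rec (fun _ => Nat) (nat_lit 0)
    (El.cnt fun v => PA v ∧ ∃ j < 12, (u * v) ^ j = hz) (decide (PE u))) = 960 := by
  decide +kernel

theorem h_A2 : ∀ u : El DH, u * ha = ha * u → ∃ i < 2, ∃ j < 2, ∃ k < 2, ∃ l < 2,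
    u = hz ^ i * he ^ j * ha ^ k * (hx * ha * hx⁻¹) ^ l := by
  decide +kernel

theorem h_A3 : PA (hx * ha * hx⁻¹) ∧ PA (ha * (hx * ha * hx⁻¹)) ∧ PA (ha * hz) ∧ PA (hx * ha * hx⁻¹ * hz) ∧
    PA (ha * (hx * ha * hx⁻¹) * hz) ∧ PA (he * ha) ∧ PA (he * hz * ha) := by
  decide +kernel

theorem n_ca : ∀ v : El DN, v * na = na * v → (v * v = 1 → v * nz = nz * v) ∧ ∀ u : El DN, u * na = na * u →
    u * nz = nz * u → (fun c => c = 1 ∨ c = nz ∨ c = ne ∨ c = ne * nz) (u * v * u⁻¹ * v⁻¹) := by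
  decide +kernel

theorem n_27 : El.cnt PN = 27 := by
  decide +kernel

theorem n_e4 : ∀ w : El DN, w * w = 1 → (ne * w) ^ 4 = 1 := by
  decide +kernel

theorem a_r : ∀ z : El DA, z * z = 1 → z ≠ 1 → ∀ y : El DA, y * y * y = 1 →
    y * (y * z * y⁻¹) * y⁻¹ = y * z * y⁻¹ * z → ∃ r : El DA, (r * r = 1 ∧ r * y * r * y = 1 ∧ r * z * r * z * r * z = 1) ∧
    ∀ t : El DA, t * t = 1 → t * y * t * y = 1 → t * z * t * z * t * z = 1 → t = r := by
  decide +kernel

theorem c_l : El.l DC 0 = cz ∧ El.l DC 1 = ce ∧ El.l DC 2 = cy ∧ El.l DC 4 = cr ∧ El.l DC 5 = ca ∧ El.l DC 6 = cb := by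
  decide +kernel

theorem c_cen : ∀ u : El DC, u * ca = ca * u ∧ u * cb = cb * u := by
  decide +kernel

theorem c_r : ∀ t : El DC, t * t = 1 → t * cy * t * cy = 1 → t * cz * t * cz * t * cz = 1 → t = cr := by
  decide +kernel

theorem c_inv : ∀ u : El DC, u * u = 1 → u = 1 ∨ CZ u ∨ CA u := by
  decide +kernel

theorem c_exp : ∀ u : El DC, u ^ 6 = 1 ∨ u ^ 10 = 1 := by
  decide +kernel

theorem c_n2 : (El.sum fun u : El DC => @Bool.rec (fun _ => Nat) (nat_lit 0)
    (El.cnt fun v => CA v ∧ ∃ j < 12, (u * v) ^ j = ca) (decide (CZ u))) = 195 := by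
  decide +kernel

end Cfsg.Agent.HJ
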