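import Cfsg.Agent.HJ.Two
import Cfsg.Agent.HJ.Pres
import Cfsg.Agent.Comp.J2.Main
import Cfsg.Agent.Comp.Trans

/-!
# HJ/J2: two classes of involutions give the Hall-Janko group
-/

set_option autoImplicit false
set_option maxRecDepth 100000

namespace Cfsg.Agent.HJ

open Cfsg.Agent.Comp Cfsg.Agent.Core Subgroup

variable {G : Type*} [Group G] {φ : El DH →* G} {ψ : El DN →* G}

/-- the letters `z e s a x x⁻¹ f f⁻¹ r v` -/
noncomputable def xc (φ : El DH →* G) (f r v : G) (n : ℕ) : G := [𝐳, 𝐞, 𝐬, 𝐚, 𝐱, 𝐱⁻¹, f, f⁻¹, r, v].getD n 1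

theorem NC.satx {f : G} (h : NC φ f) (r v : G) : Sat (xc φ f r v) RDN := h.sat.congr fun w hw i hi => by
  have := (by decide +kernel : ∀ w ∈ RDN, ∀ i ∈ w, i < 8) w hw i hi
  interval_cases i <;> rfl

theorem cardLe_N {c : ℕ → G} (h : Sat c RDN) : CardLe (gen c 8) 1152 :=
  CardLe.step (cardLe_nil c) (TCDN.index _ c h)

/-- a group generated by letters, with generators given by words -/
theorem gen_top_of_back {s : ℕ → G} {L M : ℕ} {F B : List (List ℕ)} (h0 : gen s L = ⊤)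
    (h : Sat s ((List.range L).map fun i => subst F (B.getD i []) ++ [i]))
    (hB : ∀ i < L, ∀ a ∈ B.getD i [], a < M) : gen (fun a => ev s (F.getD a [])) M = ⊤ := by
  rw [eq_top_iff, ← h0, gen_le]
  intro i hi
  have h1 := h _ (List.mem_map.mpr ⟨i, List.mem_range.mpr hi, rfl⟩)
  rw [ev_append, ev_subst, ev_single, mul_eq_one_iff_eq_inv'] at h1
  rw [h1]
  exact inv_mem (ev_mem fun a ha => letter_mem_gen (hB i hi a ha))

def F2 : List (List ℕ) := [[5], [4, 5, 4], [1], [0, 1, 4, 1, 5, 0, 3, 1, 0, 5, 4, 2], [0, 4, 1, 0, 4, 1],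
  [0, 1, 4, 0, 1, 4], [4, 1], [1, 4], [0]]

def B2 : List (List ℕ) := [[8], [2], [0, 5, 3, 2, 8, 0, 2, 3, 4, 8], [2, 6, 3, 2, 3, 8, 0, 2, 3, 8, 2, 3, 6],
  [2, 7], [0]]

def RF2 : List (List ℕ) := R2.map (subst F2) ++ (List.range 6).map fun i => subst F2 (B2.getD i []) ++ [i]

theorem satF2 : Sat J2.s RF2 :=
  J2.rep.sat_of_inj J2.card.2.2 (by decide +kernel)
    (sat_of_relsP J2.ok (by norm_num)
      (show relsP (nat_lit 100) (nat_lit 7) (nat_lit 0) (nat_lit 7) J2.T RF2 = true by decide +kernel))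

theorem pres2 : Nonempty (Pres 9 R2 ≃* J2.G) := by
  have hR : ∀ w ∈ R2, ∀ a ∈ w, a < 9 := by decide +kernel
  obtain ⟨hfin, hle⟩ := (cardLe_N ((presS_sat 9 R2).mono fun w hw => List.mem_append_left _ hw)).step
    (T2.index _ _ (presS_sat 9 R2))
  rw [presS_top] at hfin hle
  haveI : Finite (Pres 9 R2) := Finite.of_equiv _ topEquiv.toEquiv
  haveI := J2.card.1
  rw [card_top] at hle
  obtain ⟨f, -, hf⟩ := (isPres_pres hR).lift hR _ (Sat.subst (satF2.mono fun w hw => List.mem_append_left _ hw))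
  rw [gen_top_of_back J2.pres.1 (satF2.mono fun w hw => List.mem_append_right _ hw) (by decide +kernel),
    MonoidHom.range_eq_top] at hf
  exact ⟨MulEquiv.ofBijective f (hf.bijective_of_nat_card_le (by rwa [J2.card.2.1]))⟩

theorem JC.sat [Finite G] {χ : El DC →* G} (h : JC φ ψ χ) : Sat (xc φ (ψ nf) (χ cr) 1) R2 := by
  have rr : χ cr * χ cr = 1 := mdl h.injC
  have rx := comm_of_conj h.xr
  have rz : χ cr * 𝐳 * χ cr * 𝐳 * χ cr * 𝐳 = 1 := by rw [h.cz]; exact mdl h.injC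
  have ry : χ cr * (𝐱 * ψ nf) * χ cr * (𝐱 * ψ nf) = 1 := by rw [h.cy]; exact mdl h.injC
  have rs := h.toNM.a6 rr rx.symm rz (Or.inr rfl) ry
  refine (h.toNC.satx _ _).append fun w hw => ?_
  simp only [List.mem_cons, List.not_mem_nil, or_false] at hw
  rcases hw with rfl | rfl | rfl | rfl | rfl | rfl <;>
    simp only [ev_cons, ev_nil, xc, List.getD_cons_succ, List.getD_cons_zero, mul_one]
  · exact rr
  · rw [h.ca]; exact mdl h.injC
  · rw [← mul_assoc, ← mul_assoc, mul_assoc (χ cr), rx, ← mul_assoc, rr]; group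
  · rw [← ry]; group
  · rw [← rz]; group
  · rw [← rs]; simp only [pow_succ, pow_zero, one_mul, mul_assoc]

theorem JC.iso [Finite G] {χ : El DC →* G} (h : JC φ ψ χ) : Nonempty (G ≃* J2.G) := by
  obtain ⟨e⟩ := pres2
  have hR : ∀ w ∈ R2, ∀ a ∈ w, a < 9 := by decide +kernel
  haveI := J2.simple
  haveI : IsSimpleGroup (Pres 9 R2) := e.isSimpleGroup
  obtain ⟨f, -⟩ := (isPres_pres hR).equiv_of_simple hR _ h.sat (x := 0) (by norm_num) (show 𝐳 ≠ 1 from mdl h.inj)
  have hT := eq_top_of_card_eq _ (by rw [← Nat.card_congr f.toEquiv, Nat.card_congr e.toEquiv, J2.card.2.1, h.card_G])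
  exact ⟨(topEquiv.symm.trans (MulEquiv.subgroupCongr hT.symm)).trans (f.symm.trans e)⟩

end Cfsg.Agent.HJ
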