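import Cfsg.Agent.HJ.Syl
import Cfsg.Agent.HJ.J2
import Cfsg.Agent.HJ.Entry

/-!
# HJ/Fix: fixed points of the Hall-Janko group on 100 points
-/

set_option autoImplicit false
set_option maxRecDepth 100000

namespace Cfsg.Agent.HJ

open Cfsg.Agent.Comp Cfsg.Agent.Core Subgroup

variable {G : Type*} [Group G] {ρ : G →* Equiv.Perm ℕ} {s : ℕ → G}

/-- the stabiliser of a point -/
def St (ρ : G →* Equiv.Perm ℕ) (p : ℕ) : Subgroup G := (MulAction.stabilizer (Equiv.Perm ℕ) p).comap ρ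

theorem mem_St {g : G} {p : ℕ} : g ∈ St ρ p ↔ ρ g p = p := Iff.rfl

theorem card_St_mul (K : Subgroup G) (p : ℕ) :
    Nat.card (St ρ p ⊓ K : Subgroup G) * (MulAction.orbit (K.map ρ) p).ncard = Nat.card K := by
  rw [← relIndex_stabilizer, ← relIndex_comap, ← St, card_inf_mul_relIndex]

theorem card_le_step {K : Subgroup G} {p m : ℕ} {l : List ℕ} (h : ∀ g ∈ K, ρ g p ∈ l)
    (hm : Nat.card (St ρ p ⊓ K : Subgroup G) ≤ m) : Nat.card K ≤ m * l.length := by
  rw [← card_St_mul (ρ := ρ) K p]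
  refine Nat.mul_le_mul hm (le_trans ?_ l.toFinset_card_le)
  rw [← Set.ncard_coe_finset]
  refine Set.ncard_le_ncard ?_ (Finset.finite_toSet _)
  rintro _ ⟨⟨_, g, hg, rfl⟩, rfl⟩
  exact List.mem_toFinset.mpr (h g hg)

theorem fix_conj {g t : G} {p : ℕ} (h : ρ (g⁻¹ * t * g) p = p) : ρ t (ρ g p) = ρ g p := by
  rw [← Equiv.Perm.mul_apply, ← map_mul, show t * g = g * (g⁻¹ * t * g) by group, map_mul, Equiv.Perm.mul_apply, h]

theorem card_cent_conj {a b : G} (h : IsConj a b) :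
    Nat.card (centralizer ({a} : Set G)) = Nat.card (centralizer ({b} : Set G)) := by
  obtain ⟨k, e⟩ := isConj_iff.mp h
  exact card_conj k fun g => by rw [mem_cent, mem_cent, comm_conj_iff e]

/-- the Hall-Janko group on its letters -/
structure JR (s : ℕ → G) (ρ : G →* Equiv.Perm ℕ) : Prop where
  rep : Rep s 6 100 J2.T ρ
  inj : Function.Injective ρ
  card : Nat.card G = 604800
  inv : ∀ t : G, orderOf t = 2 → Nat.card (centralizer ({t} : Set G)) ∣ 1920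

theorem JC.z_or_a [Finite G] {φ : El DH →* G} {ψ : El DN →* G} {χ : El DC →* G} (h : JC φ ψ χ) {t : G}
    (ht : orderOf t = 2) : IsConj 𝐳 t ∨ IsConj 𝐚 t := by
  rcases inv_classes h.toCM ht with H | H | H
  exacts [.inl H, .inl ((isConj_iff.mpr ⟨_, h.fz⟩).trans H), .inr H]

theorem JC.card_ca {φ : El DH →* G} {ψ : El DN →* G} {χ : El DC →* G} (h : JC φ ψ χ) :
    Nat.card (centralizer ({𝐚} : Set G)) = 240 := by rw [h.cent_a, El.card_range h.injC]; rfl

theorem JC.exists_jr [Finite G] {φ : El DH →* G} {ψ : El DN →* G} {χ : El DC →* G} (h : JC φ ψ χ) :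
    ∃ (s : ℕ → G) (ρ : G →* Equiv.Perm ℕ), JR s ρ := by
  obtain ⟨e⟩ := h.iso
  refine ⟨_, _, J2.rep.congr e.symm, J2.card.2.2.comp e.injective, h.card_G, fun t ht => ?_⟩
  rcases h.z_or_a ht with H | H <;> rw [← card_cent_conj H]
  · rw [card_cz h.toCM]
  · rw [h.card_ca]; norm_num

namespace JR

theorem card_St (h : JR s ρ) {p : ℕ} (hp : p < 100) : Nat.card (St ρ p) = 6048 := by
  have h0 : ∀ i < 100, ∃ g, ρ g 0 = i := fun i hi => by
    obtain ⟨g, hg⟩ := J2.trans i hi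
    obtain ⟨g', e⟩ : J2.phi g ∈ ρ.range := by rw [h.rep.range, ← J2.rep.range]; exact ⟨g, rfl⟩
    exact ⟨g', e ▸ hg⟩
  refine card_eq_of_index (n := 100) h.card (h.rep.index_stab hp fun i hi => ?_) (by norm_num)
  obtain ⟨a, ha⟩ := h0 p hp
  obtain ⟨b, hb⟩ := h0 i hi
  exact ⟨b * a⁻¹, by rw [← ha, ← Equiv.Perm.mul_apply, ← map_mul, inv_mul_cancel_right, hb]⟩

theorem sat (h : JR s ρ) (D : List (List ℕ)) (hD : ∀ w ∈ D, ∀ x ∈ w, x < 6)
    (hS : relsP (nat_lit 100) (nat_lit 7) (nat_lit 0) (nat_lit 7) J2.T D = true) : Sat s D :=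
  h.rep.sat_of_inj h.inj hD (sat_of_relsP J2.ok (by norm_num) hS)

theorem fix_iff (h : JR s ρ) (w l : List ℕ) (hw : ∀ x ∈ w, x < 6)
    (H : ∀ i < 100, (moved (nat_lit 100) (nat_lit 7) J2.T w (nat_lit 7)).testBit i = true ↔ i ∉ l) :
    ∀ i < 100, ρ (ev s w) i = i ↔ i ∈ l := fun i hi => by
  rw [h.rep.ev_eq hw, ← not_iff_not, ← H i hi]
  exact (testBit_moved J2.ok (by norm_num) w hi).symm

theorem ne_one {t : G} {l : List ℕ} (hl : ∀ i < 100, ρ t i = i ↔ i ∈ l) (h : ∃ i < 100, i ∉ l) : t ≠ 1 := by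
  rintro rfl
  obtain ⟨i, hi, h⟩ := h
  exact h ((hl i hi).mp (by rw [map_one]; rfl))

theorem card_le [Finite G] (h : JR s ρ) {K : Subgroup G} (hK : (Nat.card K).Coprime 6048) {t : G}
    (hc : ∀ g ∈ K, g * t = t * g) {l : List ℕ} (hl : ∀ i < 100, ρ t i = i ↔ i ∈ l) {p : ℕ} (hp : p < 100)
    (hpl : p ∈ l) : Nat.card K ≤ l.length := by
  rw [← one_mul l.length]
  refine card_le_step (ρ := ρ) (p := p) (fun g hg => (hl _ (Bd.lt (h.rep.bd g) hp)).mp (fix_conj ?_)) ?_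
  · rw [mul_assoc, ← hc g hg, inv_mul_cancel_left]; exact (hl p hp).mpr hpl
  · exact (Nat.eq_one_of_dvd_coprimes hK (card_dvd_of_le inf_le_right)
      (h.card_St hp ▸ card_dvd_of_le inf_le_left)).le

theorem odd [Finite G] (h : JR s ρ) {X : Subgroup G} (hX : ¬ Nat.card X ∣ 1920) :
    Odd (Nat.card (centralizer (X : Set G))) := Inv.odd_card_iff.mpr fun t ht t2 =>
  hX ((card_dvd_of_le fun g hg => mem_cent.mpr (ht g hg)).trans (h.inv t t2))

theorem seven (h : JR s ρ) : ∃ g k : G, orderOf g = 7 ∧ k * g * k⁻¹ = g ^ 3 ∧ ∀ i < 100, ρ g i = i ↔ i ∈ [0, 1] := by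
  haveI : Fact (Nat.Prime 7) := ⟨by norm_num⟩
  have h1 := h.fix_iff [0, 3, 1] [0, 1] (by decide) (by decide +kernel)
  have h2 := h.sat [wpow [0, 3, 1] 7, [5, 4, 1, 5, 2, 1, 4, 5, 0, 4] ++ [4, 0, 5, 4, 1, 2, 5, 1, 4, 5],
    [5, 4, 1, 5, 2, 1, 4, 5, 0, 4] ++ [0, 3, 1] ++ [4, 0, 5, 4, 1, 2, 5, 1, 4, 5] ++ wpow [0, 3, 1] 4]
    (by decide +kernel) (by decide +kernel)
  simp only [Sat, List.forall_mem_cons, ev_append, ev_wpow] at h2
  obtain ⟨h2, h3, h4, -⟩ := h2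
  refine ⟨_, ev s [5, 4, 1, 5, 2, 1, 4, 5, 0, 4], orderOf_eq_prime h2 (ne_one h1 (by decide)), ?_, h1⟩
  rw [inv_eq_of_mul_eq_one_right h3, eq_inv_of_mul_eq_one_left h4, inv_eq_iff_mul_eq_one, ← pow_add, h2]

theorem syl7 [Finite G] (h : JR s ρ) (X : Sylow 7 G) :
    Nat.card X = 7 ∧ Nat.card (centralizer ((X : Subgroup G) : Set G)) = 7 ∧
      Nat.card (normalizer ((X : Subgroup G) : Set G)) = 42 ∧
      ¬ IsMulCommutative (normalizer ((X : Subgroup G) : Set G)) := by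
  haveI : Fact (Nat.Prime 7) := ⟨by norm_num⟩
  haveI : Fact (Nat.Prime 5) := ⟨by norm_num⟩
  obtain ⟨h1, -, c, k, n, h2, h3, h4, h5, h6, h7⟩ := syl_prime (m := 86400) h.card (by norm_num) X
  obtain ⟨a, b, ha, hb, hf⟩ := h.seven
  obtain ⟨v, -, hv⟩ := IsSylowOf.exists_conj_eq (J1.sylow_count (m := 86400) (mem_top a) ha
    (card_top.trans h.card) (by norm_num)).1 (isSylowOf_top X)
  rw [conj_smul_eq_map, MonoidHom.map_zpowers] at hv
  change zpowers (v * a * v⁻¹) = _ at hv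
  have c1 : c.Coprime 2 := Nat.coprime_two_right.mpr (Nat.Odd.of_mul_right (h2 ▸ h.odd (by rw [h1]; norm_num)))
  have c2 : c.Coprime 5 := ((Nat.Prime.coprime_iff_not_dvd Fact.out).mpr fun H => by
    obtain ⟨u, hu⟩ := exists_prime_orderOf_dvd_card' 5 (h2 ▸ H.mul_left 7)
    rw [← orderOf_coe, ← Inv.orderOf_conj v⁻¹, ← Nat.card_zpowers] at hu
    have hc : Commute (v⁻¹ * u * v⁻¹⁻¹) a :=
      (comm_conj_iff (k := v⁻¹) (by group) _).mp (u.2 _ (hv.le (mem_zpowers _))).symm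
    have := h.card_le (by rw [hu]; norm_num) (fun g hg => (Inv.commute_of_mem_zpowers hc hg).eq) hf (p := 0)
      (by norm_num) (by simp)
    rw [hu] at this
    exact absurd this (by decide)).symm
  have hb' := congrArg (MulAut.conj v) hb
  simp only [map_mul, map_inv, map_pow] at hb'
  have ha' : orderOf (MulAut.conj v a) = 7 := by rw [MulEquiv.orderOf_eq, ha]
  change zpowers (MulAut.conj v a) = _ at hv
  generalize MulAut.conj v a = a' at hv hb' ha'
  generalize MulAut.conj v b = b' at hb'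
  have hn : b' ∈ normalizer ((X : Subgroup G) : Set G) := by
    rw [← hv]; exact J1.mem_norm_zpowers_iff.mpr (hb' ▸ npow_mem_zpowers _ _)
  have h8 : b' ^ k ∈ centralizer ((X : Subgroup G) : Set G) := h6 ▸ pow_index_mem
    ((centralizer ((X : Subgroup G) : Set G)).subgroupOf (normalizer ((X : Subgroup G) : Set G))) ⟨b', hn⟩
  have h9 : ∀ j : ℕ, b' ^ j * a' * (b' ^ j)⁻¹ = a' ^ 3 ^ j := fun j => by
    induction j with
    | zero => simp
    | succ j ih =>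
      calc _ = b' * (b' ^ j * a' * (b' ^ j)⁻¹) * b'⁻¹ := by group
        _ = _ := by rw [ih, ← conj_pow, hb', ← pow_mul, pow_succ']
  have h10 : ∀ j, b' ^ j * a' = a' * b' ^ j → 1 * 1 ≡ 1 * 3 ^ j [MOD 7] := fun j e => by
    have h10 := h9 j
    rwa [conj_eq e, ← pow_one a', ← pow_mul, pow_eq_pow_iff_modEq, ha'] at h10
  have h11 := h10 k (h8 a' (hv.le (mem_zpowers _))).symm
  have := Nat.le_of_dvd (by norm_num) h3
  obtain rfl : k = 6 := by interval_cases k <;> first | omega | exact absurd h11 (by decide)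
  have c3 : c ∣ 9 := ((c1.pow_right 6).mul_right (c2.pow_right 2)).dvd_of_dvd_mul_left (Dvd.intro n (by linarith))
  have := Nat.le_of_dvd (by norm_num) c3
  obtain rfl : c = 1 := by interval_cases c <;> omega
  refine ⟨h1, h2, h7, fun H => absurd (h10 1 ?_) (by decide)⟩
  rw [pow_one]
  exact congrArg Subtype.val (H.is_comm.comm ⟨b', hn⟩ ⟨a', le_normalizer (hv.le (mem_zpowers _))⟩)

end JR

end Cfsg.Agent.HJ
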