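import Cfsg.Agent.HJ.Ident
import Cfsg.Agent.HJ.FactH
import Cfsg.Agent.Inv.Isolated
import Cfsg.Agent.J1.Elim

/-!
# HJ/Fus: an involution `z` with centraliser `2^{1+4}_-.A₅` that is not isolated; the normaliser of the four-group
`⟨z, e⟩`
-/

set_option autoImplicit false
set_option maxRecDepth 100000

namespace Cfsg.Agent.HJ

open Cfsg.Agent.Comp Cfsg.Agent.Core Subgroup

variable {G : Type*} [Group G]

theorem mem_cent {a g : G} : g ∈ centralizer ({a} : Set G) ↔ g * a = a * g := by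
  rw [mem_centralizer_singleton_iff]

theorem conj_comm {a b : G} (h : a * b = b * a) (k : G) : k * a * k⁻¹ * (k * b * k⁻¹) = k * b * k⁻¹ * (k * a * k⁻¹) := by
  calc _ = k * (a * b) * k⁻¹ := by group
    _ = _ := by rw [h]; group

theorem conj_eq {a b : G} (h : a * b = b * a) : a * b * a⁻¹ = b := by rw [h]; group

theorem comm_of_conj {a b : G} (h : a * b * a⁻¹ = b) : a * b = b * a := mul_inv_eq_iff_eq_mul.mp h

theorem card_conj {P Q : G → Prop} (k : G) (h : ∀ g, P g ↔ Q (k * g * k⁻¹)) :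
    Nat.card {g // P g} = Nat.card {g // Q g} :=
  Nat.card_congr ((MulAut.conj k).toEquiv.subtypeEquiv h)

theorem comm_conj_iff {k a a' : G} (e : k * a * k⁻¹ = a') (d : G) :
    d * a = a * d ↔ k * d * k⁻¹ * a' = a' * (k * d * k⁻¹) := by
  rw [← e]
  refine ⟨fun h => conj_comm h k, fun h => ?_⟩
  have := conj_comm h k⁻¹
  simpa [mul_assoc] using this

theorem of_card_le [Finite G] {P Q : G → Prop} (h : ∀ g, P g → Q g)
    (hc : Nat.card {g // Q g} ≤ Nat.card {g // P g}) (g : G) (hg : Q g) : P g := by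
  have := Set.eq_of_subset_of_ncard_le (s := {g | P g}) (t := {g | Q g}) h hc
  exact this.ge hg

/-- `φ` identifies a model group with the centraliser of the image of `z` -/
structure CM {M : Type} [Group M] (φ : M →* G) (z : M) : Prop where
  inj : Function.Injective φ
  cent : ∀ g, g * φ z = φ z * g ↔ ∃ u, φ u = g

theorem exists_cm {M : Type} [Group M] {z : G} (hz : z ≠ 1) (e : M ≃* centralizer ({z} : Set G)) {z0 : M}
    (h0 : ∀ g : M, (∀ u, g * u = u * g) → g = 1 ∨ g = z0) : ∃ φ : M →* G, CM φ z0 ∧ φ z0 = z := by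
  let φ : M →* G := (centralizer ({z} : Set G)).subtype.comp e.toMonoidHom
  have h1 : φ z0 = z := by
    obtain ⟨u, hu⟩ := e.surjective ⟨z, mem_cent.mpr rfl⟩
    have h2 : φ u = z := congrArg Subtype.val hu
    rcases h0 u fun v => e.injective (by
      rw [map_mul, map_mul, hu]
      exact Subtype.ext (mem_cent.mp (e v).2).symm) with rfl | rfl
    · exact absurd (h2.symm.trans (map_one φ)) hz
    · exact h2
  refine ⟨φ, ⟨Subtype.val_injective.comp e.injective, fun g => ?_⟩, h1⟩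
  rw [h1]
  refine ⟨fun h => ?_, fun ⟨u, hu⟩ => hu ▸ mem_cent.mp (e u).2⟩
  obtain ⟨u, hu⟩ := e.surjective ⟨g, mem_cent.mpr h⟩
  exact ⟨u, congrArg Subtype.val hu⟩

namespace CM

variable {M : Type} [Group M] {φ : M →* G} {z : M}

theorem comm (h : CM φ z) (u : M) : φ u * φ z = φ z * φ u := (h.cent _).mpr ⟨u, rfl⟩

/-- if `z` is conjugate to `a ∈ C(z)` then some conjugating element takes a given class representative to `z` -/
theorem back (h : CM φ z) {k : G} {a : M} (hk : k * φ z * k⁻¹ = φ a) (hzz : z * z = 1) (ha : a ≠ z) (ha1 : a ≠ 1) :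
    ∃ u, φ u = k⁻¹ * φ z * k ∧ u * u = 1 ∧ u ≠ 1 ∧ u ≠ z := by
  obtain ⟨u, hu⟩ := (h.cent (k⁻¹ * φ z * k)).mp (by
    have := conj_comm (h.comm a) k⁻¹
    rw [← hk] at this
    calc _ = k⁻¹ * φ z * k⁻¹⁻¹ * (k⁻¹ * (k * φ z * k⁻¹) * k⁻¹⁻¹) := by group
      _ = _ := by rw [← this]; group)
  refine ⟨u, hu, h.inj ?_, fun e => ha1 (h.inj ?_), fun e => ha (h.inj ?_)⟩
  · rw [map_mul, hu, map_one]
    calc _ = k⁻¹ * φ (z * z) * k := by rw [map_mul]; group
      _ = 1 := by rw [hzz, map_one]; group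
  · rw [e, map_one, eq_comm, mul_assoc, inv_mul_eq_one, eq_comm, mul_eq_right] at hu
    rw [← hk, hu, map_one]; group
  · rw [e] at hu
    rw [← hk]
    nth_rw 1 [hu]
    group

theorem adjust (h : CM φ z) {k : G} {u v w : M} (hu : φ u = k⁻¹ * φ z * k) (e : v * w * v⁻¹ = u) :
    (k * φ v) * φ z * (k * φ v)⁻¹ = k * φ z * k⁻¹ ∧ (k * φ v) * φ w * (k * φ v)⁻¹ = φ z := by
  constructor
  · calc _ = k * (φ v * φ z * (φ v)⁻¹) * k⁻¹ := by group
      _ = _ := by rw [conj_eq (h.comm v)]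
  · calc _ = k * φ (v * w * v⁻¹) * k⁻¹ := by simp only [map_mul, map_inv]; group
      _ = _ := by rw [e, hu]; group

theorem fuse (h : CM φ z) {g : G} (hg : g * φ z * g⁻¹ * φ z = φ z * (g * φ z * g⁻¹)) (hne : g * φ z * g⁻¹ ≠ φ z)
    (hzz : z * z = 1) (hz1 : z ≠ 1) : ∃ u, φ u = g * φ z * g⁻¹ ∧ u * u = 1 ∧ u ≠ 1 ∧ u ≠ z := by
  obtain ⟨u, hu⟩ := (h.cent _).mp hg
  refine ⟨u, hu, h.inj ?_, fun e => hz1 (h.inj ?_), fun e => hne (by rw [← hu, e])⟩
  · rw [map_mul, hu, map_one]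
    calc _ = g * φ (z * z) * g⁻¹ := by rw [map_mul]; group
      _ = 1 := by rw [hzz, map_one]; group
  · rw [e, map_one, eq_comm, conj_eq_one_iff] at hu
    rw [hu, map_one]

theorem shift {g : G} {u v w : M} (hu : φ u = g * φ z * g⁻¹) (e : v * w * v⁻¹ = u) :
    ((φ v)⁻¹ * g) * φ z * ((φ v)⁻¹ * g)⁻¹ = φ w := by
  calc _ = (φ v)⁻¹ * (g * φ z * g⁻¹) * φ v := by group
    _ = _ := by rw [← hu, ← e]; simp only [map_mul, map_inv]; group

end CM

/-- the non-split centraliser: `z` is isolated -/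
theorem not_nonsplit {φ : El DK →* G} (h : CM φ kz) {g : G}
    (hg : g * φ kz * g⁻¹ * φ kz = φ kz * (g * φ kz * g⁻¹)) : g * φ kz * g⁻¹ = φ kz := by
  by_contra hne
  obtain ⟨u, hu, h1, h2, h3⟩ := h.fuse hg hne (by decide +kernel) (by decide +kernel)
  obtain ⟨v, hv⟩ := ((k_inv u h1).resolve_left h2).resolve_left h3
  have hk := CM.shift hu hv
  obtain ⟨u', hu', h1', h2', h3'⟩ := h.back hk (by decide +kernel) (by decide +kernel) (by decide +kernel)
  obtain ⟨v', hv'⟩ := ((k_inv u' h1').resolve_left h2').resolve_left h3'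
  obtain ⟨e1, e2⟩ := h.adjust hu' hv'
  rw [hk] at e1
  generalize (φ v)⁻¹ * g * φ v' = k at e1 e2
  have c1 := El.card_sub h.inj (Q := fun d => d * φ kz = φ kz * d ∧ d * φ ke = φ ke * d ∧ d * d = φ kz)
    (fun d hd => (h.cent d).mp hd.1) (fun u => u * ke = ke * u ∧ u * u = kz) fun u => by
      simp only [h.comm, true_and, ← map_mul, h.inj.eq_iff]
  have c2 := El.card_sub h.inj (Q := fun d => d * φ kz = φ kz * d ∧ d * φ ke = φ ke * d ∧ d * d = φ ke)
    (fun d hd => (h.cent d).mp hd.1) (fun u => u * ke = ke * u ∧ u * u = ke) fun u => by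
      simp only [h.comm, true_and, ← map_mul, h.inj.eq_iff]
  rw [k_cnt.1] at c1
  rw [k_cnt.2, ← card_conj (P := fun d => d * φ kz = φ kz * d ∧ d * φ ke = φ ke * d ∧ d * d = φ kz) k fun d => by
    rw [comm_conj_iff e1 d, comm_conj_iff e2 d, ← (MulAut.conj k).injective.eq_iff (a := d * d), map_mul]
    simp only [MulAut.conj_apply, e1]
    tauto, c1] at c2
  exact absurd c2 (by norm_num)

set_option hygiene false in
scoped notation "𝐳" => φ hz
set_option hygiene false in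
scoped notation "𝐞" => φ he
set_option hygiene false in
scoped notation "𝐬" => φ hs
set_option hygiene false in
scoped notation "𝐚" => φ ha
set_option hygiene false in
scoped notation "𝐱" => φ hx
set_option hygiene false in
scoped notation "𝐩" => φ hp

variable {φ : El DH →* G}

theorem card_ca (h : CM φ hz) : Nat.card {d // d * 𝐳 = 𝐳 * d ∧ d * 𝐚 = 𝐚 * d} = 16 :=
  (El.card_sub h.inj (fun d hd => (h.cent d).mp hd.1) (fun u => u * ha = ha * u) fun u => by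
    simp only [h.comm, true_and, ← map_mul, h.inj.eq_iff]).trans h_cnt.1

theorem card_ce (h : CM φ hz) : Nat.card {d // d * 𝐳 = 𝐳 * d ∧ d * 𝐞 = 𝐞 * d} = 192 :=
  (El.card_sub h.inj (fun d hd => (h.cent d).mp hd.1) (fun u => u * he = he * u) fun u => by
    simp only [h.comm, true_and, ← map_mul, h.inj.eq_iff]).trans h_cnt.2.1

/-- if `z` is conjugate to `a`, an element interchanges them -/
theorem swap_a (h : CM φ hz) {k : G} (hk : k * 𝐳 * k⁻¹ = 𝐚) : ∃ k : G, k * 𝐳 * k⁻¹ = 𝐚 ∧ k * 𝐚 * k⁻¹ = 𝐳 := by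
  obtain ⟨u, hu, h1, h2, h3⟩ := h.back hk (by decide +kernel) (by decide +kernel) (by decide +kernel)
  obtain ⟨v, hv | hv⟩ := ((h_inv u h1).resolve_left h2).resolve_left h3 <;> obtain ⟨e1, e2⟩ := h.adjust hu hv <;>
    rw [hk] at e1
  · have := card_conj (P := fun d => d * 𝐳 = 𝐳 * d ∧ d * 𝐞 = 𝐞 * d) (Q := fun d => d * 𝐳 = 𝐳 * d ∧ d * 𝐚 = 𝐚 * d)
      (k * φ v) fun d => by rw [comm_conj_iff e1 d, comm_conj_iff e2 d, and_comm]
    rw [card_ca h, card_ce h] at this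
    exact absurd this (by norm_num)
  · exact ⟨_, e1, e2⟩

theorem conj_e (h : CM φ hz) {g : G} (hg : g * 𝐳 * g⁻¹ * 𝐳 = 𝐳 * (g * 𝐳 * g⁻¹)) (hne : g * 𝐳 * g⁻¹ ≠ 𝐳) :
    ∃ k : G, k * 𝐳 * k⁻¹ = 𝐞 := by
  obtain ⟨u, hu, h1, h2, h3⟩ := h.fuse hg hne (by decide +kernel) (by decide +kernel)
  obtain ⟨v, hv | hv⟩ := ((h_inv u h1).resolve_left h2).resolve_left h3
  · exact ⟨_, CM.shift hu hv⟩
  obtain ⟨k, e1, e2⟩ := swap_a h (CM.shift hu hv)
  have key : ∀ w : El DH, w * ha = ha * w → w ≠ 1 → w ≠ hz → w ≠ ha → (∃ v, v * he * v⁻¹ = w) →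
      (∃ k : G, k * 𝐳 * k⁻¹ = 𝐞) ∨ k * φ w * k⁻¹ = 𝐞 ∨ k * φ w * k⁻¹ = φ (he * hz) := by
    rintro w hw w1 w2 w3 ⟨v, hv⟩
    have c1 := conj_comm (show φ w * 𝐚 = 𝐚 * φ w by rw [← map_mul, hw, map_mul]) k
    have c2 := conj_comm (h.comm w) k
    rw [e2] at c1
    rw [e1] at c2
    obtain ⟨y, hy⟩ := (h.cent _).mp c1
    rw [← hy, ← map_mul, ← map_mul, h.inj.eq_iff] at c2
    have c3 : ∀ m : G, m * 𝐳 * m⁻¹ = φ y → ∃ k : G, k * 𝐳 * k⁻¹ = 𝐞 := fun m hm =>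
      ⟨(φ v)⁻¹ * k⁻¹ * m, by
        calc _ = (φ v)⁻¹ * k⁻¹ * (m * 𝐳 * m⁻¹) * k * φ v := by group
          _ = _ := by rw [hm, hy, ← hv]; simp only [map_mul, map_inv]; group⟩
    rcases h_A y c2 with rfl | rfl | rfl | rfl | ⟨t, ht⟩
    · rw [map_one, eq_comm, conj_eq_one_iff, map_eq_one_iff φ h.inj] at hy
      exact absurd hy w1
    · exact Or.inl (c3 1 (by group))
    · exact Or.inr (Or.inl hy.symm)
    · exact Or.inr (Or.inr hy.symm)
    · exact Or.inl (c3 (φ t * k) (by rw [← ht, map_mul, map_mul, map_inv, ← e1]; group))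
  rcases key he (by decide +kernel) (by decide +kernel) (by decide +kernel) (by decide +kernel)
    ⟨1, by group⟩ with H | H1
  · exact H
  rcases key (he * hz) (by decide +kernel) (by decide +kernel) (by decide +kernel) (by decide +kernel)
    ⟨hs, by decide +kernel⟩ with H | H2
  · exact H
  exfalso
  have e3 : k * 𝐞 * k⁻¹ * (k * φ (he * hz) * k⁻¹) = 𝐚 := by
    calc _ = k * φ (he * (he * hz)) * k⁻¹ := by rw [map_mul φ he (he * hz)]; group
      _ = _ := by rw [show he * (he * hz) = hz by decide +kernel, e1]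
  rcases H1 with H1 | H1 <;> rcases H2 with H2 | H2 <;> rw [H1, H2, ← map_mul, h.inj.eq_iff] at e3 <;>
    exact absurd e3 (by decide +kernel)

/-- the centraliser of `z` together with an element of order 3 normalising `⟨z, e⟩` -/
structure NC (φ : El DH →* G) (f : G) : Prop extends CM φ hz where
  f3 : f * f * f = 1
  sf : 𝐬 * f * 𝐬 = f⁻¹
  xf : 𝐱 * f = f * 𝐱
  fz : f * 𝐳 * f⁻¹ = 𝐞
  fe : f * 𝐞 * f⁻¹ = 𝐞 * 𝐳
  fa : f * 𝐚 * f⁻¹ = 𝐱⁻¹ * 𝐚 * 𝐱

theorem exists_swap (h : CM φ hz) {k : G} (hk : k * 𝐳 * k⁻¹ = 𝐞) :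
    ∃ g : G, g * 𝐳 * g⁻¹ = 𝐞 ∧ g * 𝐞 * g⁻¹ = 𝐳 ∧ (g * 𝐱 * g⁻¹ = 𝐱 ∨ g * 𝐱 * g⁻¹ = 𝐱⁻¹) := by
  obtain ⟨u, hu, h1, h2, h3⟩ := h.back hk (by decide +kernel) (by decide +kernel) (by decide +kernel)
  have c1 := conj_comm (show 𝐱 * 𝐞 = 𝐞 * 𝐱 by rw [← map_mul, ← map_mul]; exact congrArg φ (by decide +kernel)) k⁻¹
  have c2 := conj_comm (h.comm hx) k⁻¹
  rw [← hk, show k⁻¹ * (k * 𝐳 * k⁻¹) * k⁻¹⁻¹ = 𝐳 by group] at c1
  obtain ⟨y, hy⟩ := (h.cent _).mp c1
  have hy3 : y * y * y = 1 := h.inj (by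
    rw [map_mul, map_mul, hy, map_one]
    calc _ = k⁻¹ * φ (hx * hx * hx) * k := by rw [map_mul, map_mul]; group
      _ = 1 := by rw [show hx * hx * hx = 1 by decide +kernel, map_one]; group)
  rcases h_three y hy3 with rfl | ⟨v, hv⟩
  · rw [map_one, eq_comm, conj_eq_one_iff, map_eq_one_iff φ h.inj] at hy
    exact absurd hy (by decide +kernel)
  rw [← hy, inv_inv, ← hu, ← map_mul, ← map_mul, h.inj.eq_iff, ← hv] at c2
  have c3 : (v⁻¹ * u * v) * hx = hx * (v⁻¹ * u * v) := by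
    have := conj_comm c2 v⁻¹
    simpa [mul_assoc] using this.symm
  have c4 : ∀ t : El DH, t * he * t⁻¹ = v⁻¹ * u * v → (t * hx * t⁻¹ = hx ∨ t * hx⁻¹ * t⁻¹ = hx) →
      ∃ g : G, g * 𝐳 * g⁻¹ = 𝐞 ∧ g * 𝐞 * g⁻¹ = 𝐳 ∧ (g * 𝐱 * g⁻¹ = 𝐱 ∨ g * 𝐱 * g⁻¹ = 𝐱⁻¹) := fun t ht ht' => by
    obtain ⟨e1, e2⟩ := h.adjust (v := v * t) (w := he) hu (by
      calc _ = v * (t * he * t⁻¹) * v⁻¹ := by group
        _ = _ := by rw [ht]; group)
    refine ⟨_, e1.trans hk, e2, ?_⟩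
    have e3 : ∀ w, t * w * t⁻¹ = hx → k * φ (v * t) * φ w * (k * φ (v * t))⁻¹ = 𝐱 := fun w hw => by
      calc _ = k * φ (v * (t * w * t⁻¹) * v⁻¹) * k⁻¹ := by simp only [map_mul, map_inv]; group
        _ = _ := by rw [hw, hv, hy]; group
    refine ht'.imp (e3 _) fun H => ?_
    have := congrArg (·⁻¹) (e3 _ H)
    simp only [map_inv φ hx, conj_inv, inv_inv] at this
    exact this
  rcases (h_cx _ c3).1 (by
    calc _ = v⁻¹ * (u * u) * v := by group
      _ = 1 := by rw [h1]; group) with H | H | H | H | H | H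
  · exact absurd (by simpa [mul_assoc] using congrArg (fun w => v * w * v⁻¹) H) h2
  · refine absurd ?_ h3
    have := congrArg (fun w => v * w * v⁻¹) H
    simp only [h_z v] at this
    simpa [mul_assoc] using this
  · exact c4 1 (by rw [H]; group) (Or.inl (by group))
  · exact c4 hs (by rw [H]; decide +kernel) (Or.inl (by decide +kernel))
  · exact c4 hp (by rw [H]; decide +kernel) (Or.inr (by decide +kernel))
  · exact c4 (hp * hs) (by rw [H]; decide +kernel) (Or.inr (by decide +kernel))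

set_option quotPrecheck false in
/-- equations between words in the image of a model group -/
scoped notation "mdl " h:max => (by
  simp only [← map_mul, ← map_inv, ← map_pow, Function.Injective.eq_iff h, map_eq_one_iff _ h, ne_eq]
  decide +kernel)

theorem exists_nc (h : CM φ hz) {k : G} (hk : k * 𝐳 * k⁻¹ = 𝐞) : ∃ f, NC φ f := by
  obtain ⟨g, g1, g2, g3⟩ := exists_swap h hk
  have ss : 𝐬 * 𝐬 = 1 := mdl h.inj
  have si : 𝐬⁻¹ = 𝐬 := mdl h.inj
  have sz : 𝐬 * 𝐳 * 𝐬⁻¹ = 𝐳 := mdl h.inj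
  have se : 𝐬 * 𝐞 * 𝐬⁻¹ = 𝐞 * 𝐳 := mdl h.inj
  have sx : 𝐬 * 𝐱 * 𝐬⁻¹ = 𝐱 := mdl h.inj
  have cj : ∀ y, MulAut.conj (g * 𝐬) y = g * (𝐬 * y * 𝐬⁻¹) * g⁻¹ := fun y => by rw [MulAut.conj_apply]; group
  have m1 : MulAut.conj (g * 𝐬) 𝐳 = 𝐞 := by rw [cj, sz, g1]
  have m2 : MulAut.conj (g * 𝐬) 𝐞 = 𝐞 * 𝐳 := by
    rw [cj, se]
    calc _ = (g * 𝐞 * g⁻¹) * (g * 𝐳 * g⁻¹) := by group
      _ = _ := by rw [g1, g2]; exact mdl h.inj
  have m3 : MulAut.conj (g * 𝐬) 𝐱 = g * 𝐱 * g⁻¹ := by rw [cj, sx]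
  generalize g * 𝐬 = m at m1 m2 m3
  have cube : ∀ {m : G}, MulAut.conj m 𝐳 = 𝐞 → MulAut.conj m 𝐞 = 𝐞 * 𝐳 →
      ∃ u, φ u = m * m * m ∧ u * he = he * u := fun {m} m1 m2 => by
    have m4 : MulAut.conj (m * m * m) 𝐳 = 𝐳 := by
      simp only [map_mul MulAut.conj, MulAut.mul_apply, m1, m2, map_mul (MulAut.conj m)]; exact mdl h.inj
    have m5 : MulAut.conj (m * m * m) 𝐞 = 𝐞 := by
      simp only [map_mul MulAut.conj, MulAut.mul_apply, m1, m2, map_mul (MulAut.conj m)]; exact mdl h.inj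
    obtain ⟨u, hu⟩ := (h.cent _).mp (comm_of_conj m4)
    exact ⟨u, hu, h.inj (by rw [map_mul, map_mul, hu]; exact comm_of_conj m5)⟩
  rcases g3 with g3 | g3 <;> rw [g3] at m3
  swap
  · obtain ⟨u, hu, hu'⟩ := cube m1 m2
    refine absurd (h.inj ?_) (h_noinv u hu')
    rw [map_mul, map_mul, map_inv, hu, ← MulAut.conj_apply]
    simp only [map_mul MulAut.conj, MulAut.mul_apply, m3, map_inv, inv_inv]
  obtain ⟨t, ht⟩ : ∃ t, t = MulAut.conj m 𝐬 := ⟨_, rfl⟩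
  have tt : t * t = 1 := by rw [ht, ← map_mul, ss, map_one]
  have te : t * 𝐞 * t⁻¹ = 𝐞 := by
    have := congrArg (MulAut.conj m) sz
    rwa [map_mul, map_mul, map_inv, m1, ← ht] at this
  have tz : t * 𝐳 * t⁻¹ = 𝐞 * 𝐳 := by
    have := congrArg (MulAut.conj m) se
    rw [map_mul, map_mul, map_inv, map_mul, m1, m2, ← ht] at this
    calc _ = (t * 𝐞 * t⁻¹)⁻¹ * (t * (𝐞 * 𝐳) * t⁻¹) := by group
      _ = _ := by rw [te, this]; exact mdl h.inj
  have tx : t * 𝐱 * t⁻¹ = 𝐱 := by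
    have := congrArg (MulAut.conj m) sx
    rwa [map_mul, map_mul, map_inv, m3, ← ht] at this
  have cj' : ∀ y, MulAut.conj (𝐬 * t) y = 𝐬 * (t * y * t⁻¹) * 𝐬⁻¹ := fun y => by rw [MulAut.conj_apply]; group
  have fz : MulAut.conj (𝐬 * t) 𝐳 = 𝐞 := by rw [cj', tz]; exact mdl h.inj
  have fe : MulAut.conj (𝐬 * t) 𝐞 = 𝐞 * 𝐳 := by rw [cj', te, se]
  have fx : MulAut.conj (𝐬 * t) 𝐱 = 𝐱 := by rw [cj', tx, sx]
  have sf : 𝐬 * (𝐬 * t) * 𝐬 = (𝐬 * t)⁻¹ := by
    rw [← mul_assoc, ss, one_mul, mul_inv_rev, si, inv_eq_of_mul_eq_one_right tt]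
  generalize 𝐬 * t = f at fz fe fx sf
  have f3 : f * f * f = 1 := by
    obtain ⟨u, hu, hu'⟩ := cube fz fe
    rcases (h_cx u (h.inj (by
      rw [map_mul, map_mul, hu]
      refine comm_of_conj ?_
      rw [← MulAut.conj_apply]
      simp only [map_mul MulAut.conj, MulAut.mul_apply, fx]))).2.2 hu' (h.inj (by
      rw [map_mul, map_mul, map_inv, hu]
      calc _ = (𝐬 * f * 𝐬) * (𝐬 * 𝐬)⁻¹ * (𝐬 * f * 𝐬) * (𝐬 * 𝐬)⁻¹ * (𝐬 * f * 𝐬) := by group
        _ = _ := by rw [sf, ss]; group)) with rfl | rfl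
    · rw [← hu, map_one]
    · rw [MulAut.conj_apply, hu, show f * (f * f * f) * f⁻¹ = f * f * f by group, ← hu] at fz
      exact absurd fz (mdl h.inj)
  have six : ∀ w, w * he = he * w → w * w = 1 → w * (hx * w * hx⁻¹) * (hx⁻¹ * w * hx) = 1 → w ≠ 1 →
      ∃ u, φ u = MulAut.conj f (φ w) ∧ (u = ha ∨ u = hx * ha * hx⁻¹ ∨ u = hx⁻¹ * ha * hx ∨ (u * hs ≠ hs * u ∧
      (u = hs * ha * hs ∨ hs * u * hs = hx * ha * hx⁻¹ ∨ hs * u * hs = hx⁻¹ * ha * hx))) := by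
    intro w w1 w2 w3 w4
    have c1 := congrArg (MulAut.conj f) (h.comm w)
    have c2 := congrArg (fun y => MulAut.conj f (φ y)) w1
    have c3 := congrArg (fun y => MulAut.conj f (φ y)) w2
    have c4 := congrArg (fun y => MulAut.conj f (φ y)) w3
    simp only [map_mul, map_one, map_inv, fz, fe, fx] at c1 c2 c3 c4
    obtain ⟨u, hu⟩ := (h.cent (MulAut.conj f (φ w))).mp (by
      rw [← mul_assoc, c1, mul_assoc, mul_assoc] at c2
      exact mul_left_cancel c2)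
    rw [← hu] at c1 c3 c4
    simp only [← map_mul, ← map_inv, h.inj.eq_iff, map_eq_one_iff _ h.inj] at c1 c3 c4
    refine ⟨u, hu, (h_six u c1 c3 c4).resolve_left fun e => w4 ?_⟩
    rwa [e, map_one, eq_comm, map_eq_one_iff _ (MulAut.conj f).injective, map_eq_one_iff _ h.inj] at hu
  have hs2 : ∀ y y', MulAut.conj f y = y' → MulAut.conj f (𝐬 * y' * 𝐬) = 𝐬 * y * 𝐬 := fun y y' e => by
    have k1 : f * 𝐬 * f = 𝐬 := by
      calc _ = f * (𝐬 * f * 𝐬) * 𝐬⁻¹ := by group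
        _ = _ := by rw [sf, si]; group
    have k2 : f⁻¹ * 𝐬 * f⁻¹ = 𝐬 := by nth_rw 1 [← k1]; group
    rw [← e, MulAut.conj_apply, MulAut.conj_apply]
    calc _ = (f * 𝐬 * f) * y * (f⁻¹ * 𝐬 * f⁻¹) := by group
      _ = _ := by rw [k1, k2]
  obtain ⟨u, hu, H⟩ := six ha (by decide +kernel) (by decide +kernel) (by decide +kernel) (by decide +kernel)
  have hb := hs2 _ _ hu.symm
  have hx' : ∀ v w : El DH, MulAut.conj f (φ v) = φ w → MulAut.conj f (φ (hx * v * hx⁻¹)) = φ (hx * w * hx⁻¹) ∧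
      MulAut.conj f (φ (hx⁻¹ * v * hx)) = φ (hx⁻¹ * w * hx) := fun v w e => by
    simp only [map_mul, map_inv, fx, e, and_self]
  have hz0 : ∀ b v, MulAut.conj f (φ b) = φ v → b * ha * b * ha = hz → v * u * v * u = he := fun b v e e' =>
    h.inj (by rw [← fz, ← e']; simp only [map_mul, e, hu])
  have hz' := fun v e => hz0 (hs * ha * hs) v e (by decide +kernel)
  simp only [← map_mul φ] at hb
  rcases H with rfl | rfl | rfl | ⟨H0, rfl | H | H⟩
  · exact absurd (hz' _ hb) (by decide +kernel)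
  · have := (hx' _ _ hb).2
    rw [show hx⁻¹ * (hs * (hx * ha * hx⁻¹) * hs) * hx = hs * ha * hs by decide +kernel] at this
    exact absurd (hz' _ this) (by decide +kernel)
  · exact ⟨f, h, f3, sf, (comm_of_conj fx).symm, fz, fe, hu.symm.trans (by simp only [map_mul, map_inv])⟩
  · obtain ⟨v, hv, H⟩ := six (hs * ha * hs) (by decide +kernel) (by decide +kernel) (by decide +kernel)
      (by decide +kernel)
    have e1 := hs2 _ _ hv.symm
    have e2 : MulAut.conj f (φ v) = 𝐚 := by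
      rw [hv, hu, ← MulAut.mul_apply, ← MulAut.mul_apply, ← map_mul, ← map_mul, f3, map_one, MulAut.one_apply]
    have e3 : 𝐬 * φ (hs * ha * hs) * 𝐬 = 𝐚 := mdl h.inj
    rw [e3, ← e2, (MulAut.conj f).injective.eq_iff, ← map_mul, ← map_mul, h.inj.eq_iff] at e1
    have e4 : v * hs = hs * v := by
      nth_rw 2 [← e1]
      rw [← mul_assoc, ← mul_assoc, show hs * hs = 1 by decide +kernel, one_mul]
    rcases H with rfl | rfl | rfl | H
    exacts [absurd e4 (by decide +kernel), absurd e4 (by decide +kernel), absurd e4 (by decide +kernel),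
      absurd e4 H.1]
  · rw [H, (hx' _ _ hu.symm).1, h.inj.eq_iff] at hb
    rw [← show hs * (hs * u * hs) * hs = u by
      rw [← mul_assoc, ← mul_assoc, mul_assoc _ hs hs, show hs * hs = 1 by decide +kernel, one_mul, mul_one], H] at hb
    exact absurd hb (by decide +kernel)
  · rw [H, (hx' _ _ hu.symm).2, h.inj.eq_iff] at hb
    rw [← show hs * (hs * u * hs) * hs = u by
      rw [← mul_assoc, ← mul_assoc, mul_assoc _ hs hs, show hs * hs = 1 by decide +kernel, one_mul, mul_one], H] at hb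
    exact absurd hb (by decide +kernel)

/-- the image of a Sylow 2-subgroup of the model is a Sylow 2-subgroup of `G` -/
theorem exists_sylow [Finite G] (h : CM φ hz) : ∃ S : Subgroup G, IsSylowOf 2 S ⊤ ∧ S ≤ φ.range := by
  haveI : Fact (Nat.Prime 2) := ⟨Nat.prime_two⟩
  obtain ⟨S, hS⟩ := exists_isSylowOf 2 φ.range
  have h128 : 128 ∣ Nat.card S := by
    have h1 := card_mul_relIndex hS.le
    rw [El.card_range h.inj] at h1
    have h2 : Nat.Coprime 128 (S.relIndex φ.range) :=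
      Nat.Coprime.pow_left 7 ((Nat.Prime.coprime_iff_not_dvd Nat.prime_two).mpr hS.not_dvd)
    exact h2.dvd_of_dvd_mul_right (h1 ▸ (by decide : 128 ∣ DH.n))
  have hz2 : orderOf 𝐳 = 2 := Inv.two_of_mul_self (mdl h.inj) (mdl h.inj)
  have hcen : ∀ g ∈ φ.range, g * 𝐳 = 𝐳 * g := fun g hg => (h.cent g).mpr hg
  have hzS : 𝐳 ∈ S := hS.normal_le (Q := zpowers 𝐳) (J1.isPGroup_zpowers hz2) (zpowers_le.mpr ⟨_, rfl⟩)
    (fun g hg => J1.mem_norm_zpowers_iff.mpr (by rw [conj_eq (hcen g hg)]; exact mem_zpowers _)) (mem_zpowers _)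
  refine ⟨S, IsSylowOf.of_normalizer ⟨le_inf le_top le_normalizer, hS.isPGroup, ?_⟩, hS.le⟩
  refine (hS.of_le (le_inf le_top le_normalizer) fun g hg => (h.cent g).mp ?_).not_dvd
  by_contra hne
  have hw : g * 𝐳 * g⁻¹ ∈ S := (mem_normalizer_iff.mp hg.2 _).mp hzS
  obtain ⟨u, hu, h1, h2, h3⟩ := h.fuse (hcen _ (hS.le hw)) (fun e => hne (comm_of_conj e))
    (by decide +kernel) (by decide +kernel)
  have key : ∀ v w : El DH, v * w * v⁻¹ = u → 128 ∣ Nat.card {d // d * 𝐳 = 𝐳 * d ∧ d * φ w = φ w * d} := by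
    intro v w e
    rw [card_conj (Q := fun d => d ∈ centralizer {𝐳} ⊓ centralizer {φ u}) (φ v) fun d => by
      rw [mem_inf, mem_cent, mem_cent, comm_conj_iff (conj_eq (h.comm v)) d, comm_conj_iff (k := φ v)
        (a := φ w) (a' := φ u) (by rw [← e]; simp only [map_mul, map_inv]) d]]
    refine h128.trans (card_dvd_of_le fun d hd => ⟨mem_cent.mpr (hcen d (hS.le hd)), mem_cent.mpr ?_⟩)
    rw [hu, comm_conj_iff (k := g⁻¹) (a' := 𝐳) (by group) d]
    exact hcen _ (hS.le ((mem_normalizer_iff.mp (inv_mem hg.2) _).mp hd))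
  obtain ⟨v, hv | hv⟩ := ((h_inv u h1).resolve_left h2).resolve_left h3
  · exact absurd (card_ce h ▸ key _ _ hv) (by norm_num)
  · exact absurd (card_ca h ▸ key _ _ hv) (by norm_num)

theorem inv_classes [Finite G] (h : CM φ hz) {t : G} (ht : orderOf t = 2) :
    IsConj 𝐳 t ∨ IsConj 𝐞 t ∨ IsConj 𝐚 t := by
  haveI : Fact (Nat.Prime 2) := ⟨Nat.prime_two⟩
  obtain ⟨S, hS, hle⟩ := exists_sylow h
  obtain ⟨k, -, hk⟩ := hS.exists_conj_le (J1.isPGroup_zpowers ht) le_top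
  obtain ⟨u, hu⟩ := hle (conj_smul_le_iff.mp hk t (mem_zpowers t))
  have h2 := Inv.two_conj ht k
  rw [← hu] at h2
  have c : ∀ v w, v * w * v⁻¹ = u → IsConj (φ w) t := fun v w e =>
    isConj_iff.mpr ⟨k⁻¹ * φ v, by
      calc _ = k⁻¹ * φ (v * w * v⁻¹) * k := by simp only [map_mul, map_inv]; group
        _ = _ := by rw [e, hu]; group⟩
  rcases h_inv u (h.inj (by rw [map_mul, map_one]; exact Inv.mul_self_of_two h2)) with rfl | rfl | ⟨v, e | e⟩
  · exact absurd (map_one φ) (Inv.ne_one_of_two h2)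
  · exact Or.inl (c 1 _ (by group))
  · exact Or.inr (Or.inl (c _ _ e))
  · exact Or.inr (Or.inr (c _ _ e))

end Cfsg.Agent.HJ
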