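import Cfsg.Agent.HJ.TabQ
import Cfsg.Agent.HJ.TabH
import Cfsg.Agent.HJ.TabK
import Cfsg.Agent.S4416
import Cfsg.Agent.PGrp.Special

/-!
# HJ/Ident: a group `H` with a self-centralising normal extraspecial subgroup of order 32 and index 60 is one of
the two groups `2^{1+4}_-.A₅`
-/

set_option autoImplicit false
set_option maxRecDepth 100000
set_option synthInstance.maxSize 100000

namespace Cfsg.Agent.HJ

open Cfsg.Agent.Comp Cfsg.Agent.Core Subgroup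

def qz : El DQ := ⟨nat_lit 1, by decide +kernel⟩

def ε (i : Fin 5) : El DQ :=
  ⟨if i = 4 then nat_lit 30 else i.1 + 2, by revert i; decide +kernel⟩

def pr (u : El DQ) : Fin 5 := if u.v < 30 then Fin.ofNat 5 ((u.v + 2) % 4) else 4

theorem q_cent : ∀ u : El DQ, (∀ v, v * u = u * v) ↔ u = 1 ∨ u = qz := by decide +kernel

theorem q_sq : ∀ u : El DQ, u * u = 1 → u = 1 ∨ u = qz ∨ u = ε (pr u) ∨ u = ε (pr u) * qz := by decide +kernel

theorem q_pr : ∀ i, pr (ε i) = i ∧ pr (ε i * qz) = i ∧ ε i * ε i = 1 ∧ ε i ≠ 1 ∧ ε i ≠ qz := by decide +kernel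

theorem q_prod : ∀ u : El DQ, ∃ v w, v * v = 1 ∧ w * w = 1 ∧ u = v * w := by decide +kernel

theorem q_inn : ∀ u : El DQ, ∀ i, u * ε i * u⁻¹ = ε i ∨ u * ε i * u⁻¹ = ε i * qz := by decide +kernel

theorem q_one : ε 0 * ε 1 * ε 2 * ε 3 * ε 4 = 1 := by decide +kernel

/-- signs can be removed by an inner automorphism -/
def Adj (π : Fin 5 → Fin 5) : Prop :=
  ∀ y0 : El DQ, y0 = ε (π 0) ∨ y0 = ε (π 0) * qz → ∀ y1 : El DQ, y1 = ε (π 1) ∨ y1 = ε (π 1) * qz →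
  ∀ y2 : El DQ, y2 = ε (π 2) ∨ y2 = ε (π 2) * qz → ∀ y3 : El DQ, y3 = ε (π 3) ∨ y3 = ε (π 3) * qz →
  ∀ y4 : El DQ, y4 = ε (π 4) ∨ y4 = ε (π 4) * qz → y0 * y1 * y2 * y3 * y4 = 1 →
    ∃ q : El DQ, q * y0 * q⁻¹ = ε (π 0) ∧ q * y1 * q⁻¹ = ε (π 1) ∧ q * y2 * q⁻¹ = ε (π 2) ∧
      q * y3 * q⁻¹ = ε (π 3) ∧ q * y4 * q⁻¹ = ε (π 4)

theorem adj_one : Adj (1 : Equiv.Perm (Fin 5)) := by unfold Adj; decide +kernel

def πa : Equiv.Perm (Fin 5) := Equiv.swap 1 2 * Equiv.swap 3 4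
def πb : Equiv.Perm (Fin 5) := Equiv.swap 0 4 * Equiv.swap 0 3 * Equiv.swap 0 2 * Equiv.swap 0 1

theorem adj_a : Adj πa := by unfold Adj; decide +kernel
theorem adj_b : Adj πb := by unfold Adj; decide +kernel

theorem q_facts : qz ≠ 1 ∧ qz * qz = 1 ∧ ε 0 * ε 1 * (ε 0)⁻¹ * (ε 1)⁻¹ = qz ∧ ε 0 * ε 1 * ε 0 * ε 1 * qz = 1 ∧
    ε 0 * ε 2 * ε 0 * ε 2 * qz = 1 ∧ qz * ε 0 * qz * ε 0 = 1 := by decide +kernel

theorem q_comm : ∀ u v : El DQ, u * v * u⁻¹ * v⁻¹ = 1 ∨ u * v * u⁻¹ * v⁻¹ = qz := by decide +kernel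

theorem extraspecial_DQ : IsExtraspecial 2 (El DQ) := by
  haveI : Fact (Nat.Prime 2) := ⟨Nat.prime_two⟩
  have hm : ∀ u : El DQ, u ∈ (⊤ : Subgroup (El DQ)) ⊓ centralizer ((⊤ : Subgroup (El DQ)) : Set (El DQ)) ↔
      u = 1 ∨ u = qz := fun u => by
    rw [← q_cent, mem_inf, mem_centralizer_iff]
    exact ⟨fun h v => h.2 v trivial, fun h => ⟨trivial, fun v _ => h v⟩⟩
  refine PGrp.isExtraspecial_of_equiv topEquiv (PGrp.isExtraspecial_iff.mpr ⟨?_, ?_, ?_, fun x _ => ?_⟩)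
  · exact IsPGroup.of_card (n := 5) (by rw [card_top, El.card_El]; rfl)
  · exact (Nat.card_congr (Equiv.subtypeEquivRight hm)).trans
      ((El.card_eq_cnt _).trans (by decide +kernel))
  · refine le_antisymm (commutator_le.mpr fun u _ v _ => (hm _).mpr (q_comm u v)) fun u hu => ?_
    rcases (hm u).mp hu with rfl | rfl
    · exact one_mem _
    · rw [← q_facts.2.2.1]
      exact commutator_mem_commutator (mem_top _) (mem_top _)
  · exact ((hm _).mpr ((by decide +kernel : ∀ x : El DQ, x ^ 2 = 1 ∨ x ^ 2 = qz) x)).2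

variable {H : Type*} [Group H] [Finite H] {Q : Subgroup H} [Q.Normal]

theorem card_sq (hX : IsExtraspecial 2 Q) (h32 : Nat.card Q = 32) (hC : centralizer (Q : Set H) ≤ Q)
    (h60 : Q.index = 60) : Nat.card {x : Q // x ^ 2 = 1} = 12 := by
  classical
  haveI : Fact (Nat.Prime 5) := ⟨by norm_num⟩
  haveI := Fintype.ofFinite Q
  obtain ⟨b, hb⟩ := exists_prime_orderOf_dvd_card' (G := H) 5 (by
    rw [← Q.card_mul_index, h32, h60]; norm_num)
  let σ : MulAut Q := MulAut.conjNormal b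
  have hσ : σ ^ 5 = 1 := by rw [← map_pow, ← hb, pow_orderOf_eq_one, map_one]
  let F : Subgroup Q := σ.toMonoidHom.eqLocus (MonoidHom.id Q)
  have h1 : Nat.card F ∣ 32 := h32 ▸ card_subgroup_dvd_card F
  have h2 : 32 ≡ Nat.card F [MOD 5] := by
    have := Equiv.Perm.card_fixedPoints_modEq (f := (σ : Q → Q)) (p := 5) (n := 1) (by
      funext x
      change σ (σ (σ (σ (σ x)))) = x
      exact congrArg (fun τ : MulAut Q => τ x) hσ)
    rwa [← Nat.card_eq_fintype_card, ← Nat.card_eq_fintype_card, h32] at this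
  have h3 : Nat.card F ≠ 32 := fun h => by
    have hF : F = ⊤ := eq_top_of_card_eq F (h.trans h32.symm)
    have hbQ : b ∈ Q := hC fun x hx => by
      have : σ ⟨x, hx⟩ = ⟨x, hx⟩ := hF.ge (mem_top _)
      have := congrArg Subtype.val this
      rw [MulAut.conjNormal_apply, mul_inv_eq_iff_eq_mul] at this
      exact this.symm
    have := Subgroup.orderOf_dvd_natCard Q hbQ
    rw [hb, h32] at this
    exact absurd this (by norm_num)
  have h4 : Nat.card F = 2 :=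
    (by decide +kernel : ∀ n ≤ 32, n ∣ 32 → 32 % 5 = n % 5 → n ≠ 32 → n = 2) _ (Nat.le_of_dvd (by norm_num) h1) h1 h2 h3
  let f : {x : Q // x ^ 2 = 1} → {x : Q // x ^ 2 = 1} := fun x => ⟨σ x, by rw [← map_pow, x.2, map_one]⟩
  have h5 := Equiv.Perm.card_fixedPoints_modEq (f := f) (p := 5) (n := 1) (by
    funext x
    apply Subtype.ext
    change σ (σ (σ (σ (σ x)))) = x
    exact congrArg (fun τ : MulAut Q => τ x) hσ)
  rw [← Nat.card_eq_fintype_card, ← Nat.card_eq_fintype_card] at h5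
  have h6 : Nat.card (Function.fixedPoints f) ≤ 2 := (Nat.card_le_card_of_injective
    (fun x : Function.fixedPoints f => (⟨x.1.1, congrArg Subtype.val (show f x = x from x.2)⟩ : F))
    fun x y e => Subtype.ext (Subtype.ext (congrArg (fun u : F => u.1) e))).trans h4.le
  have h7 : 0 < Nat.card (Function.fixedPoints f) :=
    Nat.card_pos_iff.mpr ⟨⟨⟨⟨1, one_pow 2⟩, Subtype.ext (map_one σ)⟩⟩, inferInstance⟩
  obtain ⟨m, -, h8, h9⟩ := (S4416.result.{_, 0} Q hX).1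
  obtain rfl : m = 2 := by
    rw [h32] at h8
    have := Nat.pow_right_injective le_rfl (show 2 ^ 5 = 2 ^ (2 * m + 1) from h8)
    omega
  unfold Nat.ModEq at h5
  omega

theorem inj_wit : ∀ g : El DH, g = 1 ∨ g = El.l DH 0 ∨ ∃ i < 5,
    (fun c => c = El.l DH 0 ∨ c * (El.l DH 4 ^ i * El.l DH 1 * (El.l DH 4 ^ i)⁻¹) * c⁻¹ *
      (El.l DH 4 ^ i * El.l DH 1 * (El.l DH 4 ^ i)⁻¹)⁻¹ = El.l DH 0)
      (g * (El.l DH 4 ^ i * El.l DH 1 * (El.l DH 4 ^ i)⁻¹) * g⁻¹ * (El.l DH 4 ^ i * El.l DH 1 * (El.l DH 4 ^ i)⁻¹)⁻¹) := by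
  decide +kernel

theorem inj_wit' : ∀ g : El DK, g = 1 ∨ g = El.l DK 0 ∨ ∃ i < 5,
    (fun c => c = El.l DK 0 ∨ c * (El.l DK 4 ^ i * El.l DK 1 * (El.l DK 4 ^ i)⁻¹) * c⁻¹ *
      (El.l DK 4 ^ i * El.l DK 1 * (El.l DK 4 ^ i)⁻¹)⁻¹ = El.l DK 0)
      (g * (El.l DK 4 ^ i * El.l DK 1 * (El.l DK 4 ^ i)⁻¹) * g⁻¹ * (El.l DK 4 ^ i * El.l DK 1 * (El.l DK 4 ^ i)⁻¹)⁻¹) := by
  decide +kernel

omit [Finite H] in
theorem inj_of_wit {M : Type} [Group M] {z : M} {e : ℕ → M} (h : ∀ g : M, g = 1 ∨ g = z ∨ ∃ i < 5,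
    (fun c => c = z ∨ c * e i * c⁻¹ * (e i)⁻¹ = z) (g * e i * g⁻¹ * (e i)⁻¹)) {φ : M →* H} (hz : φ z ≠ 1) :
    Function.Injective φ := by
  rw [injective_iff_map_eq_one]
  intro g hg
  rcases h g with h | rfl | ⟨i, -, h | h⟩
  · exact h
  · exact absurd hg hz
  · exact absurd (by rw [← h]; simp [hg]) hz
  · exact absurd (by rw [← h]; simp [hg]) hz

theorem ident (hX : IsExtraspecial 2 Q) (h32 : Nat.card Q = 32) (hC : centralizer (Q : Set H) ≤ Q)
    (h60 : Q.index = 60) : Nonempty (El DH ≃* H) ∨ Nonempty (El DK ≃* H) := by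
  classical
  obtain ⟨e⟩ := (S4416.result (El DQ) extraspecial_DQ).2 Q hX (h32.trans (El.card_El (D := DQ)).symm)
    ((card_sq hX h32 hC h60).trans ((El.card_eq_cnt _).trans (by decide +kernel)).symm)
  let ψ : El DQ →* H := Q.subtype.comp e.toMonoidHom
  have hψ : Function.Injective ψ := Subtype.val_injective.comp e.injective
  let θ : H →* MulAut (El DQ) := (MulAut.congr e).symm.toMonoidHom.comp MulAut.conjNormal
  have hθ : ∀ h u, ψ (θ h u) = h * ψ u * h⁻¹ := fun h u => by simp [ψ, θ, MulAut.congr]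
  have hθψ : ∀ q u, θ (ψ q) u = q * u * q⁻¹ := fun q u => hψ (by rw [hθ, map_mul, map_mul, map_inv])
  have hθz : ∀ h, θ h qz = qz := fun h => by
    refine ((q_cent _).mp fun v => ?_).resolve_left (by simpa using q_facts.1)
    obtain ⟨w, rfl⟩ := (θ h).surjective v
    rw [← map_mul, ← map_mul, (q_cent qz).mpr (Or.inr rfl)]
  have hθε : ∀ h i, θ h (ε i) = ε (pr (θ h (ε i))) ∨ θ h (ε i) = ε (pr (θ h (ε i))) * qz := fun h i => by
    obtain ⟨-, -, h1, h2, h3⟩ := q_pr i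
    refine ((q_sq _ (by rw [← map_mul, h1, map_one])).resolve_left (by simpa using h2)).resolve_left fun h4 => ?_
    exact h3 ((θ h).injective (h4.trans (hθz h).symm))
  let ρ0 : H →* Function.End (Fin 5) :=
    { toFun := fun h i => pr (θ h (ε i))
      map_one' := funext fun i => by rw [map_one]; exact (q_pr i).1
      map_mul' := fun g h => funext fun i => by
        change pr (θ (g * h) (ε i)) = pr (θ g (ε (pr (θ h (ε i)))))
        rw [map_mul, MulAut.mul_apply]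
        generalize hj : pr (θ h (ε i)) = j
        rcases hθε h i with h1 | h1 <;> rw [hj] at h1 <;> rw [h1]
        rw [map_mul, hθz]
        rcases hθε g j with h2 | h2 <;> generalize pr (θ g (ε j)) = k at h2 <;> rw [h2]
        · exact (q_pr k).2.1
        · rw [mul_assoc, q_facts.2.1, mul_one]; exact (q_pr k).1 }
  let ρ : H →* Equiv.Perm (Fin 5) := ρ0.toHomPerm
  have hρ : ∀ h i, ρ h i = pr (θ h (ε i)) := fun _ _ => rfl
  have hadj : ∀ h, Adj (ρ h) → ∃ q, ∀ i, (ψ q * h) * ψ (ε i) * (ψ q * h)⁻¹ = ψ (ε (ρ h i)) := fun h H => by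
    obtain ⟨q, h0, h1, h2, h3, h4⟩ := H _ (hθε h 0) _ (hθε h 1) _ (hθε h 2) _ (hθε h 3) _ (hθε h 4)
      (by rw [← map_mul, ← map_mul, ← map_mul, ← map_mul, q_one, map_one])
    refine ⟨q, fun i => ?_⟩
    rw [← hθ, map_mul, MulAut.mul_apply, hθψ]
    congr 1
    fin_cases i <;> assumption
  have hz : ∀ h, h * ψ qz * h⁻¹ = ψ qz := fun h => by rw [← hθ, hθz]
  have hcen : ∀ h, (∀ i, h * ψ (ε i) * h⁻¹ = ψ (ε i)) → h = 1 ∨ h = ψ qz := fun h H => by
    have h1 : ∀ u, u * u = 1 → θ h u = u := fun u hu => by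
      have h2 : ∀ i, θ h (ε i) = ε i := fun i => hψ ((hθ _ _).trans (H i))
      rcases q_sq u hu with h3 | h3 | h3 | h3 <;> generalize pr u = k at h3 <;> rw [h3]
      exacts [map_one _, hθz h, h2 k, by rw [map_mul, h2, hθz]]
    have h2 : ∀ u, θ h u = u := fun u => by
      obtain ⟨v, w, hv, hw, rfl⟩ := q_prod u
      rw [map_mul, h1 v hv, h1 w hw]
    have h3 : h ∈ Q := hC fun x hx => by
      have := hθ h (e.symm ⟨x, hx⟩)
      rw [h2, eq_mul_inv_iff_mul_eq] at this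
      simpa [ψ] using this
    obtain ⟨q, rfl⟩ : ∃ q, ψ q = h := ⟨e.symm ⟨h, h3⟩, by simp [ψ]⟩
    rcases (q_cent q).mp fun v => (by
      have := (hθψ q v).symm.trans (h2 v)
      rw [mul_inv_eq_iff_eq_mul] at this
      exact this.symm) with rfl | rfl
    exacts [Or.inl (map_one _), Or.inr rfl]
  have hker : ρ.ker = Q := by
    ext h
    rw [MonoidHom.mem_ker]
    constructor
    · intro h1
      obtain ⟨q, hq⟩ := hadj h (h1 ▸ adj_one)
      rw [h1] at hq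
      have h2 : ψ q * h ∈ Q := by
        rcases hcen _ hq with h2 | h2 <;> rw [h2]
        exacts [one_mem _, (e qz).2]
      exact (Q.mul_mem_cancel_left (e q).2).mp h2
    · intro h1
      obtain ⟨q, rfl⟩ : ∃ q, ψ q = h := ⟨e.symm ⟨h, h1⟩, by simp [ψ]⟩
      ext i
      rw [hρ, hθψ]
      rcases q_inn q i with h2 | h2 <;> rw [h2]
      exacts [congrArg _ (q_pr i).1, congrArg _ (q_pr i).2.1]
  have hrange : ρ.range = alternatingGroup (Fin 5) := by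
    apply Equiv.Perm.eq_alternatingGroup_of_index_eq_two
    have h1 := ρ.range.card_mul_index
    rw [← index_ker, hker, h60, Nat.card_perm, Nat.card_eq_fintype_card, Fintype.card_fin] at h1
    simp only [Nat.factorial] at h1
    omega
  obtain ⟨a0, ha0⟩ : πa ∈ ρ.range := hrange ▸ Equiv.Perm.mem_alternatingGroup.mpr (by decide)
  obtain ⟨b0, hb0⟩ : πb ∈ ρ.range := hrange ▸ Equiv.Perm.mem_alternatingGroup.mpr (by decide)
  obtain ⟨a1, ha1⟩ : ∃ a, ∀ i, a * ψ (ε i) * a⁻¹ = ψ (ε (πa i)) := by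
    obtain ⟨q, hq⟩ := hadj a0 (ha0 ▸ adj_a)
    exact ⟨_, ha0 ▸ hq⟩
  obtain ⟨b1, hb1⟩ : ∃ b, ∀ i, b * ψ (ε i) * b⁻¹ = ψ (ε (πb i)) := by
    obtain ⟨q, hq⟩ := hadj b0 (hb0 ▸ adj_b)
    exact ⟨_, hb0 ▸ hq⟩
  set z := ψ qz with hzdef
  have hzz : z * z = 1 := by rw [hzdef, ← map_mul, q_facts.2.1, map_one]
  have hz1 : z ≠ 1 := fun h => q_facts.1 (hψ (h.trans (map_one _).symm))
  have hzc : ∀ h, Commute h z := fun h => mul_inv_eq_iff_eq_mul.mp (hz h)
  have hmul : ∀ {g h : H} {σ τ : Equiv.Perm (Fin 5)}, (∀ i, g * ψ (ε i) * g⁻¹ = ψ (ε (σ i))) →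
      (∀ i, h * ψ (ε i) * h⁻¹ = ψ (ε (τ i))) → ∀ i, (g * h) * ψ (ε i) * (g * h)⁻¹ = ψ (ε ((σ * τ) i)) :=
    fun {g h σ τ} hg hh i => by rw [Equiv.Perm.mul_apply, ← hg, ← hh]; group
  have hmz : ∀ {g : H} {σ : Equiv.Perm (Fin 5)}, (∀ i, g * ψ (ε i) * g⁻¹ = ψ (ε (σ i))) →
      ∀ i, (g * z) * ψ (ε i) * (g * z)⁻¹ = ψ (ε (σ i)) := fun {g σ} hg i => by
    rw [← hg, mul_assoc g, ← (hzc _).eq]; group
  obtain ⟨b, hb, hb5⟩ : ∃ b, (∀ i, b * ψ (ε i) * b⁻¹ = ψ (ε (πb i))) ∧ b ^ 5 = 1 := by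
    have h1 := hmul hb1 (hmul hb1 (hmul hb1 (hmul hb1 hb1)))
    rw [show πb * (πb * (πb * (πb * πb))) = 1 by decide] at h1
    rcases hcen _ h1 with h2 | h2
    · exact ⟨b1, hb1, by rw [← h2]; simp only [pow_succ, pow_zero, one_mul, mul_assoc]⟩
    · refine ⟨b1 * z, hmz hb1, ?_⟩
      rw [(hzc b1).mul_pow, show b1 ^ 5 = z by rw [← h2]; simp only [pow_succ, pow_zero, one_mul, mul_assoc],
        show z * z ^ 5 = (z * z) ^ 3 by simp only [pow_succ, pow_zero, one_mul, mul_assoc], hzz, one_pow]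
  obtain ⟨a, ha, ha3⟩ : ∃ a, (∀ i, a * ψ (ε i) * a⁻¹ = ψ (ε (πa i))) ∧ (a * b) ^ 3 = 1 := by
    have h0 := hmul ha1 hb
    have h1 := hmul h0 (hmul h0 h0)
    rw [show πa * πb * (πa * πb * (πa * πb)) = 1 by decide] at h1
    rcases hcen _ h1 with h2 | h2
    · exact ⟨a1, ha1, by rw [← h2]; simp only [pow_succ, pow_zero, one_mul, mul_assoc]⟩
    · refine ⟨a1 * z, hmz ha1, ?_⟩
      rw [mul_assoc, ← (hzc b).eq, ← mul_assoc, (hzc _).mul_pow,
        show (a1 * b) ^ 3 = z by rw [← h2]; simp only [pow_succ, pow_zero, one_mul, mul_assoc],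
        show z * z ^ 3 = (z * z) ^ 2 by simp only [pow_succ, pow_zero, one_mul, mul_assoc], hzz, one_pow]
  have e1 : b * ψ (ε 0) * b⁻¹ = ψ (ε 1) := hb 0
  have e2 : b * ψ (ε 1) * b⁻¹ = ψ (ε 2) := hb 1
  have e3 : b * ψ (ε 2) * b⁻¹ = ψ (ε 3) := hb 2
  have e4 : b * ψ (ε 3) * b⁻¹ = ψ (ε 4) := hb 3
  have e0 : b * ψ (ε 4) * b⁻¹ = ψ (ε 0) := hb 4
  have f0 : a * ψ (ε 0) * a⁻¹ = ψ (ε 0) := ha 0
  have f1 : a * ψ (ε 1) * a⁻¹ = ψ (ε 2) := ha 1
  have f3 : a * ψ (ε 3) * a⁻¹ = ψ (ε 4) := ha 3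
  have hsq : ∀ i, ψ (ε i) * ψ (ε i) = 1 := fun i => by rw [← map_mul, (q_pr i).2.2.1, map_one]
  have g1 := congrArg ψ q_facts.2.2.2.1
  have g2 := congrArg ψ q_facts.2.2.2.2.1
  have g3 := congrArg ψ q_facts.2.2.2.2.2
  have g4 := congrArg ψ q_one
  simp only [map_mul, map_one, ← hzdef] at g1 g2 g3 g4
  set x := ψ (ε 0)
  let c : ℕ → H := fun n => [z, x, a, a⁻¹, b, b⁻¹].getD n 1
  have hsat : ∀ w ∈ RDH, w ≠ [2, 2] → ev c w = 1 := by
    intro w hw hne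
    simp only [RDH, List.mem_cons, List.not_mem_nil, or_false] at hw
    rcases hw with rfl | rfl | rfl | rfl | rfl | rfl | rfl | rfl | rfl | rfl | rfl | rfl | rfl | rfl | rfl | rfl |
      rfl | rfl <;> simp only [ev_cons, ev_nil, c, List.getD_cons_succ, List.getD_cons_zero, mul_one]
    · exact hzz
    · exact hsq 0
    · group
    · group
    · group
    · group
    · exact absurd rfl hne
    · rw [← hb5]; simp only [pow_succ, pow_zero, one_mul, mul_assoc]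
    · rw [← ha3]; simp only [pow_succ, pow_zero, one_mul, mul_assoc]
    · rw [← g3]; group
    · rw [← hzz]; nth_rw 4 [← hz a]; group
    · rw [← hzz]; nth_rw 4 [← hz b]; group
    · rw [← g1, ← e1]; group
    · rw [← g2, ← e2, ← e1]; group
    · rw [← one_mul (1 : H)]
      nth_rw 1 [← g4]
      rw [← hb5, ← e4, ← e3, ← e2, ← e1]; group
    · calc _ = (a * x * a⁻¹) * x := by group
        _ = 1 := by rw [f0]; exact hsq 0
    · rw [← hsq 2]; nth_rw 1 [← f1]; rw [← e2, ← e1]; group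
    · have e5 : b⁻¹ * x * b = ψ (ε 4) := by rw [← e0]; group
      calc _ = (a * (b * (b * (b * x * b⁻¹) * b⁻¹) * b⁻¹) * a⁻¹) * (b⁻¹ * x * b) := by group
        _ = 1 := by rw [e1, e2, e3, f3, e5, hsq]
  have hH : Nat.card H = 1920 := by rw [← Q.card_mul_index, h32, h60]
  have h1 := hmul ha ha
  rw [show πa * πa = 1 by decide] at h1
  rcases hcen _ h1 with h2 | h2
  · obtain ⟨φ, hφ, -⟩ := El.exists_hom (D := DH) (c := c) fun w hw => by
      by_cases h : w = [2, 2]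
      · rw [h]; simpa [c] using h2
      · exact hsat w hw h
    have hi := inj_of_wit inj_wit (φ := φ) (by rw [hφ 0 (by decide)]; exact hz1)
    exact Or.inl ⟨MulEquiv.ofBijective φ (hi.bijective_of_nat_card_le (by rw [hH, El.card_El]; rfl))⟩
  · obtain ⟨φ, hφ, -⟩ := El.exists_hom (D := DK) (c := c) fun w hw => by
      by_cases h : w = [2, 2, 0]
      · rw [h]
        simp only [ev_cons, ev_nil, c, List.getD_cons_succ, List.getD_cons_zero, mul_one]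
        rw [← mul_assoc, h2, hzz]
      · have := (by decide +kernel : ∀ w ∈ RDK, w ≠ [2, 2, 0] → w ∈ RDH ∧ w ≠ [2, 2]) w hw h
        exact hsat w this.1 this.2
    have hi := inj_of_wit inj_wit' (φ := φ) (by rw [hφ 0 (by decide)]; exact hz1)
    exact Or.inr ⟨MulEquiv.ofBijective φ (hi.bijective_of_nat_card_le (by rw [hH, El.card_El]; rfl))⟩

end Cfsg.Agent.HJ
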