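import Cfsg.Agent.HJ.Three
import Cfsg.Agent.HJ.J3F
import Cfsg.Agent.HJ.Entry
import Cfsg.Agent.Comp.J3.Iso

/-!
# HJ/J3: one class of involutions gives `J₃`
-/

set_option autoImplicit false
set_option maxRecDepth 100000

namespace Cfsg.Agent.HJ

open Cfsg.Agent.Comp Cfsg.Agent.Core Subgroup

variable {G : Type*} [Group G] {φ : El DH →* G} {ψ : El DN →* G}

theorem NM.sat3 [Finite G] (h : NM φ ψ) (hza : IsConj 𝐳 𝐚) : ∃ r, Sat (xc φ (ψ nf) r (𝐬 * 𝐚 * 𝐬)) R3 := by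
  obtain ⟨r, rr, rz, rx, ry⟩ := h.exists_r hza
  have ri := inv_eq_of_mul_eq_one_right rr
  have ss : 𝐬 * 𝐬 = 1 := mdl h.inj
  have xf := h.xf
  have rf : r * ψ nf * r⁻¹ = (ψ nf)⁻¹ := by
    calc _ = (r * 𝐱 * r⁻¹)⁻¹ * (r * 𝐲 * r⁻¹) := by group
      _ = _ := by rw [rx, ry]; group
  have rxf : r * (𝐱 * (ψ nf)⁻¹) = 𝐱 * (ψ nf)⁻¹ * r := comm_of_conj (by
    calc _ = (r * 𝐱 * r⁻¹) * (r * ψ nf * r⁻¹)⁻¹ := by group
      _ = _ := by rw [rx, rf, h.nx]; exact mdl h.injN)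
  have rv : (r * (𝐬 * 𝐚 * 𝐬)) ^ 3 = 1 := by
    obtain ⟨u, hu, u1, u2⟩ := h.rv rr rz
    rw [← hu, (n_f3 u u1 u2).2.1 (h.injN ?_), map_one]
    rw [map_mul, map_mul ψ _ u, hu, map_mul, map_inv, ← h.nx]
    refine (Commute.pow_left (Commute.mul_left rxf ?_) 3).eq
    rw [h.nx, h.ns, h.na, Commute, SemiconjBy]; exact mdl h.injN
  have sx : MulAut.conj 𝐬 𝐱 = 𝐱 := by rw [MulAut.conj_apply]; exact mdl h.inj
  have sf : MulAut.conj 𝐬 (ψ nf) = (ψ nf)⁻¹ := by rw [MulAut.conj_apply, h.ns]; exact mdl h.injN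
  have rs := h.a6 (ρ := r * 𝐬 * r * 𝐬 * r) (by
      calc _ = r * 𝐬 * r * 𝐬 * (r * r) * 𝐬 * r * 𝐬 * r := by group
        _ = r * 𝐬 * r * (𝐬 * 𝐬) * r * 𝐬 * r := by rw [rr]; group
        _ = r * 𝐬 * (r * r) * 𝐬 * r := by rw [ss]; group
        _ = r * (𝐬 * 𝐬) * r := by rw [rr]; group
        _ = 1 := by rw [ss, mul_one, rr]) (comm_of_conj (by
      rw [← MulAut.conj_apply] at rx rf ⊢
      simp only [map_mul, MulAut.mul_apply, rx, rf, sx, sf, map_inv, inv_inv]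
      rw [h.nx]; exact mdl h.injN)) (by
      calc _ = r * 𝐬 * (r * 𝐬 * (r * 𝐳 * r) * 𝐬 * r * 𝐬 * (r * 𝐳 * r) * 𝐬 * r * 𝐬 * (r * 𝐳 * r) * 𝐬) * 𝐬⁻¹ * r⁻¹ := by
            group
        _ = r * 𝐬 * (r * (𝐬 * 𝐚 * 𝐬)) ^ 3 * 𝐬⁻¹ * r⁻¹ := by
          rw [← rz, ri]; simp only [pow_succ, pow_zero, one_mul, mul_assoc]
        _ = 1 := by rw [rv]; group) (Or.inl rfl) (by
      have : MulAut.conj (r * 𝐬 * r * 𝐬 * r) (ψ nf) = (ψ nf)⁻¹ := by
        rw [← MulAut.conj_apply] at rf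
        simp only [map_mul, MulAut.mul_apply, rf, sf, map_inv, inv_inv]
      rw [MulAut.conj_apply] at this
      simp only [mul_inv_rev, ri, inv_eq_of_mul_eq_one_right ss] at this
      rw [← inv_mul_cancel (ψ nf), ← this]; group)
  refine ⟨r, ((h.toNC.satx _ _).append fun w hw => ?_).append fun w hw => ?_⟩
  · simp only [RV, List.mem_cons, List.not_mem_nil, or_false] at hw
    rcases hw with rfl | rfl | rfl | rfl | rfl | rfl | rfl | rfl | rfl <;>
      simp only [ev_cons, ev_nil, xc, List.getD_cons_succ, List.getD_cons_zero, mul_one, h.nz, h.ne, h.ns, h.na,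
        h.nx] <;> exact mdl h.injN
  · simp only [List.mem_cons, List.not_mem_nil, or_false] at hw
    rcases hw with rfl | rfl | rfl | rfl | rfl | rfl <;>
      simp only [ev_cons, ev_nil, xc, List.getD_cons_succ, List.getD_cons_zero, mul_one]
    · exact rr
    · rw [← inv_mul_cancel (ψ nf), ← rf, ri]; group
    · calc _ = r * (𝐱 * (ψ nf)⁻¹) * r * ψ nf * 𝐱⁻¹ := by group
        _ = 𝐱 * (ψ nf)⁻¹ * (r * r) * ψ nf * 𝐱⁻¹ := by rw [rxf]; group
        _ = 1 := by rw [rr]; group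
    · rw [← rv]; simp only [pow_succ, pow_zero, one_mul, mul_assoc]
    · rw [ri] at rz
      rw [← mul_assoc, ← mul_assoc, rz]; exact mdl h.inj
    · rw [← rs]; simp only [pow_succ, pow_zero, one_mul, mul_assoc]

theorem sq_comm_of_card {K : Subgroup G} [hK : K.Normal] [Finite K] (h : Nat.card K ≤ 3) {t : G} (ht : t ∈ K) (g : G) :
    g * g * t = t * (g * g) := by
  by_contra hne
  haveI := Fintype.ofFinite K
  have h1 := hK.conj_mem t ht g
  have h2 := hK.conj_mem _ h1 g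
  have e1 : t ≠ 1 := fun e => hne (by simp [e])
  have e2 : t ≠ g * (g * t * g⁻¹) * g⁻¹ := fun e => hne (comm_of_conj (by nth_rw 2 [e]; group))
  have e3 : t ≠ g * t * g⁻¹ := fun e => e2 (by rwa [← e])
  have := List.Nodup.length_le_card (l := [1, ⟨t, ht⟩, ⟨_, h1⟩, (⟨_, h2⟩ : K)]) (by
    simp only [List.nodup_cons, List.mem_cons, Subtype.ext_iff, coe_one, List.not_mem_nil, or_false, not_or, e2, e3,
      eq_comm (a := (1 : G)), conj_eq_one_iff, e1, mul_left_inj, mul_right_inj, not_false_eq_true, and_self,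
      List.nodup_nil])
  rw [← Nat.card_eq_fintype_card] at this
  exact absurd (this.trans h) (by simp)

theorem NM.exists_emb [Finite G] (h : NM φ ψ) (hza : IsConj 𝐳 𝐚) : ∃ ι : J3.G →* G, Function.Injective ι ∧
    ∃ r, r * 𝐳 * r⁻¹ = 𝐚 ∧ ∀ i < 10, ι (σ3 i) = xc φ (ψ nf) r (𝐬 * 𝐚 * 𝐬) i := by
  obtain ⟨r, hr⟩ := h.sat3 hza
  have rz : r * 𝐳 * r⁻¹ = 𝐚 := by
    have h1 := hr [8, 8] (by decide +kernel)
    have h2 := hr [8, 0, 8, 3] (by decide +kernel)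
    simp only [ev_cons, ev_nil, xc, List.getD_cons_succ, List.getD_cons_zero, mul_one, ← mul_assoc] at h1 h2
    rw [inv_eq_of_mul_eq_one_right h1, eq_inv_of_mul_eq_one_left h2]; exact mdl h.inj
  obtain ⟨π, πs, hπ, hfin, hk⟩ := pres3
  have hR : ∀ w ∈ R3, ∀ a ∈ w, a < 10 := by decide +kernel
  obtain ⟨θ, hθ⟩ := pres_univ hR _ hr
  have hle : π.ker ≤ θ.ker := fun t ht => by
    have key : ∀ w : List ℕ, (∀ i ∈ w, i < 10) → ∀ g, ev (xc φ (ψ nf) r (𝐬 * 𝐚 * 𝐬)) w = g →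
        θ t * (g * g) = g * g * θ t := fun w hw g e => by
      have := congrArg θ (sq_comm_of_card hk ht (ev (presS 10 R3) w))
      simp only [map_mul, map_ev _ θ] at this
      rw [← e, ← ev_congr fun i hi => hθ i (hw i hi), this]
    have h1 := key [3, 9] (by decide) _ rfl
    have h2 := key [8, 3, 9, 8] (by decide) (r * (𝐚 * (𝐬 * 𝐚 * 𝐬)) * r⁻¹) (by
      have h1 := hr [8, 8] (by decide +kernel)
      simp only [ev_cons, ev_nil, xc, List.getD_cons_succ, List.getD_cons_zero, mul_one] at h1 ⊢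
      rw [inv_eq_of_mul_eq_one_right h1]; group)
    have h3 := key [7] (by decide) _ rfl
    simp only [ev_cons, ev_nil, xc, List.getD_cons_succ, List.getD_cons_zero, mul_one] at h1 h3
    have e : 𝐚 * (𝐬 * 𝐚 * 𝐬) * (𝐚 * (𝐬 * 𝐚 * 𝐬)) = 𝐳 := mdl h.inj
    rw [conj_mul, e, rz] at h2
    rw [e] at h1
    rw [show (ψ nf)⁻¹ * (ψ nf)⁻¹ = ψ nf from mdl h.injN] at h3
    obtain ⟨u, hu, u1, u2⟩ := h.memA h1 h2
    rw [MonoidHom.mem_ker, ← hu, (n_f3 u u1 u2).2.2.1 (h.injN (by rw [map_mul, map_mul, hu, h3])), map_one]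
  haveI := J3.simple
  let ι := π.liftOfSurjective πs ⟨θ, hle⟩
  have hι : ∀ g, ι (π g) = θ g := fun g => π.liftOfRightInverse_comp_apply ..
  have hι' : ∀ i < 10, ι (σ3 i) = xc φ (ψ nf) r (𝐬 * 𝐚 * 𝐬) i := fun i hi => by rw [← hπ i hi, hι, hθ i hi]
  refine ⟨ι, ι.ker_eq_bot_iff.mp (ι.normal_ker.eq_bot_or_eq_top.resolve_right fun e => ?_), r, rz, hι'⟩
  exact absurd ((hι' 0 (by norm_num)).symm.trans (e.ge (mem_top _))) (show 𝐳 ≠ 1 from mdl h.inj)

theorem NM.range_le (h : NM φ ψ) {K : Subgroup G} (hK : ∀ i < 8, xc φ (ψ nf) 1 1 i ∈ K) : ψ.range ≤ K := by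
  rw [MonoidHom.range_eq_map, ← El.gen_l (D := DN), map_le_iff_le_comap, gen_le]
  obtain ⟨l0, l1, l2, l3, l4, l6⟩ := n_l
  intro i hi
  change i < 8 at hi
  have := hK i hi
  rw [mem_comap]
  interval_cases i
  · rwa [l0, ← h.nz]
  · rwa [l1, ← h.ne]
  · rwa [l2, ← h.ns]
  · rwa [l3, ← h.na]
  · rwa [l4, ← h.nx]
  · rwa [show El.l DN 5 = HJ.nx⁻¹ by decide +kernel, map_inv, ← h.nx]
  · rwa [l6]
  · rwa [show El.l DN 7 = nf⁻¹ by decide +kernel, map_inv]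

theorem NM.cent_le [Finite G] (h : NM φ ψ) {K : Subgroup G} (hK : ψ.range ≤ K) {u : G} (hu : u ∈ K)
    (h5 : orderOf u = 5) (hz' : u * 𝐳 = 𝐳 * u) : centralizer ({𝐳} : Set G) ≤ K := by
  have h1 : Nat.card (ψ.range ⊓ centralizer {𝐳} : Subgroup G) = 384 :=
    (El.card_sub h.injN (Q := fun g => g ∈ ψ.range ⊓ centralizer {𝐳}) (fun _ hd => hd.1)
      (fun u => u * HJ.nz = HJ.nz * u) fun u => by
        simp only [mem_inf, mem_cent, h.nz, ← map_mul, h.injN.eq_iff, MonoidHom.mem_range, exists_apply_eq_apply,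
          true_and]).trans n_cnt.1
  have h2 := card_dvd_of_le (inf_le_inf_right (centralizer {𝐳}) hK)
  have h3 : 5 ∣ Nat.card (K ⊓ centralizer {𝐳} : Subgroup G) :=
    h5 ▸ Subgroup.orderOf_dvd_natCard _ ⟨hu, mem_cent.mpr hz'⟩
  rw [h1] at h2
  refine inf_eq_right.mp (eq_of_le_of_card_ge inf_le_right ?_)
  rw [card_cz h.toCM]
  exact Nat.le_of_dvd Nat.card_pos (Nat.lcm_dvd h2 h3)

theorem NM.odd_cent [Finite G] (h : NM φ ψ) (hza : IsConj 𝐳 𝐚) {g t : G} (hg : ¬ orderOf g ∣ 1920)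
    (hc : g * t = t * g) : orderOf t ≠ 2 := fun ht => by
  obtain ⟨k, rfl⟩ := isConj_iff.mp (h.one_class hza ht)
  refine hg ?_
  rw [← card_cz h.toCM, ← Inv.orderOf_conj k⁻¹]
  exact Subgroup.orderOf_dvd_natCard _ (mem_cent.mpr ((comm_conj_iff (by group) g).mp hc))

theorem NM.cent17 [Finite G] (h : NM φ ψ) (hza : IsConj 𝐳 𝐚) {ι : J3.G →* G} (hι : Function.Injective ι) {g : G}
    (hg : g ∈ ι.range) (h17 : orderOf g = 17) : centralizer (zpowers g : Set G) ⊓ ι.range ≤ zpowers g := by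
  obtain ⟨g, rfl⟩ := hg
  rintro _ ⟨hc, c, rfl⟩
  rw [← MonoidHom.map_zpowers, ← HJ.cent17 (P := zpowers g) (by rw [Nat.card_zpowers, ← orderOf_injective ι hι, h17])
    (Inv.odd_card_iff.mpr fun t ht => ?_)]
  · exact ⟨c, fun u hu => hι (by rw [map_mul, map_mul]; exact hc _ (ι.map_zpowers g ▸ mem_map_of_mem _ hu)), rfl⟩
  · rw [← orderOf_injective ι hι]
    exact h.odd_cent hza (g := ι g) (by rw [h17]; norm_num) (by rw [← map_mul, ht g (mem_zpowers g), map_mul])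

theorem NM.iso3 [Finite G] (h : NM φ ψ) (hza : IsConj 𝐳 𝐚) : Nonempty (G ≃* J3.G) := by
  haveI : Fact (Nat.Prime 17) := ⟨by norm_num⟩
  obtain ⟨ι, hι, r, rz, hσ⟩ := h.exists_emb hza
  refine ⟨(MulEquiv.ofBijective ι ⟨hι, MonoidHom.range_eq_top.mp (by_contra fun hne => ?_)⟩).symm⟩
  have h17 := @h.cent17 _ _ _ _ _ hza ι hι
  have hK : Nat.card ι.range = 50232960 := by
    rw [← J3.card.2.1]; exact Nat.card_congr (MonoidHom.ofInjective hι).toEquiv.symm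
  have hN : ψ.range ≤ ι.range := h.range_le fun i hi => ⟨σ3 i, by
    rw [hσ i (by omega)]; interval_cases i <;> rfl⟩
  obtain ⟨u5, u1, u2⟩ := five_J3
  have hCK := h.cent_le hN ⟨u5, rfl⟩ ((orderOf_injective ι hι _).trans u1)
    (by rw [show 𝐳 = ι (σ3 0) from (hσ 0 (by norm_num)).symm, ← map_mul, u2, map_mul])
  have hr : r ∈ ι.range := ⟨_, hσ 8 (by norm_num)⟩
  generalize ι.range = K at hne h17 hK hN hCK hr
  have hφ : ∀ u, φ u ∈ K := fun u => hCK (mem_cent.mpr (h.comm u))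
  have z2 := z_two h.toCM
  have cj : ∀ t ∈ K, orderOf t = 2 → ∃ k ∈ K, k * 𝐳 * k⁻¹ = t := fun t ht t2 => by
    have hc : CM (φ.codRestrict K hφ) hz := ⟨(MonoidHom.injective_codRestrict ..).mpr h.inj, fun g => by
      simp only [Subtype.ext_iff, coe_mul, MonoidHom.codRestrict_apply, h.cent]⟩
    rcases inv_classes hc (t := ⟨t, ht⟩) (by rwa [← orderOf_coe]) with H | H | H <;>
      obtain ⟨k, e⟩ := isConj_iff.mp H <;> replace e := congrArg Subtype.val e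
    · exact ⟨k, k.2, e⟩
    · exact ⟨k * ψ nf, mul_mem k.2 (hN ⟨_, rfl⟩), by
        rw [← show (k : G) * 𝐞 * (k : G)⁻¹ = t from e, ← h.fz]; group⟩
    · exact ⟨k * r, mul_mem k.2 hr, by rw [← show (k : G) * 𝐚 * (k : G)⁻¹ = t from e, ← rz]; group⟩
  have hse : IsStronglyEmbedded K := Inv.se_of hne (hφ _) z2 fun s hs hs2 g hg => by
    obtain ⟨a, ha, hae⟩ := cj s hs hs2
    obtain ⟨b, hb, hbe⟩ := cj _ hg (Inv.two_conj hs2 g)
    have : b⁻¹ * g * a ∈ centralizer ({𝐳} : Set G) := mem_cent.mpr (comm_of_conj (by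
      calc _ = b⁻¹ * (g * (a * 𝐳 * a⁻¹) * g⁻¹) * b := by group
        _ = _ := by rw [hae, ← hbe]; group))
    have := mul_mem (mul_mem hb (hCK this)) (inv_mem ha)
    simpa [mul_assoc] using this
  obtain ⟨u, huK, hu⟩ := Inv.se_exists_two_not_mem hse
  have hodd := hse.2.2 u huK
  set D := K ⊓ K.map (MulAut.conj u).toMonoidHom with hD
  have h1 : (centralizer ({𝐳} : Set G)).relIndex D = 26163 := by
    rw [(forall_exists_mul_iff_relIndex_eq (inf_le_left : D ≤ K) hCK).mp fun g hg => ?_]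
    · have := card_mul_relIndex hCK
      rw [hK, card_cz h.toCM] at this
      omega
    · obtain ⟨d, hd, hud, hde⟩ := Inv.se_exists_conj_inverted hse huK hu (hφ _) z2
        (mul_mem (mul_mem hg (hφ _)) (inv_mem hg)) (Inv.two_conj z2 g)
      refine ⟨d, ⟨hd, d⁻¹, inv_mem hd, ?_⟩, d⁻¹ * g, mem_cent.mpr (comm_of_conj ?_), by group⟩
      · change u * d⁻¹ * u⁻¹ = d
        rw [← conj_inv, hud, inv_inv]
      · calc _ = d⁻¹ * (g * 𝐳 * g⁻¹) * d := by group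
          _ = _ := by rw [← hde]; group
  obtain ⟨k, hk⟩ : 26163 ∣ Nat.card D := h1 ▸ relIndex_dvd_card' _ _
  have hk15 : k ∣ 15 := by
    have h2 : Nat.card D ∣ 26163 * 1920 := (card_dvd_of_le (inf_le_left : D ≤ K)).trans (by rw [hK])
    rw [hk] at h2 hodd
    have h3 := Nat.dvd_of_mul_dvd_mul_left (by norm_num) h2
    have h4 : k.Coprime 128 := (Nat.coprime_two_right.mpr (Nat.Odd.of_mul_right hodd)).pow_right 7
    exact h4.dvd_of_dvd_mul_left (show k ∣ 128 * 15 from h3)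
  have hk' := Nat.le_of_dvd (by norm_num) hk15
  obtain ⟨a, ha⟩ := exists_prime_orderOf_dvd_card' (G := D) 17 (by rw [hk]; omega)
  have ha' : orderOf (a : G) = 17 := by rw [Subgroup.orderOf_coe, ha]
  obtain ⟨-, h3⟩ := J1.sylow_count (m := 1539 * k) a.2 ha' (by rw [hk]; ring) (by interval_cases k <;> omega)
  have h4 := card_inf_mul_relIndex (normalizer (zpowers (a : G) : Set G)) D
  have h5 := PGrp.relIndex_centralizer_dvd_card_mulAut (R := zpowers (a : G))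
    (A := normalizer (zpowers (a : G) : Set G) ⊓ D) inf_le_left
  rw [IsCyclic.card_mulAut, Nat.card_zpowers, ha', show Nat.totient 17 = 2 ^ 4 by decide] at h5
  have h6 := relIndex_eq_one.mp (((Nat.coprime_two_right.mpr (Odd.of_dvd_nat
    hodd ((relIndex_dvd_card' _ _).trans (card_dvd_of_le inf_le_right)))).pow_right 4).eq_one_of_dvd h5)
  rw [le_antisymm ((le_inf h6 (inf_le_right.trans inf_le_left)).trans (h17 a.2.1 ha'))
    (le_inf le_normalizer (zpowers_le.mpr a.2)), Nat.card_zpowers, ha', hk] at h4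
  rw [show (normalizer (zpowers (a : G) : Set G)).relIndex D = 1539 * k by omega] at h3
  interval_cases k <;> omega

end Cfsg.Agent.HJ
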