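import Cfsg.Agent.HJ.J3F
import Cfsg.Agent.HJ.T16
import Cfsg.Agent.Comp.Mat2
import Cfsg.Agent.Classical.SL2Basic

/-!
# HJ/L16: the subgroup `SL₂(16).2` of `J₃`
-/

set_option autoImplicit false
set_option maxRecDepth 100000

namespace Cfsg.Agent.HJ

open Cfsg.Agent.Comp Cfsg.Agent.Core Subgroup Matrix
open scoped MatrixGroups

/-- the field with sixteen elements -/
abbrev K16 : Type := QuadraticAlgebra K4 w4 1

instance : Fact (∀ r : K4, r ^ 2 ≠ w4 + 1 * r) := ⟨by decide +kernel⟩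
instance : Fintype K16 := Fintype.ofEquiv _ (QuadraticAlgebra.equivProd w4 1).symm

theorem card_K16 : Fintype.card K16 = 16 := by decide +kernel

def m16 (n : ℕ) : SL(2, K16) := [Classical.SL2Basic.upper 1, Classical.SL2Basic.mkSL ⟨0, 1⟩ 0 0 ⟨⟨1, 1⟩, ⟨1, 1⟩⟩ (by decide +kernel),
  Classical.SL2Basic.mkSL ⟨⟨1, 1⟩, ⟨1, 1⟩⟩ 0 0 ⟨0, 1⟩ (by decide +kernel), Classical.SL2Basic.mkSL 0 1 1 0 (by decide +kernel)].getD n 1

theorem sat16 : Sat m16 R16 := by unfold Sat; decide +kernel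

theorem gen16 : gen m16 4 = ⊤ := by
  have h : ∀ i < 4, m16 i ∈ gen m16 4 := fun i => letter_mem_gen
  have h1 : ∀ c, Classical.SL2Basic.upper c ∈ gen m16 4 := fun c => by
    rcases (by decide +kernel : ∀ c : K16, Classical.SL2Basic.upper c = 1 ∨ ∃ i < 15, Classical.SL2Basic.upper c = m16 1 ^ i * m16 0 * m16 2 ^ i) c with
      e | ⟨i, -, e⟩ <;> rw [e]
    exacts [one_mem _, mul_mem (mul_mem (pow_mem (h 1 (by norm_num)) _) (h 0 (by norm_num)))
      (pow_mem (h 2 (by norm_num)) _)]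
  refine Classical.SL2Basic.eq_top_of_upper_lower _ h1 fun c => ?_
  rw [(by decide +kernel : ∀ c : K16, Classical.SL2Basic.lower c = m16 3 * Classical.SL2Basic.upper c * m16 3) c]
  exact mul_mem (mul_mem (h 3 (by norm_num)) (h1 c)) (h 3 (by norm_num))

theorem card16 : Nat.card SL(2, K16) = 4080 := by
  rw [Classical.SLBasic.card_SL_two, Nat.card_eq_fintype_card, card_K16]; rfl

theorem simple16 : IsSimpleGroup SL(2, K16) := by
  haveI := ProjectiveSpecialLinearGroup.rank_two_simple (F := K16) (by rw [Nat.card_eq_fintype_card, card_K16]; norm_num)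
  have h : center SL(2, K16) = ⊥ := eq_bot_iff.mpr fun g hg => by
    rcases Classical.SL2Basic.mem_center_iff.mp hg with rfl | rfl
    exacts [one_mem _, (by decide +kernel : (-1 : SL(2, K16)) = 1)]
  exact (QuotientGroup.quotientBot.symm.trans (QuotientGroup.quotientMulEquivOfEq h.symm)).isSimpleGroup

def F16 : List (List ℕ) := [[3, 0, 2, 4, 3], [0, 1, 3, 4], [4, 3, 0, 2], [4, 3, 0, 2, 4, 3, 4]]

theorem satF16 : Sat J3.s (R16.map (subst F16)) :=
  J3.rep.sat_of_inj J3.card.2.2 (by decide +kernel)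
    (sat_of_relsP J3.ok (by norm_num)
      (show relsP (nat_lit 6156) (nat_lit 13) (nat_lit 0) (nat_lit 13) J3.T (R16.map (subst F16)) = true by
        decide +kernel))

theorem exists_L16 : ∃ S N : Subgroup J3.G, N ≤ S ∧ N.relIndex S = 2 ∧ Nonempty (N ≃* SL(2, K16)) := by
  have hR : ∀ w ∈ R16, ∀ a ∈ w, a < 4 := by decide +kernel
  obtain ⟨hfin, hle⟩ := (cardLe_nil _).step (T16.index _ _ (presS_sat 4 R16))
  rw [presS_top] at hfin hle
  haveI : Finite (Pres 4 R16) := Finite.of_equiv _ topEquiv.toEquiv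
  rw [card_top] at hle
  obtain ⟨f, -, hf⟩ := (isPres_pres hR).lift hR _ sat16
  rw [gen16, MonoidHom.range_eq_top] at hf
  let e := MulEquiv.ofBijective f (hf.bijective_of_nat_card_le (by rwa [card16]))
  haveI := simple16
  haveI : IsSimpleGroup (Pres 4 R16) := e.isSimpleGroup
  obtain ⟨g, -⟩ := (isPres_pres hR).equiv_of_simple hR _ satF16.subst (x := 1) (by norm_num) fun H =>
    ne_one_J3 (w := F16.getD 1 []) (p := 1) (by decide) (by norm_num) (by decide +kernel) (by rw [H, J3.phi.map_one]; rfl)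
  have hle' : gen (fun x => ev J3.s (F16.getD x [])) 4 ≤ genW J3.s J3.W0 := gen_le.mpr fun i hi =>
    ev_mem_of_letters ((by decide : ∀ i < 4, ∀ x ∈ F16.getD i [], [x] ∈ J3.W0) i hi)
  refine ⟨_, _, hle', ?_, ⟨g.symm.trans e⟩⟩
  have := card_mul_relIndex hle'
  rw [card_eq_of_index (n := 6156) (m := 8160) J3.card.2.1 J3.stab.1 (by norm_num),
    Nat.card_congr (g.symm.trans e).toEquiv, card16] at this
  omega

end Cfsg.Agent.HJ
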