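import Cfsg.Agent.HJ.Fus
import Cfsg.Agent.HJ.TabA
import Cfsg.Agent.S3035
import Cfsg.Agent.Inv.ZStar

/-!
# HJ/Norm: the normaliser of `⟨z, e⟩` and the centraliser of `x`
-/

set_option autoImplicit false
set_option maxRecDepth 100000
set_option synthInstance.maxSize 100000

namespace Cfsg.Agent.HJ

open Cfsg.Agent.Comp Cfsg.Agent.Core Subgroup

variable {G : Type*} [Group G] {φ : El DH →* G}

/-- the letters `z e s a x x⁻¹ f f⁻¹` -/
noncomputable def nc (φ : El DH →* G) (f : G) (n : ℕ) : G := [𝐳, 𝐞, 𝐬, 𝐚, 𝐱, 𝐱⁻¹, f, f⁻¹].getD n 1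

theorem NC.sat {f : G} (h : NC φ f) : Sat (nc φ f) RDN := by
  intro w hw
  rcases (by decide +kernel : ∀ w ∈ RDN, (∀ i ∈ w, i < 6) ∨ w = [6, 7] ∨ w = [7, 6] ∨ w = [6, 6, 6] ∨
    w = [2, 6, 2, 6] ∨ w = [4, 6, 5, 7] ∨ w = [6, 0, 7, 1] ∨ w = [6, 1, 7, 1, 0] ∨ w = [6, 3, 7, 5, 3, 4]) w hw with
    H | rfl | rfl | rfl | rfl | rfl | rfl | rfl | rfl
  · rw [← map_one φ, ← h_sat w hw H, map_ev]
    refine ev_congr fun i hi => ?_
    have := H i hi
    interval_cases i <;> simp [nc, hc]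
  all_goals simp only [ev_cons, ev_nil, nc, List.getD_cons_succ, List.getD_cons_zero, mul_one, ← mul_assoc]
  · group
  · group
  · exact h.f3
  · rw [h.sf]; group
  · rw [h.xf]; group
  · rw [h.fz]; exact mdl h.inj
  · rw [h.fe]; exact mdl h.inj
  · rw [h.fa]; exact mdl h.inj

/-- models of `C(z)` and of `N(⟨z, e⟩)` -/
structure NM (φ : El DH →* G) (ψ : El DN →* G) : Prop extends NC φ (ψ nf) where
  injN : Function.Injective ψ
  nz : 𝐳 = ψ nz
  ne : 𝐞 = ψ ne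
  ns : 𝐬 = ψ ns
  na : 𝐚 = ψ na
  nx : 𝐱 = ψ nx
  memN : ∀ g, g * 𝐳 * g⁻¹ = 𝐳 ∨ g * 𝐳 * g⁻¹ = 𝐞 ∨ g * 𝐳 * g⁻¹ = 𝐞 * 𝐳 →
    g * 𝐞 * g⁻¹ = 𝐳 ∨ g * 𝐞 * g⁻¹ = 𝐞 ∨ g * 𝐞 * g⁻¹ = 𝐞 * 𝐳 → ∃ v, ψ v = g

theorem NC.exists_nm [Finite G] {f : G} (h : NC φ f) : ∃ ψ, NM φ ψ := by
  obtain ⟨ψ, hψ, -⟩ := El.exists_hom (D := DN) h.sat
  obtain ⟨l0, l1, l2, l3, l4, l6⟩ := n_l
  have e0 : 𝐳 = ψ nz := l0 ▸ (hψ 0 (by decide)).symm
  have e1 : 𝐞 = ψ ne := l1 ▸ (hψ 1 (by decide)).symm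
  have e2 : 𝐬 = ψ ns := l2 ▸ (hψ 2 (by decide)).symm
  have e3 : 𝐚 = ψ na := l3 ▸ (hψ 3 (by decide)).symm
  have e4 : 𝐱 = ψ nx := l4 ▸ (hψ 4 (by decide)).symm
  have e6 : f = ψ nf := l6 ▸ (hψ 6 (by decide)).symm
  have hi : Function.Injective ψ := by
    rw [injective_iff_map_eq_one]
    intro g hg
    have k : ∀ c, ψ c = 1 → ¬ (c = nz ∨ c = ne ∨ c = ne * nz) := by
      rintro c hc (rfl | rfl | rfl)
      · exact absurd (e0.trans hc) (mdl h.inj)
      · exact absurd (e1.trans hc) (mdl h.inj)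
      · rw [map_mul, ← e0, ← e1] at hc
        exact absurd hc (mdl h.inj)
    rcases n_wit g with H | H | H | H | ⟨i, -, H | H | H | ⟨j, -, H⟩⟩
    · exact H
    · exact absurd (Or.inl H) (k g hg)
    · exact absurd (Or.inr (Or.inl H)) (k g hg)
    · exact absurd (Or.inr (Or.inr H)) (k g hg)
    · exact absurd (Or.inl H) (k _ (by simp [hg]))
    · exact absurd (Or.inr (Or.inl H)) (k _ (by simp [hg]))
    · exact absurd (Or.inr (Or.inr H)) (k _ (by simp [hg]))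
    · exact absurd H (k _ (by simp [hg]))
  have hB : ∀ g, g * 𝐳 = 𝐳 * g ∧ (g * 𝐞 * g⁻¹ = 𝐞 ∨ g * 𝐞 * g⁻¹ = 𝐞 * 𝐳) → g ∈ ψ.range ∧ g * 𝐳 = 𝐳 * g := by
    refine of_card_le ?_ ?_
    · rintro _ ⟨⟨v, rfl⟩, hv⟩
      refine ⟨hv, ?_⟩
      simp only [e0, e1, ← map_mul, ← map_inv, hi.eq_iff] at hv ⊢
      exact n_z v hv
    · rw [El.card_sub h.inj (fun d hd => (h.cent d).mp hd.1) (fun u => u * he * u⁻¹ = he ∨ u * he * u⁻¹ = he * hz)
        fun u => by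
          rw [and_iff_right (h.comm u)]
          simp only [← map_mul, ← map_inv, h.inj.eq_iff],
        El.card_sub hi (fun d hd => hd.1) (fun u => u * nz = nz * u) fun u => by
          simp only [e0, ← map_mul, hi.eq_iff, MonoidHom.mem_range, exists_apply_eq_apply, true_and],
        h_cnt.2.2, n_cnt.1]
  have fz := h.fz
  have fe := h.fe
  have zz : 𝐳 * 𝐳 = 1 := mdl h.inj
  have fez : f * (𝐞 * 𝐳) * f⁻¹ = 𝐳 := by
    calc _ = (f * 𝐞 * f⁻¹) * (f * 𝐳 * f⁻¹) := by group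
      _ = _ := by rw [fz, fe]; exact mdl h.inj
  have step : ∀ g, (g * 𝐳 * g⁻¹ = 𝐳 ∨ g * 𝐳 * g⁻¹ = 𝐞 ∨ g * 𝐳 * g⁻¹ = 𝐞 * 𝐳) ∧
      (g * 𝐞 * g⁻¹ = 𝐳 ∨ g * 𝐞 * g⁻¹ = 𝐞 ∨ g * 𝐞 * g⁻¹ = 𝐞 * 𝐳) →
      ((f * g) * 𝐳 * (f * g)⁻¹ = 𝐳 ∨ (f * g) * 𝐳 * (f * g)⁻¹ = 𝐞 ∨ (f * g) * 𝐳 * (f * g)⁻¹ = 𝐞 * 𝐳) ∧
      ((f * g) * 𝐞 * (f * g)⁻¹ = 𝐳 ∨ (f * g) * 𝐞 * (f * g)⁻¹ = 𝐞 ∨ (f * g) * 𝐞 * (f * g)⁻¹ = 𝐞 * 𝐳) := by
    intro g ⟨h1, h2⟩
    have c : ∀ y, (f * g) * y * (f * g)⁻¹ = f * (g * y * g⁻¹) * f⁻¹ := fun y => by group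
    rw [c, c]
    constructor
    · rcases h1 with e | e | e <;> rw [e] <;> simp [fz, fe, fez]
    · rcases h2 with e | e | e <;> rw [e] <;> simp [fz, fe, fez]
  have base : ∀ g, g * 𝐳 * g⁻¹ = 𝐳 → (g * 𝐞 * g⁻¹ = 𝐳 ∨ g * 𝐞 * g⁻¹ = 𝐞 ∨ g * 𝐞 * g⁻¹ = 𝐞 * 𝐳) → g ∈ ψ.range :=
    fun g h1 h2 => (hB g ⟨comm_of_conj h1, h2.resolve_left fun e => by
      rw [← h1, mul_left_inj, mul_right_inj] at e
      exact absurd e (mdl h.inj)⟩).1
  have hf : f ∈ ψ.range := ⟨_, e6.symm⟩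
  refine ⟨ψ, e6 ▸ h, hi, e0, e1, e2, e3, e4, fun g h1 h2 => ?_⟩
  have s1 := step g ⟨h1, h2⟩
  have s2 := step _ s1
  have c : ∀ y, (f * g) * y * (f * g)⁻¹ = f * (g * y * g⁻¹) * f⁻¹ := fun y => by group
  rcases h1 with e | e | e
  · exact base g e h2
  · refine (ψ.range.mul_mem_cancel_left hf).mp ((ψ.range.mul_mem_cancel_left hf).mp (base _ ?_ s2.2))
    calc _ = f * (f * (g * 𝐳 * g⁻¹) * f⁻¹) * f⁻¹ := by group
      _ = _ := by rw [e, fe, fez]
  · exact (ψ.range.mul_mem_cancel_left hf).mp (base _ (by rw [c, e, fez]) s1.2)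

theorem NM.conj_ze {ψ : El DN →* G} (h : NM φ ψ) : IsConj 𝐳 𝐞 := isConj_iff.mpr ⟨_, h.fz⟩

/-- an involution of `C(z)` commuting with an element of order 3 of `C(z)` is conjugate to `z` -/
theorem NM.conj_of_three {ψ : El DN →* G} (h : NM φ ψ) {u v : El DH} (hu : u * u = 1) (hu1 : u ≠ 1)
    (hv : v * v * v = 1) (hv1 : v ≠ 1) (huv : u * v = v * u) : IsConj 𝐳 (φ u) := by
  obtain ⟨w, rfl⟩ := (h_three v hv).resolve_left hv1
  have c : ∀ t t' : El DH, IsConj 𝐳 (φ t) → t' * t * t'⁻¹ = w⁻¹ * u * w → IsConj 𝐳 (φ u) := fun t t' H e =>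
    H.trans (isConj_iff.mpr ⟨φ (w * t'), by
      rw [← map_inv, ← map_mul, ← map_mul]
      congr 1
      calc _ = w * (t' * t * t'⁻¹) * w⁻¹ := by group
        _ = _ := by rw [e]; group⟩)
  rcases (h_cx (w⁻¹ * u * w) (by
      have := conj_comm huv w⁻¹
      simpa [mul_assoc] using this)).1 (by
      calc _ = w⁻¹ * (u * u) * w := by group
        _ = 1 := by rw [hu]; group) with H | H | H | H | H | H
  · exact absurd (by simpa [mul_assoc] using congrArg (fun y => w * y * w⁻¹) H) hu1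
  · exact c hz 1 (IsConj.refl _) (by rw [H]; group)
  · exact c he 1 h.conj_ze (by rw [H]; group)
  · exact c he hs h.conj_ze (by rw [H]; decide +kernel)
  · exact c he hp h.conj_ze (by rw [H]; decide +kernel)
  · exact c he (he * hp) h.conj_ze (by rw [H]; decide +kernel)

/-- an involution commuting with a conjugate `t` of `z` and with an element of order 3 centralising `t` -/
theorem NM.conj_of_three' {ψ : El DN →* G} (h : NM φ ψ) {t u v : G} (ht : IsConj 𝐳 t) (hu : orderOf u = 2)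
    (hv : v * v * v = 1) (hv1 : v ≠ 1) (huv : u * v = v * u) (hut : u * t = t * u) (hvt : v * t = t * v) :
    IsConj 𝐳 u := by
  obtain ⟨g, rfl⟩ := isConj_iff.mp ht
  have e : g⁻¹ * (g * 𝐳 * g⁻¹) * g⁻¹⁻¹ = 𝐳 := by group
  obtain ⟨u', hu'⟩ := (h.cent _).mp ((comm_conj_iff e u).mp hut)
  obtain ⟨v', hv'⟩ := (h.cent _).mp ((comm_conj_iff e v).mp hvt)
  have h2 := Inv.two_conj hu g⁻¹
  refine (h.conj_of_three (u := u') (v := v') (h.inj ?_) (fun e => ?_) (h.inj ?_) (fun e => hv1 ?_)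
    (h.inj ?_)).trans (hu' ▸ (Inv.isConj_conj g⁻¹ u).symm)
  · rw [map_mul, hu', map_one]; exact Inv.mul_self_of_two h2
  · rw [← hu', e, map_one] at h2; exact Inv.ne_one_of_two h2 rfl
  · rw [map_mul, map_mul, hv', map_one]
    calc _ = g⁻¹ * (v * v * v) * g := by group
      _ = 1 := by rw [hv]; group
  · rwa [e, map_one, eq_comm, conj_eq_one_iff] at hv'
  · rw [map_mul, map_mul, hu', hv']; exact conj_comm huv _

/-- every involution commuting with `x` is conjugate to `z` -/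
theorem NM.conj_of_x [Finite G] {ψ : El DN →* G} (h : NM φ ψ) {t : G} (ht : orderOf t = 2) (hc : t * 𝐱 = 𝐱 * t) :
    IsConj 𝐳 t := by
  have hz2 : orderOf 𝐳 = 2 := Inv.two_of_mul_self (mdl h.inj) (mdl h.inj)
  have x3 : 𝐱 * 𝐱 * 𝐱 = 1 := mdl h.inj
  have x1 : 𝐱 ≠ 1 := mdl h.inj
  by_contra hn
  obtain ⟨w, hw, hw2, hwz, hwt⟩ := (Inv.isConj_or_exists_central (Inv.mul_self_of_two hz2)
    (Inv.mul_self_of_two ht)).resolve_left fun ⟨d, _, hd⟩ => hn (isConj_iff.mpr ⟨d, hd⟩)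
  have hwx : w * 𝐱 = 𝐱 * w := mem_cent.mp (zpowers_le.mpr (mul_mem (mem_cent.mpr (h.comm hx).symm)
    (mem_cent.mpr hc)) hw)
  exact hn (h.conj_of_three' (h.conj_of_three' (IsConj.refl _) hw2 x3 x1 hwx hwz.eq (h.comm hx)) ht x3 x1 hc
    hwt.symm.eq hwx.symm)

/-- no involution commutes with both `x` and `f` -/
theorem NM.not_two [Finite G] {ψ : El DN →* G} (h : NM φ ψ) {t : G} (ht : orderOf t = 2) (hc : t * 𝐱 = 𝐱 * t) :
    t * ψ nf ≠ ψ nf * t := fun hf => by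
  obtain ⟨g, rfl⟩ := isConj_iff.mp (h.conj_of_x ht hc)
  have e : g⁻¹ * (g * 𝐳 * g⁻¹) * g⁻¹⁻¹ = 𝐳 := by group
  obtain ⟨u, hu⟩ := (h.cent _).mp ((comm_conj_iff e _).mp hc.symm)
  obtain ⟨v, hv⟩ := (h.cent _).mp ((comm_conj_iff e _).mp hf.symm)
  have c3 : ∀ {u : El DH} {y : G}, φ u = g⁻¹ * y * g⁻¹⁻¹ → y * y * y = 1 → u * u * u = 1 := fun {u y} hu hy =>
    h.inj (by
      rw [map_mul, map_mul, hu, map_one]
      calc _ = g⁻¹ * (y * y * y) * g := by group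
        _ = 1 := by rw [hy]; group)
  rcases h_three u (c3 hu (mdl h.inj)) with rfl | ⟨w, rfl⟩
  · rw [map_one, eq_comm, conj_eq_one_iff] at hu
    exact absurd hu (mdl h.inj)
  have huv : v * (w * hx * w⁻¹) = (w * hx * w⁻¹) * v := h.inj (by
    rw [map_mul φ v, map_mul φ _ v, hu, hv]; exact conj_comm h.xf.symm _)
  have hv3 := c3 hv h.f3
  have k : ∀ y : El DH, y = w⁻¹ * v * w → ψ nf = g * φ (w * y * w⁻¹) * g⁻¹ := fun y e => by
    rw [e, show w * (w⁻¹ * v * w) * w⁻¹ = v by group, hv]; group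
  have k' : ψ nf = 1 ∨ ψ nf = 𝐱 ∨ ψ nf = 𝐱⁻¹ := by
    rcases (h_cx (w⁻¹ * v * w) (by
        have := conj_comm huv w⁻¹
        simpa [mul_assoc] using this)).2.1 (by
        calc _ = w⁻¹ * (v * v * v) * w := by group
          _ = 1 := by rw [hv3]; group) with H | H | H <;> rw [k _ H.symm]
    · exact Or.inl (by simp)
    · exact Or.inr (Or.inl (by rw [hu]; group))
    · refine Or.inr (Or.inr ?_)
      rw [← conj_inv, map_inv, hu]; group
  rw [h.nx] at k'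
  exact absurd k' (by
    simp only [← map_inv, h.injN.eq_iff, map_eq_one_iff _ h.injN]; decide +kernel)

theorem mem_zpowers_three {x g : G} (h3 : x * x * x = 1) (hg : g ∈ zpowers x) : g = 1 ∨ g = x ∨ g = x⁻¹ := by
  obtain ⟨k, rfl⟩ := mem_zpowers_iff.mp hg
  have h : x ^ (3 : ℤ) = 1 := by rw [← h3]; simp only [zpow_ofNat, pow_succ, pow_zero, one_mul]
  rw [← Int.emod_add_mul_ediv k 3, zpow_add, zpow_mul, h, one_zpow, mul_one]
  have h1 := Int.emod_nonneg k (show (3 : ℤ) ≠ 0 by norm_num)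
  have h2 := Int.emod_lt_of_pos k (show (0 : ℤ) < 3 by norm_num)
  generalize k % 3 = r at h1 h2
  interval_cases r
  · simp
  · simp
  · exact Or.inr (Or.inr (eq_inv_of_mul_eq_one_left (by rw [← h3, zpow_two])))

theorem h_cx' : ∀ u : El DH, u * hx = hx * u → ∃ j < 3, ∃ k < 4,
    u = hx ^ j * (hs * he) ^ k ∨ u = hx ^ j * ((hs * he) ^ k * hs) := by decide +kernel

/-- the relations of `A₅` give an element of order 5 -/
theorem five_dvd {X : Type*} [Group X] {z e y r : X} (z1 : z ≠ 1) (zz : z * z = 1) (ee : e * e = 1)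
    (rr : r * r = 1) (y3 : y * y * y = 1) (ze : z * e * z * e = 1) (yz : y * z * y⁻¹ = e)
    (ye : y * e * y⁻¹ = e * z) (ry : r * y * r * y = 1) (rz : r * z * r * z * r * z = 1) :
    ∃ χ : El DA →* X, Function.Injective χ ∧ χ (El.l DA 0) = z ∧ χ (El.l DA 1) = e ∧ χ (El.l DA 2) = y ∧
      χ (El.l DA 4) = r := by
  obtain ⟨χ, hχ, -⟩ := El.exists_hom (D := DA) (c := fun n => [z, e, y, y⁻¹, r].getD n 1) fun w hw => by
    simp only [DA, RDA, List.mem_cons, List.not_mem_nil, or_false] at hw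
    rcases hw with rfl | rfl | rfl | rfl | rfl | rfl | rfl | rfl | rfl | rfl | rfl <;>
      simp only [ev_cons, ev_nil, List.getD_cons_succ, List.getD_cons_zero, mul_one, ← mul_assoc]
    exacts [zz, ee, by group, by group, rr, y3, ze, by rw [yz, ee], by
      rw [ye]
      calc _ = z⁻¹ * (z * e * z * e) * z := by group
        _ = _ := by rw [ze]; group, ry, rz]
  refine ⟨χ, ?_, hχ 0 (by decide), hχ 1 (by decide), hχ 2 (by decide), hχ 4 (by decide)⟩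
  rw [injective_iff_map_eq_one]
  intro g hg
  rcases (by decide +kernel : ∀ g : El DA, g = 1 ∨ ∃ u v : El DA,
    (u * g * u⁻¹) * (v * (g * g) * v⁻¹) = El.l DA 0 ∨ (u * g * u⁻¹) * (v * g * v⁻¹) = El.l DA 0) g with
    H | ⟨u, v, H | H⟩
  · exact H
  all_goals
    have := hχ 0 (by decide)
    rw [← H] at this
    exact absurd (by simpa [hg] using this.symm) z1

theorem perm_pow {n : ℕ} (hn : n ≤ 6) (g : Equiv.Perm (Fin n)) : g ^ 12 = 1 ∨ g ^ 5 = 1 := by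
  have hs : g.cycleType.sum ≤ 6 := by
    rw [Equiv.Perm.sum_cycleType]; exact (Finset.card_le_univ _).trans (by simpa)
  simp only [← orderOf_dvd_iff_pow_eq_one, ← Equiv.Perm.lcm_cycleType, Multiset.lcm_dvd]
  by_cases h5 : 5 ∈ g.cycleType
  · refine Or.inr fun b hb => ?_
    have h2 := Equiv.Perm.two_le_of_mem_cycleType hb
    obtain ⟨t, ht⟩ := Multiset.exists_cons_of_mem h5
    rw [ht] at hb hs
    rcases Multiset.mem_cons.mp hb with rfl | hb
    · rfl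
    have := Multiset.single_le_sum (fun _ _ => Nat.zero_le _) b hb
    rw [Multiset.sum_cons] at hs
    omega
  · refine Or.inl fun b hb => ?_
    have h2 := Equiv.Perm.two_le_of_mem_cycleType hb
    have h3 := (Multiset.single_le_sum (fun _ _ => Nat.zero_le _) b hb).trans hs
    interval_cases b <;> first | decide | exact absurd hb h5

set_option maxHeartbeats 1000000 in
theorem NM.a6 [Finite G] {ψ : El DN →* G} (h : NM φ ψ) {ρ y : G} (ρ2 : ρ * ρ = 1) (ρx : ρ * 𝐱 = 𝐱 * ρ)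
    (ρz : ρ * 𝐳 * ρ * 𝐳 * ρ * 𝐳 = 1) (hy : y = ψ nf ∨ y = 𝐱 * ψ nf) (ρy : ρ * y * ρ * y = 1) :
    (ρ * 𝐬) ^ 3 = 1 := by
  haveI : Fact (Nat.Prime 2) := ⟨Nat.prime_two⟩
  have x3 : 𝐱 * 𝐱 * 𝐱 = 1 := mdl h.inj
  let X := centralizer ({𝐱} : Set G)
  let x' : X := ⟨𝐱, mem_cent.mpr rfl⟩
  haveI : (zpowers x').Normal := ⟨fun n hn g => by
    rw [conj_eq (Inv.commute_of_mem_zpowers (a := x') (Subtype.ext (mem_cent.mp g.2).symm) hn).symm.eq]
    exact hn⟩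
  let π := QuotientGroup.mk' (zpowers x')
  have hπ : ∀ g : X, π g = 1 → (g : G) = 1 ∨ (g : G) = 𝐱 ∨ (g : G) = 𝐱⁻¹ := fun g hg => by
    rcases mem_zpowers_three (Subtype.ext x3) ((QuotientGroup.eq_one_iff g).mp hg) with e | e | e <;> simp [e, x']
  have πx : π x' = 1 := (QuotientGroup.eq_one_iff _).mpr (mem_zpowers _)
  let z' : X := ⟨𝐳, mem_cent.mpr (mdl h.inj)⟩
  let e' : X := ⟨𝐞, mem_cent.mpr (mdl h.inj)⟩
  let s' : X := ⟨𝐬, mem_cent.mpr (mdl h.inj)⟩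
  let f' : X := ⟨ψ nf, mem_cent.mpr h.xf.symm⟩
  let ρ' : X := ⟨ρ, mem_cent.mpr ρx⟩
  have two : ∀ g : X, (g : G) * g = 1 → (g : G) ≠ 1 → orderOf (π g) = 2 := fun g h1 h2 =>
    Inv.two_of_mul_self (fun e => by
      rcases hπ g e with e | e | e <;> rw [e] at h1 h2
      exacts [h2 rfl, absurd h1 (mdl h.inj), absurd h1 (mdl h.inj)])
      (by rw [← map_mul, show g * g = 1 from Subtype.ext h1, map_one])
  have z2 := two z' (show 𝐳 * 𝐳 = 1 from mdl h.inj) (show 𝐳 ≠ 1 from mdl h.inj)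
  have e2 := two e' (show 𝐞 * 𝐞 = 1 from mdl h.inj) (show 𝐞 ≠ 1 from mdl h.inj)
  have s2 := two s' (show 𝐬 * 𝐬 = 1 from mdl h.inj) (show 𝐬 ≠ 1 from mdl h.inj)
  have ez2 := two (e' * z') (by change 𝐞 * 𝐳 * (𝐞 * 𝐳) = 1; exact mdl h.inj) (by change 𝐞 * 𝐳 ≠ 1; exact mdl h.inj)
  have se : (s' * e') ^ 2 = z' := Subtype.ext (by change (𝐬 * 𝐞) ^ 2 = 𝐳; exact mdl h.inj)
  have o4 : orderOf (π s' * π e') = 4 := orderOf_eq_prime_pow (p := 2) (n := 1)
    (by rw [pow_one, ← map_mul, ← map_pow, se]; exact Inv.ne_one_of_two z2)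
    (by rw [show 2 ^ (1 + 1) = 2 * 2 from rfl, pow_mul, ← map_mul, ← map_pow, se]; exact Inv.sq_of_two z2)
  have hC : centralizer ({π z'} : Set _) = closure {π s' * π e', π s'} := by
    apply le_antisymm
    · intro g hg
      obtain ⟨g, rfl⟩ := QuotientGroup.mk'_surjective _ g
      have h1 := hπ (g * z' * g⁻¹ * z'⁻¹) (by
        rw [map_mul, map_mul, map_mul, show π g * π z' = π z' * π g from mem_cent.mp hg, map_inv, map_inv]; group)
      have h2 : (g : G) * 𝐳 = 𝐳 * g := by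
        have h3 : ∀ y : G, y * 𝐳 = 𝐳 * y → g * 𝐳 * (g : G)⁻¹ * 𝐳⁻¹ = y → y * y = 1 := fun y hy e => by
          have zz : 𝐳 * 𝐳 = 1 := mdl h.inj
          calc _ = y * (𝐳 * y) * 𝐳 * (𝐳 * 𝐳)⁻¹ := by rw [← hy]; group
            _ = g * (𝐳 * 𝐳) * (g : G)⁻¹ * (𝐳 * 𝐳)⁻¹ := by rw [← e]; group
            _ = 1 := by rw [zz]; group
        rcases h1 with e | e | e
        · exact comm_of_conj (mul_inv_eq_one.mp e)
        · exact absurd (h3 _ (h.comm _) e) (mdl h.inj)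
        · exact absurd (h3 _ (mdl h.inj) e) (mdl h.inj)
      obtain ⟨u, hu⟩ := (h.cent _).mp h2
      obtain ⟨j, -, k, -, H | H⟩ := h_cx' u (h.inj (by rw [map_mul, map_mul, hu]; exact mem_cent.mp g.2))
      · have e : g = x' ^ j * (s' * e') ^ k := Subtype.ext (by rw [← hu, H]; simp [x', s', e'])
        change π g ∈ _
        rw [e, map_mul, map_pow, map_pow, πx, one_pow, one_mul, map_mul]
        exact pow_mem (Subgroup.subset_closure (by simp)) _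
      · have e : g = x' ^ j * ((s' * e') ^ k * s') := Subtype.ext (by rw [← hu, H]; simp [x', s', e'])
        change π g ∈ _
        rw [e, map_mul, map_pow, πx, one_pow, one_mul, map_mul, map_pow, map_mul]
        exact mul_mem (pow_mem (Subgroup.subset_closure (by simp)) _) (Subgroup.subset_closure (by simp))
    · have c : ∀ g : X, (g : G) * 𝐳 = 𝐳 * g → π g ∈ centralizer ({π z'} : Set _) := fun g hg =>
        mem_cent.mpr (by rw [← map_mul, ← map_mul]; exact congrArg π (Subtype.ext hg))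
      rw [closure_le]
      rintro _ (rfl | rfl)
      exacts [mul_mem (c s' (h.comm _)) (c e' (h.comm _)), c s' (h.comm _)]
  have hD := Inv.nonempty_dihedral (Inv.mul_self_of_two s2)
    (Inv.inverts_mul_left (Inv.mul_self_of_two s2) (Inv.mul_self_of_two e2)) (Inv.not_mem_zpowers_mul s2 e2)
  rw [o4, ← hC] at hD
  have fz : π f' * π z' * (π f')⁻¹ = π e' := by
    rw [← map_inv, ← map_mul, ← map_mul]; exact congrArg π (Subtype.ext h.fz)
  have f3 : π f' * π f' * π f' = 1 := by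
    rw [← map_mul, ← map_mul, show f' * f' * f' = 1 from Subtype.ext h.f3, map_one]
  have ρf : π ρ' * π f' * π ρ' * π f' = 1 := by
    rcases hy with rfl | rfl
    · rw [← map_mul, ← map_mul, ← map_mul, show ρ' * f' * ρ' * f' = 1 from Subtype.ext ρy, map_one]
    · rw [← map_one π, ← show ρ' * (x' * f') * ρ' * (x' * f') = 1 from Subtype.ext ρy]
      simp only [map_mul, πx, one_mul]
  have ρρ : π ρ' * π ρ' = 1 := by rw [← map_mul, show ρ' * ρ' = 1 from Subtype.ext ρ2, map_one]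
  have sf : π s' * π f' * π s' = (π f')⁻¹ := by
    rw [← map_inv, ← map_mul, ← map_mul]; exact congrArg π (Subtype.ext h.sf)
  obtain ⟨χ, hχ, -⟩ := five_dvd (Inv.ne_one_of_two z2) (Inv.mul_self_of_two z2) (Inv.mul_self_of_two e2) ρρ f3
    (by rw [← map_mul, ← map_mul, ← map_mul, show z' * e' * z' * e' = 1 from
      Subtype.ext (by change 𝐳 * 𝐞 * 𝐳 * 𝐞 = 1; exact mdl h.inj), map_one]) fz
    (by rw [← map_inv, ← map_mul, ← map_mul, ← map_mul]; exact congrArg π (Subtype.ext h.fe)) ρf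
    (by simp only [← map_mul]; rw [show ρ' * z' * ρ' * z' * ρ' * z' = 1 from Subtype.ext ρz, map_one])
  have h60 : 60 ∣ Nat.card (X ⧸ zpowers x') := by
    have := Subgroup.card_dvd_of_injective χ hχ
    rwa [El.card_El] at this
  have key : ∀ g : X ⧸ zpowers x', g ^ 12 = 1 ∨ g ^ 5 = 1 := by
    rcases S3035.result _ z2 hD with H | ⟨⟨e⟩⟩ | ⟨⟨e⟩⟩ | ⟨⟨e⟩⟩ | ⟨⟨e⟩⟩
    · obtain ⟨c, hc, o, ho, e⟩ := mem_sup_of_normal_right.mp (H.ge (mem_top (π f')⁻¹))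
      have h1 : π (e' * z') ∈ oddCore (X ⧸ zpowers x') := by
        have h2 : π e' = o⁻¹ * π z' * o := by
          rw [← fz, ← inv_inv (π f'), ← e, inv_inv, mul_inv_rev]
          calc _ = o⁻¹ * (c⁻¹ * (π z' * c)) * o := by group
            _ = _ := by rw [← mem_cent.mp hc]; group
        rw [map_mul, h2, mul_assoc, mul_assoc, ← mul_assoc (π z')]
        nth_rw 2 [← Inv.inv_eq_of_two z2]
        exact mul_mem (inv_mem ho) (Normal.conj_mem inferInstance o ho _)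
      exact absurd ez2 (Inv.odd_card_iff.mp Inv.odd_card_oddCore _ h1)
    · rw [Nat.card_congr e.toEquiv, Nat.card_perm, Nat.card_eq_fintype_card, Fintype.card_fin] at h60
      exact absurd h60 (by decide)
    · exact fun g => (perm_pow (by norm_num) (e g)).imp (fun H => e.injective (by rw [map_pow, H, map_one]))
        fun H => e.injective (by rw [map_pow, H, map_one])
    · have h1 := Classical.SLBasic.card_SL (F := ZMod 2) 3 (by norm_num)
      rw [Nat.card_zmod, Fin.prod_univ_three, ← Nat.card_congr e.toEquiv] at h1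
      generalize Nat.card (X ⧸ zpowers x') = n at h1 h60
      norm_num at h1
      exact absurd (h1 ▸ h60) (by decide)
    · exact fun g => (perm_pow le_rfl (e g).1).imp (fun H => e.injective (Subtype.ext (by rw [map_pow, map_one]; exact H)))
        fun H => e.injective (Subtype.ext (by rw [map_pow, map_one]; exact H))
  have cf : Commute (π ρ' * π s') (π f') := by
    have h1 : π ρ' * (π f')⁻¹ * π ρ' = π f' := by
      calc _ = (π ρ' * π ρ') * π f' * (π ρ' * π f' * π ρ' * π f')⁻¹ * (π ρ' * π ρ') := by group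
        _ = _ := by rw [ρρ, ρf]; group
    calc _ = π ρ' * (π s' * π f' * π s') * (π s')⁻¹ := by group
      _ = (π ρ' * (π f')⁻¹ * π ρ') * ((π ρ')⁻¹ * (π s')⁻¹) := by rw [sf]; group
      _ = _ := by rw [h1, inv_eq_of_mul_eq_one_left ρρ, Inv.inv_eq_of_two s2]
  have f3' : π f' ^ 3 = 1 := by rw [← f3]; simp only [pow_succ, pow_zero, one_mul]
  have c12 : (π ρ' * π s') ^ 12 = 1 := by
    rcases key (π ρ' * π s') with H | H
    · exact H
    rcases key (π ρ' * π s' * π f') with H' | H' <;> rw [cf.mul_pow] at H'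
    · rwa [show π f' ^ 12 = (π f' ^ 3) ^ 4 by rw [← pow_mul], f3', one_pow, mul_one] at H'
    · rw [H, one_mul, show π f' ^ 5 = π f' ^ 3 * π f' ^ 2 by rw [← pow_add], f3', one_mul] at H'
      rw [pow_succ, H', one_mul] at f3'
      rw [f3', mul_inv_eq_iff_eq_mul, mul_one, one_mul] at fz
      rw [map_mul, fz] at ez2
      exact absurd (Inv.mul_self_of_two e2) (Inv.ne_one_of_two ez2)
  have ss : 𝐬 * 𝐬 = 1 := mdl h.inj
  have sc : ∀ k : ℕ, 𝐬 * (ρ * 𝐬) ^ k * 𝐬⁻¹ = ((ρ * 𝐬) ^ k)⁻¹ := Inv.conj_pow_of_inverts (Inv.inverts_mul_right ρ2 ss)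
  have c12' : (ρ * 𝐬) ^ 12 = 1 := by
    rw [← map_mul, ← map_pow] at c12
    have h1 := sc 12
    rcases hπ _ c12 with e | e | e <;> change (ρ * 𝐬) ^ 12 = _ at e
    · exact e
    · rw [e] at h1; exact absurd h1 (mdl h.inj)
    · rw [e] at h1; exact absurd h1 (mdl h.inj)
  have cx : Commute (ρ * 𝐬) 𝐱 := mem_cent.mp (ρ' * s').2
  have cf3 : Commute ((ρ * 𝐬) ^ 3) (ψ nf) := by
    have h1 := hπ ((ρ' * s') * f' * (ρ' * s')⁻¹ * f'⁻¹) (by
      rw [map_mul, map_mul, map_mul, map_inv, map_inv, map_mul, cf.eq]; group)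
    obtain ⟨y, hy3, hyc, hy⟩ : ∃ y : G, y * y * y = 1 ∧ Commute (ρ * 𝐬) y ∧ MulAut.conj (ρ * 𝐬) (ψ nf) = y * ψ nf := by
      rcases h1 with e | e | e
      · exact ⟨1, by simp, by simp, mul_inv_eq_iff_eq_mul.mp e⟩
      · exact ⟨𝐱, x3, cx, mul_inv_eq_iff_eq_mul.mp e⟩
      · exact ⟨𝐱⁻¹, mdl h.inj, cx.inv_right, mul_inv_eq_iff_eq_mul.mp e⟩
    have hy' : MulAut.conj (ρ * 𝐬) y = y := conj_eq hyc.eq
    refine comm_of_conj ?_
    rw [← MulAut.conj_apply, map_pow]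
    simp only [pow_succ, pow_zero, one_mul, MulAut.mul_apply, hy, map_mul (MulAut.conj (ρ * 𝐬)), hy']
    rw [← mul_assoc, ← mul_assoc, hy3, one_mul]
  by_contra hne
  by_cases h6 : ((ρ * 𝐬) ^ 3) ^ 2 = 1
  · exact h.not_two (Inv.two_of_mul_self hne (by rw [← pow_two, h6])) (cx.pow_left 3).eq cf3.eq
  · exact h.not_two (Inv.two_of_mul_self h6 (by rw [← pow_two, ← pow_mul, ← pow_mul, c12']))
      ((cx.pow_left 3).pow_left 2).eq (cf3.pow_left 2).eq

end Cfsg.Agent.HJ
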