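import Cfsg.Agent.HJ.Fix
import Cfsg.Agent.HJ.TabS
import Cfsg.Agent.Inv.Ess5
import Cfsg.Agent.Transfer.Abelian

/-!
# HJ/Odd: Sylow 3- and 5-subgroups of the Hall-Janko group
-/

set_option autoImplicit false
set_option maxRecDepth 100000

namespace Cfsg.Agent.HJ

open Cfsg.Agent.Comp Cfsg.Agent.Core Subgroup

variable {G : Type*} [Group G] {ρ : G →* Equiv.Perm ℕ} {s : ℕ → G}

/-- the solutions of `g ^ p = 1`, when they form a subgroup -/
def pw {M : Type} [Group M] {p : ℕ} (h : ∀ a : M, a ^ p = 1 → ∀ b : M, b ^ p = 1 → (a * b) ^ p = 1) : Subgroup M where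
  carrier := {g | g ^ p = 1}
  mul_mem' ha hb := h _ ha _ hb
  one_mem' := one_pow p
  inv_mem' {a} ha := by rw [Set.mem_setOf_eq, inv_pow, show a ^ p = 1 from ha, inv_one]

theorem range_le_norm {M : Type} [Group M] {p : ℕ} (h : ∀ a : M, a ^ p = 1 → ∀ b : M, b ^ p = 1 → (a * b) ^ p = 1)
    (θ : M →* G) : θ.range ≤ normalizer (((pw h).map θ : Subgroup G) : Set G) := by
  haveI : (pw h).Normal := ⟨fun a ha g => show _ ^ p = 1 by rw [conj_pow, show a ^ p = 1 from ha]; group⟩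
  rw [MonoidHom.range_eq_map, ← normalizer_eq_top (pw h)]
  exact le_normalizer_map θ

theorem inj_of_comm {M : Type} [Group M] {θ : M →* G} {p : ℕ} (hP : ∀ c, c ^ p = 1 → θ c = 1 → c = 1) {a b : M}
    (h : ∀ g : M, g ^ p = 1 ∨ (fun c => c ^ p = 1 ∧ c ≠ 1) (a * g * a⁻¹ * g⁻¹) ∨
      (fun c => c ^ p = 1 ∧ c ≠ 1) (b * g * b⁻¹ * g⁻¹)) : Function.Injective θ :=
  (injective_iff_map_eq_one θ).mpr fun g hg => by
    rcases h g with H | H | H
    exacts [hP g H hg, absurd (hP _ H.1 (by simp [hg])) H.2, absurd (hP _ H.1 (by simp [hg])) H.2]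

theorem map_word {D : RTab} [Fact D.OK] {θ : El D →* G} {F : List (List ℕ)}
    (h : ∀ a < D.L, θ (El.l D a) = ev s (F.getD a [])) {w : List ℕ} (hw : ∀ a ∈ w, a < D.L) :
    θ (ev (El.l D) w) = ev s (subst F w) := by
  rw [map_ev, ev_subst]; exact ev_congr fun a ha => h a (hw a ha)

theorem card_norm_sylow [Finite G] {p : ℕ} [Fact p.Prime] (P Q : Sylow p G) :
    Nat.card (normalizer ((P : Subgroup G) : Set G)) = Nat.card (normalizer ((Q : Subgroup G) : Set G)) := by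
  have h := P.card_eq_index_normalizer.symm.trans Q.card_eq_index_normalizer
  have h1 := (normalizer ((P : Subgroup G) : Set G)).card_mul_index
  rw [← (normalizer ((Q : Subgroup G) : Set G)).card_mul_index] at h1
  exact Nat.eq_of_mul_eq_mul_right (Nat.pos_of_ne_zero index_ne_zero_of_finite) (h1.trans (congrArg _ h.symm))

def tx : El DT := ⟨nat_lit 207, by decide +kernel⟩

def tu : El DT := ⟨nat_lit 1, by decide +kernel⟩

theorem t_l : tx = ev (El.l DT) [2, 0, 3, 3, 1, 2, 0] ∧ tu = ev (El.l DT) [0] := by decide +kernel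

theorem t_mul : ∀ a : El DT, a ^ 3 = 1 → ∀ b : El DT, b ^ 3 = 1 → (a * b) ^ 3 = 1 := by decide +kernel

theorem t_cl : ∀ c : El DT, c ^ 3 = 1 → c = 1 ∨ ∃ n, n * c * n⁻¹ = tx ∨ n * c * n⁻¹ = tu := by decide +kernel

theorem t_cen : ∀ c : El DT, c ^ 3 = 1 → c * tx = tx * c ∧
    ((∀ d : El DT, d ^ 3 = 1 → d * c = c * d) → c = 1 ∨ c = tx ∨ c = tx⁻¹) := by decide +kernel

def fy : El DF := ⟨nat_lit 1, by decide +kernel⟩

def fw : El DF := ⟨nat_lit 49, by decide +kernel⟩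

theorem f_l : fy = ev (El.l DF) [0] ∧ fw = ev (El.l DF) [3, 1, 3, 0] := by decide +kernel

theorem f_mul : ∀ a : El DF, a ^ 5 = 1 → ∀ b : El DF, b ^ 5 = 1 → (a * b) ^ 5 = 1 := by decide +kernel

theorem f_cl : ∀ c : El DF, c ^ 5 = 1 → c = 1 ∨ ∃ n, ∃ i < 5, n * c ^ i * n⁻¹ = fy ∨ n * c ^ i * n⁻¹ = fw := by
  decide +kernel

theorem f_not : ∀ n : El DF, ∀ i < 5, n * fy * n⁻¹ ≠ fw ^ i := by decide +kernel

namespace JR

theorem le_St (h : JR s ρ) (W : List (List ℕ)) (hW : ∀ w ∈ W, ∀ x ∈ w, x < 6) {p : ℕ}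
    (H : invS J2.T W (pt p) = true) : genW s W ≤ St ρ p := fun g hg =>
  fix_of_invS J2.ok H (h.rep.map_genW hW ▸ mem_map_of_mem ρ hg)

theorem card_St_le (h : JR s ρ) {K : Subgroup G} (W : List (List ℕ)) (hW : ∀ w ∈ W, ∀ x ∈ w, x < 6)
    (hK : genW s W ≤ K) (sch : List ℕ) (b n : ℕ) (H : orbGe (nat_lit 100) (nat_lit 7) J2.T W sch b n = true) :
    Nat.card (St ρ b ⊓ K : Subgroup G) * n ≤ Nat.card K := by
  rw [← card_St_mul (ρ := ρ) K b]
  refine Nat.mul_le_mul_left _ ((le_ncard_of_orbGe J2.ok (by norm_num) H).trans (Set.ncard_le_ncard ?_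
    (orbit_finite (N := 100) (by rintro _ ⟨g, -, rfl⟩; exact h.rep.bd g) b)))
  rw [← h.rep.map_genW hW]
  rintro _ ⟨⟨_, g, hg, rfl⟩, rfl⟩
  exact ⟨⟨_, g, hK hg, rfl⟩, rfl⟩

theorem model (h : JR s ρ) (D : RTab) [Fact D.OK] (F : List (List ℕ))
    (hF : ∀ w ∈ D.R.map (subst F), ∀ x ∈ w, x < 6)
    (hS : relsP (nat_lit 100) (nat_lit 7) (nat_lit 0) (nat_lit 7) J2.T (D.R.map (subst F)) = true) :
    ∃ θ : El D →* G, (∀ a < D.L, θ (El.l D a) = ev s (F.getD a [])) ∧
      θ.range = gen (fun a => ev s (F.getD a [])) D.L :=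
  El.exists_hom (h.sat _ hF hS).subst

theorem three (h : JR s ρ) : ∃ θ : El DT →* G, Function.Injective θ ∧ θ.range ≤ St ρ 0 ∧
    (∀ i < 100, ρ (θ tx) i = i ↔ i ∈ [0, 37, 46, 50, 57, 58, 80, 85, 92, 97]) ∧
    ∀ i < 100, ρ (θ tu) i = i ↔ i ∈ [0, 1, 29, 31] := by
  obtain ⟨θ, h1, h2⟩ := h.model DT [[0, 1, 3, 0], [0, 3, 1, 0], [0, 2, 1, 4], [4, 1, 2, 0]] (by decide +kernel)
    (by decide +kernel)
  have h3 := h.fix_iff (subst [[0, 1, 3, 0], [0, 3, 1, 0], [0, 2, 1, 4], [4, 1, 2, 0]] [2, 0, 3, 3, 1, 2, 0])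
    [0, 37, 46, 50, 57, 58, 80, 85, 92, 97] (by decide +kernel) (by decide +kernel)
  have h4 := h.fix_iff (subst [[0, 1, 3, 0], [0, 3, 1, 0], [0, 2, 1, 4], [4, 1, 2, 0]] [0])
    [0, 1, 29, 31] (by decide +kernel) (by decide +kernel)
  rw [← map_word h1 (by decide +kernel)] at h3 h4
  rw [← t_l.1] at h3
  rw [← t_l.2] at h4
  refine ⟨θ, inj_of_comm (p := 3) (a := tu) (b := tu) (fun c hc e => (t_cl c hc).resolve_right ?_)
    (by decide +kernel), h2.trans_le ((gen_subst s _).trans_le (h.le_St _ (by decide) (by decide +kernel))), h3, h4⟩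
  rintro ⟨n, H | H⟩
  · exact ne_one h3 (by decide) (by simp [← H, e])
  · exact ne_one h4 (by decide) (by simp [← H, e])

theorem five (h : JR s ρ) : ∃ θ : El DF →* G, Function.Injective θ := by
  obtain ⟨θ, h1, -⟩ := h.model DF [[0, 4, 0, 5], [5, 0, 4, 0], [5], [0, 1, 5, 0, 3, 1, 2, 4, 5, 0, 4]]
    (by decide +kernel) (by decide +kernel)
  have h3 := h.fix_iff (subst [[0, 4, 0, 5], [5, 0, 4, 0], [5], [0, 1, 5, 0, 3, 1, 2, 4, 5, 0, 4]] [0])
    [] (by decide +kernel) (by decide +kernel)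
  have h4 := h.fix_iff (subst [[0, 4, 0, 5], [5, 0, 4, 0], [5], [0, 1, 5, 0, 3, 1, 2, 4, 5, 0, 4]] [3, 1, 3, 0])
    [] (by decide +kernel) (by decide +kernel)
  rw [← map_word h1 (by decide +kernel)] at h3 h4
  rw [← f_l.1] at h3
  rw [← f_l.2] at h4
  refine ⟨θ, inj_of_comm (p := 5) (a := fy) (b := fw) (fun c hc e => (f_cl c hc).resolve_right ?_)
    (by decide +kernel)⟩
  rintro ⟨n, i, -, H | H⟩
  · exact ne_one h3 (by decide) (by simp [← H, e])
  · exact ne_one h4 (by decide) (by simp [← H, e])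

theorem card_three [Finite G] (h : JR s ρ) : Nat.card (St ρ 46 ⊓ (St ρ 37 ⊓ St ρ 0) : Subgroup G) ≤ 3 := by
  have h1 := h.card_St_le J2.W0 (by decide) (h.le_St _ (by decide) (p := 0) (by decide +kernel))
    [0, 1, 2, 3, 4, 0, 1, 3, 2] 37 63 (by decide +kernel)
  have h2 := h.card_St_le [[1, 3, 1], [3, 4, 0, 1, 0, 4]] (by decide)
    (le_inf (h.le_St _ (by decide) (p := 37) (by decide +kernel)) (h.le_St _ (by decide) (p := 0) (by decide +kernel)))
    [0, 1, 0, 1, 1, 0, 1, 1, 1] 46 32 (by decide +kernel)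
  rw [h.card_St (by norm_num)] at h1
  omega

theorem fact_card (h : JR s ρ) : (Nat.card G).factorization 3 = 3 ∧ (Nat.card G).factorization 5 = 2 := by
  rw [h.card, Nat.factorization_def _ (by norm_num), Nat.factorization_def _ (by norm_num)]
  decide +kernel

theorem syl3 [Finite G] (h : JR s ρ) (P : Sylow 3 G) : IsExtraspecial 3 (P : Subgroup G) ∧ Nat.card P = 27 ∧
    Nat.card (normalizer ((P : Subgroup G) : Set G)) = 216 ∧ ∃ a b : G, orderOf a = 3 ∧ orderOf b = 3 ∧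
      (∀ i < 100, ρ a i = i ↔ i ∈ [0, 37, 46, 50, 57, 58, 80, 85, 92, 97]) ∧ (∀ i < 100, ρ b i = i ↔ i ∈ [0, 1, 29, 31]) ∧
      ¬ IsConj a b ∧ ∀ c : G, orderOf c = 3 → IsConj c a ∨ IsConj c b := by
  haveI : Fact (Nat.Prime 3) := ⟨by norm_num⟩
  obtain ⟨θ, hi, h0, hx, hu⟩ := h.three
  have c0 : Nat.card ((pw t_mul).map θ) = 3 ^ (Nat.card G).factorization 3 := by
    rw [card_map_of_injective hi, h.fact_card.1]
    exact (El.card_eq_cnt fun g : El DT => g ^ 3 = 1).trans (by decide +kernel)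
  let Q := Sylow.ofCard _ c0
  have hQ : (Q : Subgroup G) = (pw t_mul).map θ := rfl
  have c1 : Nat.card P = 27 := by rw [P.card_eq_multiplicity, h.fact_card.1]; rfl
  have x3 : tx ∈ pw t_mul := show _ = _ by decide +kernel
  have u3 : tu ∈ pw t_mul := show _ = _ by decide +kernel
  refine ⟨Inv.Es.extraspecial_of_cube c1 fun H => ?_, c1, ?_, θ tx, θ tu, orderOf_eq_prime (mdl hi) (mdl hi),
    orderOf_eq_prime (mdl hi) (mdl hi), hx, hu, fun H => ?_, fun c hc => ?_⟩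
  · obtain ⟨k, hk⟩ := Inv.exists_conj_le_sylow P Q.isPGroup'
    have := ((t_cen tu u3).2 fun d hd => hi ?_)
    · revert this; decide +kernel
    · have := conj_comm (H (hk _ ⟨_, u3, rfl⟩) _ (hk _ ⟨_, hd, rfl⟩)) k⁻¹
      simpa [mul_assoc] using this
  · rw [card_norm_sylow P Q, hQ]
    refine le_antisymm ?_ ((El.card_range hi).ge.trans (card_le_of_le (range_le_norm _ θ)))
    set N := normalizer (((pw t_mul).map θ : Subgroup G) : Set G)
    have hc : ∀ g ∈ N, ∀ c ∈ pw t_mul, ∃ d ∈ pw t_mul, θ d = g⁻¹ * θ c * g := fun g hg c hc => by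
      simpa using (mem_normalizer_iff.mp (inv_mem hg) _).mp ⟨c, hc, rfl⟩
    have h1 : N ≤ St ρ 0 := fun g hg => by
      obtain ⟨d, -, e⟩ := hc g hg _ x3
      obtain ⟨d', -, e'⟩ := hc g hg _ u3
      have l := Bd.lt (h.rep.bd g) (show 0 < 100 by norm_num)
      have a1 := (hx _ l).mp (fix_conj (e ▸ h0 ⟨d, rfl⟩))
      have a2 := (hu _ l).mp (fix_conj (e' ▸ h0 ⟨d', rfl⟩))
      simp only [List.mem_cons, List.not_mem_nil, or_false] at a1 a2
      rw [mem_St]; omega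
    have h2 : ∀ g ∈ N, ∀ p < 100, θ tx ∈ St ρ p → ρ g p ∈ [0, 37, 46, 50, 57, 58, 80, 85, 92, 97] :=
      fun g hg p hp e => (hx _ (Bd.lt (h.rep.bd g) hp)).mp (fix_conj (by
        obtain ⟨d, hd, e'⟩ := hc g hg _ x3
        rw [← e', ← mem_St]
        rcases (t_cen d hd).2 fun c hc' => hi (by
          obtain ⟨c', h3, h4⟩ := hc _ (inv_mem hg) c hc'
          have := conj_comm (congrArg θ (t_cen c' h3).1 |>.trans (map_mul ..) |> (map_mul ..).symm.trans) g⁻¹
          rw [h4] at this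
          simpa [mul_assoc, e'] using this) with rfl | rfl | rfl
        exacts [map_one θ ▸ one_mem _, e, map_inv θ tx ▸ inv_mem e]))
    have h3 : ∀ {g p q}, g ∈ St ρ p → q ≠ p → ρ g q ≠ p := fun hg hq e => hq ((ρ _).injective (e.trans hg.symm))
    refine card_le_step (ρ := ρ) (p := 37) (m := 3 * 8) (l := [37, 46, 50, 57, 58, 80, 85, 92, 97]) (fun g hg => ?_)
      (card_le_step (ρ := ρ) (p := 46) (l := [46, 50, 57, 58, 80, 85, 92, 97]) (fun g hg => ?_)
        ((card_le_of_le (inf_le_inf_left _ (inf_le_inf_left _ h1))).trans h.card_three))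
    · exact List.mem_of_ne_of_mem (h3 (h1 hg) (by norm_num)) (h2 g hg 37 (by norm_num) ((hx _ (by norm_num)).mpr (by simp)))
    · exact List.mem_of_ne_of_mem (h3 hg.1 (by norm_num)) (List.mem_of_ne_of_mem (h3 (h1 hg.2) (by norm_num))
        (h2 g hg.2 46 (by norm_num) ((hx _ (by norm_num)).mpr (by simp))))
  · obtain ⟨k, hk⟩ := isConj_iff.mp H
    have h1 : ∀ p ∈ [0, 37, 46, 50, 57], ρ k p ∈ [0, 1, 29, 31] := fun p hp => by
      have h2 : p < 100 ∧ p ∈ [0, 37, 46, 50, 57, 58, 80, 85, 92, 97] := by revert p; decide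
      refine (hu _ (Bd.lt (h.rep.bd k) h2.1)).mp (fix_conj ?_)
      rw [← hk, show k⁻¹ * (k * θ tx * k⁻¹) * k = θ tx by group]
      exact (hx p h2.1).mpr h2.2
    have h2 := (((by decide : [0, 37, 46, 50, 57].Nodup).map (ρ k).injective).subperm
      (fun _ hq => by obtain ⟨p, hp, rfl⟩ := List.mem_map.mp hq; exact h1 p hp)).length_le
    exact absurd h2 (by simp)
  · obtain ⟨k, hk⟩ := Inv.exists_conj_le_sylow Q (J1.isPGroup_zpowers hc)
    obtain ⟨d, hd, e⟩ := hk c (mem_zpowers c)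
    have h1 : ∀ n, IsConj c (θ (n * d * n⁻¹)) := fun n => isConj_iff.mpr ⟨θ n * k, by simp [e, mul_assoc]⟩
    rcases t_cl d hd with rfl | ⟨n, H | H⟩
    · rw [← Inv.orderOf_conj k, ← e, map_one, orderOf_one] at hc; omega
    exacts [.inl (H ▸ h1 n), .inr (H ▸ h1 n)]

theorem cent5 [Finite G] (h : JR s ρ) (P : Sylow 5 G) :
    Nat.card P = 25 ∧ centralizer ((P : Subgroup G) : Set G) = P := by
  haveI : Fact (Nat.Prime 3) := ⟨by norm_num⟩
  haveI : Fact (Nat.Prime 5) := ⟨by norm_num⟩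
  haveI : Fact (Nat.Prime 7) := ⟨by norm_num⟩
  have c1 : Nat.card P = 25 := by rw [P.card_eq_multiplicity, h.fact_card.2]; rfl
  haveI : IsMulCommutative P := IsPGroup.isMulCommutative_of_card_eq_prime_sq (p := 5) c1
  refine ⟨c1, (eq_of_le_of_card_ge (le_centralizer _) (c1 ▸ Nat.le_of_dvd (by norm_num) ?_)).symm⟩
  have d2 := Nat.coprime_two_right.mpr (h.odd (X := P) (by rw [c1]; norm_num))
  have d3 : (Nat.card (centralizer ((P : Subgroup G) : Set G))).Coprime 3 :=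
    ((Nat.Prime.coprime_iff_not_dvd Fact.out).mpr fun H => by
      obtain ⟨u, hu⟩ := exists_prime_orderOf_dvd_card' 3 H
      rw [← orderOf_coe] at hu
      obtain ⟨-, -, -, a, b, -, -, ha, hb, -, h1⟩ := h.syl3 default
      have h2 : ∀ {t : G} {l : List ℕ}, IsConj (u : G) t → (∀ i < 100, ρ t i = i ↔ i ∈ l) → 0 ∈ l → 25 ≤ l.length :=
        fun {t l} H hl h0 => by
          obtain ⟨k, hk⟩ := isConj_iff.mp H
          have c2 := (card_map_of_injective (f := (MulAut.conj k).toMonoidHom) (MulAut.conj k).injective).trans c1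
          rw [← c2]
          refine h.card_le (by rw [c2]; norm_num) ?_ hl (by norm_num) h0
          rintro _ ⟨g, hg, rfl⟩
          exact (comm_conj_iff hk g).mp (u.2 g hg)
      rcases h1 u hu with H | H
      exacts [absurd (h2 H ha (by simp)) (by decide), absurd (h2 H hb (by simp)) (by decide)]).symm
  have d7 : (Nat.card (centralizer ((P : Subgroup G) : Set G))).Coprime 7 :=
    ((Nat.Prime.coprime_iff_not_dvd Fact.out).mpr fun H => by
      obtain ⟨u, hu⟩ := exists_prime_orderOf_dvd_card' 7 H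
      rw [← orderOf_coe] at hu
      obtain ⟨X, hX⟩ := (J1.isPGroup_zpowers hu).exists_le_sylow
      obtain ⟨h1, h2, -⟩ := h.syl7 X
      rw [← eq_of_le_of_card_ge hX (by rw [h1, Nat.card_zpowers, hu])] at h2
      have := card_le_of_le (show (P : Subgroup G) ≤ centralizer (zpowers (u : G) : Set G) from
        le_centralizer_iff.mp (zpowers_le.mpr u.2))
      omega).symm
  exact (((d2.pow_right 7).mul_right (d3.pow_right 3)).mul_right d7).dvd_of_dvd_mul_left
    ((card_subgroup_dvd_card _).trans (by rw [h.card]))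

theorem syl5 [Finite G] (h : JR s ρ) (P : Sylow 5 G) : Nat.card (normalizer ((P : Subgroup G) : Set G)) = 300 ∧
    ∃ X Y : Subgroup G, Nat.card X = 5 ∧ Nat.card Y = 5 ∧ (∀ g : G, X.map (MulAut.conj g).toMonoidHom ≠ Y) ∧
      ∀ W : Subgroup G, Nat.card W = 5 →
        ∃ g : G, W.map (MulAut.conj g).toMonoidHom = X ∨ W.map (MulAut.conj g).toMonoidHom = Y := by
  classical
  haveI : Fact (Nat.Prime 5) := ⟨by norm_num⟩
  obtain ⟨θ, hi⟩ := h.five
  have c0 : Nat.card ((pw f_mul).map θ) = 5 ^ (Nat.card G).factorization 5 := by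
    rw [card_map_of_injective hi, h.fact_card.2]
    exact (El.card_eq_cnt fun g : El DF => g ^ 5 = 1).trans (by decide +kernel)
  let Q := Sylow.ofCard _ c0
  have hQ : (Q : Subgroup G) = (pw f_mul).map θ := rfl
  obtain ⟨c1, c2⟩ := h.cent5 Q
  haveI : IsMulCommutative Q := IsPGroup.isMulCommutative_of_card_eq_prime_sq (p := 5) c1
  have hN : θ.range = normalizer ((Q : Subgroup G) : Set G) := by
    have h1 := (PGrp.relIndex_centralizer_dvd_card_mulAut (R := (Q : Subgroup G)) le_rfl).trans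
      (PGrp.card_mulAut_dvd_of_card_le_sq (p := 5) this (fun ⟨_, v, hv, rfl⟩ => Subtype.ext (by
        change θ v ^ 5 = 1; rw [← map_pow, show v ^ 5 = 1 from hv, map_one])) c1.le)
    have h2 := card_mul_relIndex (centralizer_le_normalizer ((Q : Subgroup G) : Set G))
    have h3 := card_sylow_modEq_one 5 G
    have h4 := (normalizer ((Q : Subgroup G) : Set G)).card_mul_index
    have h5 := card_dvd_of_le (range_le_norm f_mul θ)
    refine eq_of_le_of_card_ge (range_le_norm f_mul θ) ?_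
    rw [Q.card_eq_index_normalizer] at h3
    rw [← hQ] at h5
    rw [El.card_range hi] at h5 ⊢
    rw [← h2, c2, c1] at h4 h5 ⊢
    rw [c2] at h1
    generalize (Q : Subgroup G).relIndex (normalizer ((Q : Subgroup G) : Set G)) = k at h1 h4 h5 ⊢
    change (normalizer ((Q : Subgroup G) : Set G)).index % 5 = 1 at h3
    generalize (normalizer ((Q : Subgroup G) : Set G)).index = n at h3 h4
    rw [h.card] at h4
    change 300 ∣ _ at h5
    change _ ≤ 300
    have h6 : k ∣ 96 := Nat.dvd_gcd h1 (Dvd.intro n (by linarith) : k ∣ 24192)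
    have := Nat.le_of_dvd (by norm_num) h6
    interval_cases k <;> omega
  have y5 : orderOf (θ fy) = 5 := orderOf_eq_prime (mdl hi) (mdl hi)
  have w5 : orderOf (θ fw) = 5 := orderOf_eq_prime (mdl hi) (mdl hi)
  refine ⟨by rw [card_norm_sylow P Q, ← hN, El.card_range hi]; rfl, zpowers (θ fy), zpowers (θ fw),
    by rw [Nat.card_zpowers, y5], by rw [Nat.card_zpowers, w5], fun g e => ?_, fun W hW => ?_⟩
  · have h1 : g * θ fy * g⁻¹ ∈ zpowers (θ fw) := e ▸ mem_map_of_mem (MulAut.conj g).toMonoidHom (mem_zpowers _)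
    obtain ⟨v, hv, h2⟩ := Transfer.control_normalizer_of_abelian Q (x := θ fy) ⟨_, show _ = _ by decide +kernel, rfl⟩
      (zpowers_le.mpr (show θ fw ∈ (Q : Subgroup G) from ⟨_, show _ = _ by decide +kernel, rfl⟩) h1)
    obtain ⟨n, rfl⟩ := hN.ge hv
    obtain ⟨i, hi5, h3⟩ := Finset.mem_image.mp (mem_zpowers_iff_mem_range_orderOf.mp h1)
    exact f_not n i (w5 ▸ Finset.mem_range.mp hi5) (hi (by simp [h2, h3]))
  · obtain ⟨k, hk⟩ := Inv.exists_conj_le_sylow Q (IsPGroup.of_card (n := 1) hW)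
    haveI := isCyclic_of_prime_card hW
    obtain ⟨c, rfl⟩ := W.isCyclic_iff_exists_zpowers_eq_top.mp this
    obtain ⟨d, hd, e⟩ := hk c (mem_zpowers c)
    have h1 : ∀ n i, orderOf (θ (n * d ^ i * n⁻¹)) = 5 →
        (zpowers c).map (MulAut.conj (θ n * k)).toMonoidHom = zpowers (θ (n * d ^ i * n⁻¹)) := fun n i h5 =>
      (eq_of_le_of_card_ge (zpowers_le.mpr (mem_map.mpr ⟨c ^ i, npow_mem_zpowers _ _, by
        rw [map_mul θ, map_mul θ, map_pow θ, e, conj_pow]; simp [mul_assoc]⟩))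
        (by rw [card_map_of_injective (MulAut.conj _).injective, hW, Nat.card_zpowers, h5])).symm
    rcases f_cl d hd with rfl | ⟨n, i, -, H | H⟩
    · rw [Nat.card_zpowers, ← Inv.orderOf_conj k, ← e, map_one, orderOf_one] at hW; omega
    exacts [⟨_, .inl (H ▸ h1 n i (H ▸ y5))⟩, ⟨_, .inr (H ▸ h1 n i (H ▸ w5))⟩]

end JR

end Cfsg.Agent.HJ
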