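import Cfsg.Agent.HJ.Odd

/-!
# HJ/Prod: the centraliser of the second involution as a direct product
-/

set_option autoImplicit false
set_option maxRecDepth 100000

namespace Cfsg.Agent.HJ

open Cfsg.Agent.Comp Cfsg.Agent.Core Subgroup

variable {G : Type*} [Group G]

theorem map_pCore_range {M : Type*} [Group M] {f : M →* G} (hf : Function.Injective f) {H : Subgroup G}
    (h : f.range = H) (p : ℕ) : (pCore p H).map H.subtype = (pCore p M).map f := by
  subst h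
  rw [← map_pCore_equiv p (MonoidHom.ofInjective hf), map_map]
  rfl

theorem mem_of_letters {D : RTab} [Fact D.OK] {f : El D →* G} {K : Subgroup G} (h : ∀ a < D.L, f (El.l D a) ∈ K)
    (u : El D) : f u ∈ K := (El.gen_l.ge.trans (gen_le.mpr h : _ ≤ K.comap f)) (mem_top u)

theorem four_hom {a b x : G} (a1 : a ≠ 1) (aa : a * a = 1) (bb : b * b = 1) (x3 : x * x * x = 1)
    (ab : a * b * a * b = 1) (xa : x * a * x⁻¹ = b) (xb : x * b * x⁻¹ = b * a) :
    ∃ f : El DV →* G, Function.Injective f ∧ f (El.l DV 0) = a ∧ f (El.l DV 1) = b ∧ f (El.l DV 2) = x := by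
  obtain ⟨f, hf, -⟩ := El.exists_hom (D := DV) (c := fun n => [a, b, x, x⁻¹].getD n 1) fun w hw => by
    simp only [DV, RDV, List.mem_cons, List.not_mem_nil, or_false] at hw
    rcases hw with rfl | rfl | rfl | rfl | rfl | rfl | rfl | rfl <;>
      simp only [ev_cons, ev_nil, List.getD_cons_succ, List.getD_cons_zero, mul_one, ← mul_assoc]
    exacts [aa, bb, by group, by group, x3, ab, by rw [xa, bb], by
      rw [xb, ← mul_left_inj b, one_mul, mul_assoc b, mul_assoc b, mul_assoc b, ab, mul_one]]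
  have h0 : f (El.l DV 0) = a := hf 0 (by decide)
  refine ⟨f, (injective_iff_map_eq_one f).mpr fun g hg => ?_, h0, hf 1 (by decide), hf 2 (by decide)⟩
  rcases (by decide +kernel : ∀ g : El DV, g = 1 ∨ ∃ u v, El.l DV 0 = u * g * u⁻¹ ∨
    El.l DV 0 = u * g * u⁻¹ * (v * g * v⁻¹)⁻¹) g with H | ⟨u, v, H | H⟩
  exacts [H, absurd (by rw [← h0, H]; simp [hg]) a1, absurd (by rw [← h0, H]; simp [hg]) a1]

/-- the Klein four group -/
abbrev V4 : Type := Multiplicative (ZMod 2) × Multiplicative (ZMod 2)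

noncomputable def ιV : V4 →* El DV where
  toFun p := El.l DV 0 ^ p.1.toAdd.val * El.l DV 1 ^ p.2.toAdd.val
  map_one' := by decide +kernel
  map_mul' := by decide +kernel

theorem v_inj : ∀ u : V4, ιV u = 1 → u = 1 := by decide +kernel

theorem v_sq : ∀ u : V4, ιV u ^ 2 = 1 ∧ ιV u * El.l DV 0 = El.l DV 0 * ιV u ∧ u ^ 2 ^ 1 = 1 := by decide +kernel

theorem v_mul : ∀ a : El DV, a ^ 2 = 1 → ∀ b : El DV, b ^ 2 = 1 → (a * b) ^ 2 = 1 := by decide +kernel

theorem v_cl : ∀ a : El DV, a ^ 2 = 1 → (∃ u, ιV u = a) ∧ (a = 1 ∨ ∃ k, k * a * k⁻¹ = El.l DV 0) := by decide +kernel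

theorem pCore_DA : pCore 2 (El DA) = ⊥ := by
  haveI : Fact (Nat.Prime 2) := ⟨Nat.prime_two⟩
  obtain ⟨e⟩ := equiv_DA
  haveI := e.isSimpleGroup
  refine ((inferInstance : (pCore 2 (El DA)).Normal).eq_bot_or_eq_top).resolve_right fun H => ?_
  obtain ⟨n, hn⟩ := IsPGroup.iff_card.mp (pCore_eq_top_iff.mp H)
  rw [El.card_El] at hn
  exact absurd (Nat.Prime.dvd_of_dvd_pow Nat.prime_three (hn ▸ (by decide : 3 ∣ DA.n))) (by norm_num)

theorem equiv_DV : Nonempty (El DV ≃* alternatingGroup (Fin 4)) := by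
  obtain ⟨f, hf, -⟩ := four_hom (G := alternatingGroup (Fin 4))
    (a := ⟨.swap 0 1 * .swap 2 3, Equiv.Perm.mem_alternatingGroup.mpr (by decide)⟩)
    (b := ⟨.swap 0 2 * .swap 1 3, Equiv.Perm.mem_alternatingGroup.mpr (by decide)⟩)
    (x := ⟨.swap 1 3 * .swap 1 2, Equiv.Perm.mem_alternatingGroup.mpr (by decide)⟩)
    (by decide) (by decide) (by decide) (by decide) (by decide) (by decide) (by decide)
  refine ⟨MulEquiv.ofBijective f ((Nat.bijective_iff_injective_and_card f).mpr ⟨hf, ?_⟩)⟩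
  rw [El.card_El, nat_card_alternatingGroup, Nat.card_eq_fintype_card, Fintype.card_fin]; rfl

theorem prod_res [Finite G] {f : El DV →* G} {g : El DA →* G} (hf : Function.Injective f) (hg : Function.Injective g)
    (hc : ∀ u v, Commute (f u) (g v)) {t : G} (ht : f (El.l DV 0) = t)
    (hC : Nat.card (centralizer ({t} : Set G)) = 240) :
    Nonempty (centralizer ({t} : Set G) ≃* V4 × alternatingGroup (Fin 5)) ∧
    Nonempty (normalizer (((pCore 2 (centralizer ({t} : Set G))).map (centralizer ({t} : Set G)).subtype : Subgroup G) :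
      Set G) ≃* alternatingGroup (Fin 4) × alternatingGroup (Fin 5)) := by
  haveI : Fact (Nat.Prime 2) := ⟨Nat.prime_two⟩
  obtain ⟨e4⟩ := equiv_DV
  obtain ⟨e5⟩ := equiv_DA
  have hd : Disjoint f.range g.range := disjoint_def.mpr fun ⟨u, hu⟩ ⟨v, hv⟩ => by
    rw [← hv, (by decide +kernel : ∀ v : El DA, (∀ w, v * w = w * v) → v = 1) v fun w => hg ?_, map_one]
    rw [map_mul, map_mul, hv, ← hu, hc]
  have hι : Function.Injective ιV := (injective_iff_map_eq_one _).mpr v_inj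
  let Θ := f.noncommCoprod g hc
  have hΘ : Function.Injective Θ := (MonoidHom.noncommCoprod_injective ..).mpr ⟨hf, hg, hd⟩
  let χ := Θ.comp (ιV.prodMap (MonoidHom.id _))
  have hχ : Function.Injective χ := hΘ.comp (hι.prodMap Function.injective_id)
  have h1 : χ.range = centralizer {t} := eq_of_le_of_card_ge (by
    rintro _ ⟨⟨u, v⟩, rfl⟩
    refine mul_mem (mem_cent.mpr ?_) (mem_cent.mpr (ht ▸ (hc _ v).symm))
    rw [← ht, ← map_mul, ← map_mul]
    exact congrArg f (v_sq u).2.1) (by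
    rw [hC, ← Nat.card_congr (MonoidHom.ofInjective hχ).toEquiv, Nat.card_prod, El.card_El]
    simp [DA])
  have h2 : pCore 2 (V4 × El DA) = (MonoidHom.snd _ _).ker := le_antisymm
    ((Subgroup.map_eq_bot_iff _).mp (eq_bot_iff.mpr ((map_pCore_le 2 Prod.snd_surjective).trans pCore_DA.le)))
    (le_pCore inferInstance fun ⟨⟨u, v⟩, hv⟩ => ⟨1, Subtype.ext (Prod.ext (v_sq u).2.2 (by
      obtain rfl : v = 1 := hv
      exact one_pow _))⟩)
  have h3 : (MonoidHom.snd _ _).ker.map χ = (pw v_mul).map f := by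
    ext y
    refine ⟨?_, ?_⟩
    · rintro ⟨⟨u, v⟩, rfl : v = 1, rfl⟩
      exact ⟨ιV u, (v_sq u).1, by simp [χ, Θ]⟩
    · rintro ⟨a, ha, rfl⟩
      obtain ⟨u, rfl⟩ := (v_cl a ha).1
      exact ⟨(u, 1), rfl, by simp [χ, Θ]⟩
  have h4 : Θ.range = normalizer (((pw v_mul).map f : Subgroup G) : Set G) := by
    refine le_antisymm ?_ fun n hn => ?_
    · rw [MonoidHom.noncommCoprod_range]
      refine sup_le (range_le_norm _ f) (le_trans ?_ (centralizer_le_normalizer _))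
      rintro _ ⟨v, rfl⟩ _ ⟨u, -, rfl⟩
      exact hc u v
    · obtain ⟨d, hd, e⟩ := (mem_normalizer_iff.mp hn _).mp ⟨El.l DV 0, show _ = _ by decide +kernel, ht⟩
      rcases (v_cl d hd).2 with rfl | ⟨k, hk⟩
      · rw [map_one, eq_comm, conj_eq_one_iff, ← ht, map_eq_one_iff _ hf] at e
        exact absurd e (by decide +kernel)
      · obtain ⟨m, hm⟩ := h1.ge (show f k * n ∈ centralizer {t} from mem_cent.mpr (comm_of_conj (by
          conv_rhs => rw [← ht, ← hk, map_mul, map_mul, e, map_inv]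
          group)))
        have := mul_mem (inv_mem (show f k ∈ Θ.range from ⟨(k, 1), by simp [Θ]⟩)) (show f k * n ∈ Θ.range from ⟨_, hm⟩)
        rwa [inv_mul_cancel_left] at this
  rw [map_pCore_range hχ h1, h2, h3, ← h4, ← h1]
  exact ⟨⟨(MonoidHom.ofInjective hχ).symm.trans ((MulEquiv.refl _).prodCongr e5)⟩,
    ⟨(MonoidHom.ofInjective hΘ).symm.trans (e4.prodCongr e5)⟩⟩

theorem JC.prod [Finite G] {φ : El DH →* G} {ψ : El DN →* G} {χ : El DC →* G} (h : JC φ ψ χ) :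
    ∃ (f : El DV →* G) (g : El DA →* G), Function.Injective f ∧ Function.Injective g ∧
      (∀ u v, Commute (f u) (g v)) ∧ f (El.l DV 0) = 𝐚 := by
  obtain ⟨f, hf, f0, f1, f2⟩ := four_hom (a := 𝐚) (b := 𝐱 * 𝐚 * 𝐱⁻¹) (x := 𝐱) (mdl h.inj) (mdl h.inj) (mdl h.inj)
    (mdl h.inj) (mdl h.inj) rfl (mdl h.inj)
  obtain ⟨g, hg, g0, g1, g2, g4⟩ := five_dvd (z := χ HJ.cz) (e := χ HJ.ce) (y := χ HJ.cy) (r := χ cr) (mdl h.injC) (mdl h.injC)
    (mdl h.injC) (mdl h.injC) (mdl h.injC) (mdl h.injC) (mdl h.injC) (mdl h.injC) (mdl h.injC) (mdl h.injC)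
  have i4 : El.l DV 3 = (El.l DV 2)⁻¹ := by decide +kernel
  have i5 : El.l DA 3 = (El.l DA 2)⁻¹ := by decide +kernel
  have h1 : ∀ c, χ HJ.cz ∈ centralizer {c} → χ HJ.ce ∈ centralizer {c} → χ HJ.cy ∈ centralizer {c} → χ cr ∈ centralizer {c} →
      ∀ v, c ∈ centralizer {g v} := fun c h1 h2 h3 h4 v => mem_cent.mpr (mem_cent.mp (mem_of_letters (fun a ha => by
        change a < 5 at ha
        interval_cases a
        exacts [g0 ▸ h1, g1 ▸ h2, g2 ▸ h3, by rw [i5, map_inv, g2]; exact inv_mem h3, g4 ▸ h4]) v)).symm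
  have h2 := h1 𝐱 (mem_cent.mpr (h.cz ▸ (h.comm hx).symm)) (mem_cent.mpr (h.ce ▸ mdl h.inj))
    (mem_cent.mpr (by rw [← h.cy, mul_assoc, h.xf])) (mem_cent.mpr (comm_of_conj h.xr).symm)
  refine ⟨f, g, hf, hg, fun u v => mem_cent.mp (mem_of_letters (fun a ha => ?_) u), f0⟩
  change a < 4 at ha
  interval_cases a
  · rw [f0]; exact h1 _ (h.cent_a.ge ⟨_, rfl⟩) (h.cent_a.ge ⟨_, rfl⟩) (h.cent_a.ge ⟨_, rfl⟩) (h.cent_a.ge ⟨_, rfl⟩) v
  · rw [f1, h.cb]
    exact h1 _ (h.cent_b.ge ⟨_, rfl⟩) (h.cent_b.ge ⟨_, rfl⟩) (h.cent_b.ge ⟨_, rfl⟩) (h.cent_b.ge ⟨_, rfl⟩) v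
  · rw [f2]; exact h2 v
  · rw [i4, map_inv, f2]; exact inv_mem (h2 v)

end Cfsg.Agent.HJ
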