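import Cfsg.Agent.HJ.J3

/-!
# HJ/Syl: Sylow subgroups of prime order
-/

set_option autoImplicit false
set_option maxRecDepth 100000

namespace Cfsg.Agent.HJ

open Cfsg.Agent.Comp Cfsg.Agent.Core Subgroup

variable {G : Type*} [Group G] {φ : El DH →* G} {ψ : El DN →* G}

theorem cyc_quot [Finite G] {X : Subgroup G} {p : ℕ} [hp : Fact p.Prime] (hX : Nat.card X = p)
    (hC : centralizer (X : Set G) = X) : ∃ _ : (X.subgroupOf (normalizer (X : Set G))).Normal,
      IsCyclic (normalizer (X : Set G) ⧸ X.subgroupOf (normalizer (X : Set G))) := by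
  haveI := isCyclic_of_prime_card hX
  haveI : IsCyclic (ZMod (Nat.card X))ˣ := hX ▸ ZMod.isCyclic_units_prime hp.out
  haveI : IsCyclic (MulAut X) := isCyclic_of_surjective _ (IsCyclic.mulAutMulEquiv X).symm.surjective
  have hk : X.normalizerMonoidHom.ker = X.subgroupOf _ := by rw [normalizerMonoidHom_ker, hC]
  refine ⟨inferInstance, ?_⟩
  exact isCyclic_of_surjective _ ((QuotientGroup.quotientKerEquivRange X.normalizerMonoidHom).symm.trans
    (QuotientGroup.quotientMulEquivOfEq hk)).surjective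

/-- the numbers attached to a Sylow subgroup of prime order -/
theorem syl_prime [Finite G] {p m : ℕ} [hp : Fact p.Prime] (hG : Nat.card G = p * m) (hm : ¬ p ∣ m) (X : Sylow p G) :
    Nat.card X = p ∧ (∃ g, orderOf g = p ∧ (X : Subgroup G) = zpowers g) ∧ ∃ c k n,
      Nat.card (centralizer ((X : Subgroup G) : Set G)) = p * c ∧ k ∣ p - 1 ∧ n % p = 1 % p ∧ c * k * n = m ∧
      (centralizer ((X : Subgroup G) : Set G)).relIndex (normalizer ((X : Subgroup G) : Set G)) = k ∧
      Nat.card (normalizer ((X : Subgroup G) : Set G)) = p * (c * k) := by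
  have hm0 : m ≠ 0 := fun e => hm (e ▸ dvd_zero p)
  have h1 : Nat.card X = p := by
    rw [X.card_eq_multiplicity, hG, Nat.factorization_mul hp.out.ne_zero hm0, Finsupp.add_apply,
      hp.out.factorization_self, Nat.factorization_eq_zero_of_not_dvd hm, pow_one]
  haveI := isCyclic_of_prime_card h1
  obtain ⟨g, hg⟩ := (X : Subgroup G).isCyclic_iff_exists_zpowers_eq_top.mp this
  have h2 : orderOf g = p := by rw [← Nat.card_zpowers, hg, h1]
  refine ⟨h1, ⟨g, h2, hg.symm⟩, ?_⟩
  obtain ⟨c, hc⟩ : p ∣ Nat.card (centralizer ((X : Subgroup G) : Set G)) :=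
    h1.symm.dvd.trans (card_dvd_of_le (le_centralizer _))
  have h3 := PGrp.relIndex_centralizer_dvd_card_mulAut (R := (X : Subgroup G)) le_rfl
  rw [IsCyclic.card_mulAut, h1, Nat.totient_prime hp.out] at h3
  have h4 := card_mul_relIndex (centralizer_le_normalizer ((X : Subgroup G) : Set G))
  have h5 := (J1.sylow_count (mem_top g) h2 (card_top.trans hG) hm).2
  rw [hg, relIndex_top_right] at h5
  have h6 := (normalizer ((X : Subgroup G) : Set G)).card_mul_index
  rw [hc, mul_assoc] at h4
  rw [← h4, hG, mul_assoc, mul_right_inj' hp.out.ne_zero] at h6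
  exact ⟨c, _, _, hc, h3, h5, h6, rfl, h4.symm⟩

theorem syl_result [Finite G] {X : Subgroup G} {p k : ℕ} [hp : Fact p.Prime] (hX : Nat.card X = p)
    (hC : Nat.card (centralizer (X : Set G)) = p) (hN : Nat.card (normalizer (X : Set G)) = p * k) :
    centralizer (X : Set G) = X ∧ ∃ _ : (X.subgroupOf (normalizer (X : Set G))).Normal,
      IsCyclic (normalizer (X : Set G) ⧸ X.subgroupOf (normalizer (X : Set G))) ∧
      Nat.card (normalizer (X : Set G) ⧸ X.subgroupOf (normalizer (X : Set G))) = k := by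
  haveI := isCyclic_of_prime_card hX
  have h1 := (eq_of_le_of_card_ge (le_centralizer X) (by rw [hX, hC])).symm
  obtain ⟨h2, h3⟩ := cyc_quot hX h1
  refine ⟨h1, h2, h3, ?_⟩
  have := card_mul_relIndex (le_normalizer (H := X))
  rwa [hN, hX, mul_right_inj' hp.out.ne_zero] at this

theorem NM.syl3 [Finite G] (h : NM φ ψ) (hza : IsConj 𝐳 𝐚) :
    (∀ X : Sylow 19 G, Nat.card X = 19 ∧ Nat.card (centralizer ((X : Subgroup G) : Set G)) = 19 ∧
      Nat.card (normalizer ((X : Subgroup G) : Set G)) = 19 * 9) ∧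
    ∀ X : Sylow 17 G, Nat.card X = 17 ∧ Nat.card (centralizer ((X : Subgroup G) : Set G)) = 17 ∧
      Nat.card (normalizer ((X : Subgroup G) : Set G)) = 17 * 8 := by
  haveI : Fact (Nat.Prime 17) := ⟨by norm_num⟩
  haveI : Fact (Nat.Prime 19) := ⟨by norm_num⟩
  obtain ⟨e⟩ := h.iso3 hza
  have hG := (Nat.card_congr e.toEquiv).trans J3.card.2.1
  have h17 : ∀ g : G, orderOf g = 17 → centralizer (zpowers g : Set G) ≤ zpowers g := fun g hg c hc =>
    h.cent17 hza (ι := e.symm.toMonoidHom) e.symm.injective (e.symm.surjective g) hg ⟨hc, e.symm.surjective c⟩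
  refine ⟨fun X => ?_, fun X => ?_⟩
  · obtain ⟨h1, ⟨g, g1, hg⟩, c, k, n, h2, h3, h4, h5, h6, h7⟩ := syl_prime (m := 2643840) hG (by norm_num) X
    have c1 : c.Coprime 2 := Nat.coprime_two_right.mpr (Nat.Odd.of_mul_right (h2 ▸ (Inv.odd_card_iff
      (H := centralizer ((X : Subgroup G) : Set G))).mpr fun t ht =>
      h.odd_cent hza (by rw [g1]; norm_num) (ht g (hg.ge (mem_zpowers g)))))
    have c2 : c.Coprime 17 := ((Nat.Prime.coprime_iff_not_dvd Fact.out).mpr fun H => by
      obtain ⟨u, hu⟩ := exists_prime_orderOf_dvd_card' 17 (h2 ▸ H.mul_left 19)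
      rw [← orderOf_coe] at hu
      have := orderOf_dvd_of_mem_zpowers (h17 _ hu fun v hv => (Inv.commute_of_mem_zpowers
        (show Commute (u : G) g from (u.2 g (hg.ge (mem_zpowers g))).symm) hv).eq)
      rw [g1, hu] at this
      exact absurd this (by norm_num)).symm
    have c3 : c ∣ 1215 := ((c1.pow_right 7).mul_right c2).dvd_of_dvd_mul_left
      ((Dvd.intro _ ((mul_assoc ..).symm.trans h5)).trans (by norm_num))
    have c4 : c * k ∣ 2430 := Nat.dvd_gcd (Nat.mul_dvd_mul c3 h3) (Dvd.intro _ h5)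
    have c5 : c * k = 9 := (by decide +kernel : ∀ t ≤ 2430, t ∣ 2430 → t % 19 = 9 → t = 9) _
      (Nat.le_of_dvd (by norm_num) c4) c4 (by
        have := congrArg (· % 19) h5
        simp only [Nat.mul_mod (c * k) n, h4] at this
        omega)
    refine ⟨h1, ?_, by rw [h7, c5]⟩
    obtain ⟨a, b, ha, hb⟩ := nineteen
    obtain ⟨v, -, hv⟩ := IsSylowOf.exists_conj_eq (J1.sylow_count (m := 2643840) (mem_top (e.symm a))
      (by rw [e.symm.orderOf_eq, ha]) (card_top.trans hG) (by norm_num)).1 (isSylowOf_top X)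
    rw [conj_smul_eq_map, MonoidHom.map_zpowers] at hv
    have hb' := congrArg (fun y => MulAut.conj v (e.symm y)) hb
    simp only [map_mul, map_inv, map_pow] at hb'
    have ha' : orderOf (MulAut.conj v (e.symm a)) = 19 := by rw [MulEquiv.orderOf_eq, e.symm.orderOf_eq, ha]
    change zpowers (MulAut.conj v (e.symm a)) = _ at hv
    generalize MulAut.conj v (e.symm a) = a' at hv hb' ha'
    generalize MulAut.conj v (e.symm b) = b' at hb'
    have h8 : b' ^ k ∈ centralizer ((X : Subgroup G) : Set G) := h6 ▸ pow_index_mem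
      ((centralizer ((X : Subgroup G) : Set G)).subgroupOf (normalizer ((X : Subgroup G) : Set G)))
      ⟨b', by rw [← hv]; exact J1.mem_norm_zpowers_iff.mpr (hb' ▸ npow_mem_zpowers _ _)⟩
    have h9 : ∀ j : ℕ, b' ^ j * a' * (b' ^ j)⁻¹ = a' ^ 6 ^ j := fun j => by
      induction j with
      | zero => simp
      | succ j ih =>
        calc _ = b' * (b' ^ j * a' * (b' ^ j)⁻¹) * b'⁻¹ := by group
          _ = _ := by rw [ih, ← conj_pow, hb', ← pow_mul, pow_succ']
    have h10 := h9 k
    rw [conj_eq (h8 a' (hv.le (mem_zpowers _))).symm, ← pow_one a', ← pow_mul, pow_eq_pow_iff_modEq, ha'] at h10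
    have := Nat.le_of_dvd (by norm_num) (Dvd.intro_left _ c5)
    rw [h2]
    interval_cases k <;> first | omega | exact absurd h10 (by decide)
  · obtain ⟨h1, ⟨g, g1, hg⟩, c, k, n, h2, h3, h4, h5, h6, h7⟩ := syl_prime (m := 2954880) hG (by norm_num) X
    have c1 := card_le_of_le (h17 g g1)
    have c0 : 0 < c := Nat.pos_of_ne_zero fun e => by simp [e] at h5
    rw [← hg, h1, h2] at c1
    obtain rfl : c = 1 := by omega
    have := Nat.le_of_dvd (by norm_num) h3
    refine ⟨h1, h2, ?_⟩
    rw [h7]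
    interval_cases k <;> omega

end Cfsg.Agent.HJ
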