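import Cfsg.Agent.Comp.TC
import Cfsg.Agent.HJ.Pres
import Cfsg.Agent.HJ.T3T0

set_option autoImplicit false
set_option maxRecDepth 100000

namespace Cfsg.Agent.HJ.T3
open Cfsg.Agent.Comp

noncomputable def T : Tr := (Tr.node (nat_lit 1663) (Tr.node (nat_lit 831) (Tr.node (nat_lit 383) (Tr.node (nat_lit 191) (Tr.node (nat_lit 63) t0 (Tr.node (nat_lit 127) t1 t2)) (Tr.node (nat_lit 255) t3 (Tr.node (nat_lit 319) t4 t5))) (Tr.node (nat_lit 575) (Tr.node (nat_lit 447) t6 (Tr.node (nat_lit 511) t7 t8)) (Tr.node (nat_lit 703) (Tr.node (nat_lit 639) t9 t10) (Tr.node (nat_lit 767) t11 t12)))) (Tr.node (nat_lit 1215) (Tr.node (nat_lit 1023) (Tr.node (nat_lit 895) t13 (Tr.node (nat_lit 959) t14 t15)) (Tr.node (nat_lit 1087) t16 (Tr.node (nat_lit 1151) t17 t18))) (Tr.node (nat_lit 1407) (Tr.node (nat_lit 1279) t19 (Tr.node (nat_lit 1343) t20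 t21)) (Tr.node (nat_lit 1535) (Tr.node (nat_lit 1471) t22 t23) (Tr.node (nat_lit 1599) t24 t25))))) (Tr.node (nat_lit 2495) (Tr.node (nat_lit 2047) (Tr.node (nat_lit 1855) (Tr.node (nat_lit 1727) t26 (Tr.node (nat_lit 1791) t27 t28)) (Tr.node (nat_lit 1919) t29 (Tr.node (nat_lit 1983) t30 t31))) (Tr.node (nat_lit 2239) (Tr.node (nat_lit 2111) t32 (Tr.node (nat_lit 2175) t33 t34)) (Tr.node (nat_lit 2367) (Tr.node (nat_lit 2303) t35 t36) (Tr.node (nat_lit 2431) t37 t38)))) (Tr.node (nat_lit 2879) (Tr.node (nat_lit 2687) (Tr.node (nat_lit 2559) t39 (Tr.node (nat_lit 2623) t40 t41)) (Tr.node (nat_lit 2751) t42 (Tr.node (nat_lit 2815) t43 t44))) (Tr.node (nat_lit 3071) (Tr.node (nat_lit 2943) t45 (Tr.node (nat_lit 3007) t46 t47)) (Tr.node (nat_lit 3199) (Tr.node (nat_lit 3135) t48 t49) (Tr.node (nat_lit 3263) t50 t51))))))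

def RT : List (List (List Nat)) := [
  [[nat_lit 8, nat_lit 3, nat_lit 8],
   [nat_lit 2, nat_lit 0, nat_lit 2],
   [nat_lit 9, nat_lit 0, nat_lit 9],
   [nat_lit 3, nat_lit 0, nat_lit 3],
   [nat_lit 5, nat_lit 0, nat_lit 4],
   [nat_lit 4, nat_lit 0, nat_lit 5],
   [nat_lit 7, nat_lit 1, nat_lit 6],
   [nat_lit 1, nat_lit 0, nat_lit 1],
   [nat_lit 1, nat_lit 2, nat_lit 1, nat_lit 2],
   [nat_lit 3, nat_lit 9, nat_lit 3, nat_lit 9],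
   [nat_lit 6, nat_lit 1, nat_lit 7, nat_lit 1],
   [nat_lit 1, nat_lit 6, nat_lit 1, nat_lit 7],
   [nat_lit 11],
   [nat_lit 9, nat_lit 3, nat_lit 9, nat_lit 3],
   [nat_lit 2, nat_lit 1, nat_lit 2, nat_lit 1],
   [nat_lit 3, nat_lit 4, nat_lit 9, nat_lit 5, nat_lit 3, nat_lit 4, nat_lit 9, nat_lit 5, nat_lit 1]],
  [[nat_lit 9, nat_lit 1, nat_lit 9],
   [nat_lit 3, nat_lit 1, nat_lit 3],
   [nat_lit 5, nat_lit 1, nat_lit 4],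
   [nat_lit 4, nat_lit 1, nat_lit 5],
   [nat_lit 6, nat_lit 0, nat_lit 7],
   [nat_lit 2, nat_lit 1, nat_lit 2, nat_lit 0],
   [nat_lit 0, nat_lit 1, nat_lit 0],
   [nat_lit 7, nat_lit 1, nat_lit 0, nat_lit 6],
   [nat_lit 0, nat_lit 6, nat_lit 1, nat_lit 7],
   [nat_lit 7, nat_lit 0, nat_lit 1, nat_lit 6],
   [nat_lit 2, nat_lit 0, nat_lit 1, nat_lit 2],
   [nat_lit 6, nat_lit 1, nat_lit 7, nat_lit 0],
   [nat_lit 0, nat_lit 2, nat_lit 1, nat_lit 2],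
   [nat_lit 3, nat_lit 5, nat_lit 9, nat_lit 4, nat_lit 3, nat_lit 5, nat_lit 9, nat_lit 4],
   [nat_lit 11],
   [nat_lit 2, nat_lit 1, nat_lit 0, nat_lit 2],
   [nat_lit 5, nat_lit 9, nat_lit 4, nat_lit 3, nat_lit 5, nat_lit 9, nat_lit 4, nat_lit 3],
   [nat_lit 2, nat_lit 3, nat_lit 2, nat_lit 3, nat_lit 5, nat_lit 3, nat_lit 2, nat_lit 3, nat_lit 4, nat_lit 4, nat_lit 3, nat_lit 2, nat_lit 3, nat_lit 5],
   [nat_lit 4, nat_lit 3, nat_lit 2, nat_lit 3, nat_lit 5, nat_lit 5, nat_lit 3, nat_lit 2, nat_lit 3, nat_lit 4, nat_lit 3, nat_lit 2, nat_lit 3, nat_lit 2]],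
  [[nat_lit 3, nat_lit 2, nat_lit 9],
   [nat_lit 5, nat_lit 2, nat_lit 4],
   [nat_lit 4, nat_lit 2, nat_lit 5],
   [nat_lit 6, nat_lit 2, nat_lit 6],
   [nat_lit 7, nat_lit 2, nat_lit 7],
   [nat_lit 9, nat_lit 2, nat_lit 3],
   [nat_lit 0, nat_lit 2, nat_lit 0],
   [nat_lit 1, nat_lit 2, nat_lit 1, nat_lit 0],
   [nat_lit 1, nat_lit 2, nat_lit 0, nat_lit 1],
   [nat_lit 1, nat_lit 0, nat_lit 2, nat_lit 1],
   [nat_lit 0, nat_lit 1, nat_lit 2, nat_lit 1],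
   [nat_lit 8, nat_lit 2, nat_lit 8, nat_lit 2, nat_lit 8, nat_lit 2, nat_lit 8, nat_lit 2, nat_lit 8, nat_lit 2, nat_lit 8, nat_lit 2, nat_lit 8, nat_lit 2, nat_lit 8, nat_lit 2, nat_lit 8]],
  [[nat_lit 8, nat_lit 0, nat_lit 8],
   [nat_lit 1, nat_lit 3, nat_lit 1],
   [nat_lit 2, nat_lit 9, nat_lit 2],
   [nat_lit 0, nat_lit 9, nat_lit 3, nat_lit 9],
   [nat_lit 9, nat_lit 3, nat_lit 9, nat_lit 0],
   [nat_lit 9, nat_lit 3, nat_lit 0, nat_lit 9],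
   [nat_lit 0, nat_lit 3, nat_lit 0],
   [nat_lit 9, nat_lit 0, nat_lit 3, nat_lit 9],
   [nat_lit 4, nat_lit 3, nat_lit 4, nat_lit 3, nat_lit 4],
   [nat_lit 4, nat_lit 6, nat_lit 3, nat_lit 7, nat_lit 5],
   [nat_lit 5, nat_lit 9, nat_lit 4, nat_lit 1, nat_lit 3, nat_lit 5, nat_lit 9, nat_lit 4],
   [nat_lit 1, nat_lit 5, nat_lit 9, nat_lit 4, nat_lit 3, nat_lit 5, nat_lit 9, nat_lit 4],
   [nat_lit 11],
   [nat_lit 5, nat_lit 3, nat_lit 5, nat_lit 3, nat_lit 5],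
   [nat_lit 7, nat_lit 5, nat_lit 3, nat_lit 4, nat_lit 6],
   [nat_lit 5, nat_lit 9, nat_lit 4, nat_lit 3, nat_lit 1, nat_lit 5, nat_lit 9, nat_lit 4],
   [nat_lit 5, nat_lit 9, nat_lit 4, nat_lit 3, nat_lit 5, nat_lit 9, nat_lit 4, nat_lit 1],
   [nat_lit 4, nat_lit 9, nat_lit 5, nat_lit 1, nat_lit 0, nat_lit 3, nat_lit 4, nat_lit 9, nat_lit 5],
   [nat_lit 4, nat_lit 9, nat_lit 5, nat_lit 3, nat_lit 0, nat_lit 1, nat_lit 4, nat_lit 9, nat_lit 5],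
   [nat_lit 4, nat_lit 9, nat_lit 5, nat_lit 3, nat_lit 4, nat_lit 9, nat_lit 5, nat_lit 1, nat_lit 0],
   [nat_lit 0, nat_lit 1, nat_lit 4, nat_lit 9, nat_lit 5, nat_lit 3, nat_lit 4, nat_lit 9, nat_lit 5],
   [nat_lit 5, nat_lit 3, nat_lit 2, nat_lit 3, nat_lit 4, nat_lit 4, nat_lit 3, nat_lit 2, nat_lit 3, nat_lit 5, nat_lit 1, nat_lit 2, nat_lit 3, nat_lit 2],
   [nat_lit 5, nat_lit 5, nat_lit 3, nat_lit 2, nat_lit 3, nat_lit 4, nat_lit 3, nat_lit 2, nat_lit 3, nat_lit 2, nat_lit 1, nat_lit 4, nat_lit 3, nat_lit 2]],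
  [[nat_lit 7, nat_lit 4, nat_lit 6],
   [nat_lit 8, nat_lit 4, nat_lit 7, nat_lit 8, nat_lit 6],
   [nat_lit 0, nat_lit 4, nat_lit 0],
   [nat_lit 2, nat_lit 4, nat_lit 2],
   [nat_lit 3, nat_lit 4, nat_lit 6, nat_lit 3, nat_lit 7],
   [nat_lit 3, nat_lit 5, nat_lit 3, nat_lit 5, nat_lit 3],
   [nat_lit 1, nat_lit 4, nat_lit 1],
   [nat_lit 6, nat_lit 4, nat_lit 7],
   [nat_lit 9, nat_lit 5, nat_lit 9, nat_lit 5, nat_lit 9],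
   [nat_lit 6, nat_lit 9, nat_lit 7, nat_lit 4, nat_lit 9],
   [nat_lit 5, nat_lit 5],
   [nat_lit 9, nat_lit 4, nat_lit 3, nat_lit 1, nat_lit 5, nat_lit 9, nat_lit 4, nat_lit 3],
   [nat_lit 11],
   [nat_lit 3, nat_lit 4, nat_lit 9, nat_lit 5, nat_lit 3, nat_lit 0, nat_lit 1, nat_lit 4, nat_lit 9],
   [nat_lit 1, nat_lit 2, nat_lit 3, nat_lit 2, nat_lit 3, nat_lit 5, nat_lit 3, nat_lit 2, nat_lit 3, nat_lit 4, nat_lit 4, nat_lit 3, nat_lit 2, nat_lit 3],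
   [nat_lit 9, nat_lit 4, nat_lit 1, nat_lit 3, nat_lit 5, nat_lit 9, nat_lit 4, nat_lit 3],
   [nat_lit 3, nat_lit 0, nat_lit 1, nat_lit 4, nat_lit 9, nat_lit 5, nat_lit 3, nat_lit 4, nat_lit 9],
   [nat_lit 1, nat_lit 0, nat_lit 3, nat_lit 4, nat_lit 9, nat_lit 5, nat_lit 3, nat_lit 4, nat_lit 9]],
  [[nat_lit 4, nat_lit 4],
   [nat_lit 2, nat_lit 5, nat_lit 2],
   [nat_lit 0, nat_lit 5, nat_lit 0],
   [nat_lit 9, nat_lit 5, nat_lit 6, nat_lit 9, nat_lit 7],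
   [nat_lit 1, nat_lit 5, nat_lit 1],
   [nat_lit 6, nat_lit 3, nat_lit 7, nat_lit 5, nat_lit 3],
   [nat_lit 7, nat_lit 8, nat_lit 6, nat_lit 5, nat_lit 8],
   [nat_lit 9, nat_lit 4, nat_lit 9, nat_lit 4, nat_lit 9],
   [nat_lit 6, nat_lit 5, nat_lit 7],
   [nat_lit 7, nat_lit 5, nat_lit 6],
   [nat_lit 3, nat_lit 4, nat_lit 3, nat_lit 4, nat_lit 3],
   [nat_lit 3, nat_lit 5, nat_lit 9, nat_lit 4, nat_lit 1, nat_lit 3, nat_lit 5, nat_lit 9],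
   [nat_lit 3, nat_lit 5, nat_lit 9, nat_lit 4, nat_lit 3, nat_lit 1, nat_lit 5, nat_lit 9],
   [nat_lit 3, nat_lit 1, nat_lit 5, nat_lit 9, nat_lit 4, nat_lit 3, nat_lit 5, nat_lit 9],
   [nat_lit 1, nat_lit 3, nat_lit 5, nat_lit 9, nat_lit 4, nat_lit 3, nat_lit 5, nat_lit 9]],
  [[nat_lit 8, nat_lit 7, nat_lit 8],
   [nat_lit 7, nat_lit 7],
   [nat_lit 2, nat_lit 7, nat_lit 2],
   [nat_lit 1, nat_lit 6, nat_lit 0],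
   [nat_lit 0, nat_lit 1, nat_lit 6, nat_lit 1],
   [nat_lit 1, nat_lit 0, nat_lit 6, nat_lit 1],
   [nat_lit 4, nat_lit 6, nat_lit 5],
   [nat_lit 5, nat_lit 6, nat_lit 4],
   [nat_lit 4, nat_lit 9, nat_lit 5, nat_lit 6, nat_lit 9],
   [nat_lit 5, nat_lit 3, nat_lit 4, nat_lit 6, nat_lit 3],
   [nat_lit 11],
   [nat_lit 8, nat_lit 6, nat_lit 5, nat_lit 8, nat_lit 4]],
  [[nat_lit 6, nat_lit 6],
   [nat_lit 8, nat_lit 6, nat_lit 8],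
   [nat_lit 2, nat_lit 6, nat_lit 2],
   [nat_lit 0, nat_lit 7, nat_lit 1],
   [nat_lit 1, nat_lit 7, nat_lit 1, nat_lit 0],
   [nat_lit 1, nat_lit 7, nat_lit 0, nat_lit 1],
   [nat_lit 4, nat_lit 7, nat_lit 5],
   [nat_lit 5, nat_lit 7, nat_lit 4],
   [nat_lit 3, nat_lit 7, nat_lit 5, nat_lit 3, nat_lit 4],
   [nat_lit 9, nat_lit 7, nat_lit 4, nat_lit 9, nat_lit 5],
   [nat_lit 5, nat_lit 8, nat_lit 4, nat_lit 7, nat_lit 8]],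
  [[nat_lit 6, nat_lit 8, nat_lit 6],
   [nat_lit 7, nat_lit 8, nat_lit 7],
   [nat_lit 0, nat_lit 8, nat_lit 3],
   [nat_lit 3, nat_lit 8, nat_lit 0],
   [nat_lit 9, nat_lit 8, nat_lit 9, nat_lit 8, nat_lit 9],
   [nat_lit 4, nat_lit 7, nat_lit 8, nat_lit 6, nat_lit 5],
   [nat_lit 6, nat_lit 5, nat_lit 8, nat_lit 4, nat_lit 7],
   [nat_lit 2, nat_lit 8, nat_lit 2, nat_lit 8, nat_lit 2, nat_lit 8, nat_lit 2, nat_lit 8, nat_lit 2, nat_lit 8, nat_lit 2, nat_lit 8, nat_lit 2, nat_lit 8, nat_lit 2, nat_lit 8, nat_lit 2],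
   [nat_lit 11]],
  [[nat_lit 2, nat_lit 3, nat_lit 2],
   [nat_lit 1, nat_lit 9, nat_lit 1],
   [nat_lit 3, nat_lit 9, nat_lit 3, nat_lit 0],
   [nat_lit 0, nat_lit 9, nat_lit 0],
   [nat_lit 3, nat_lit 0, nat_lit 9, nat_lit 3],
   [nat_lit 0, nat_lit 3, nat_lit 9, nat_lit 3],
   [nat_lit 3, nat_lit 9, nat_lit 0, nat_lit 3],
   [nat_lit 8, nat_lit 9, nat_lit 8, nat_lit 9, nat_lit 8],
   [nat_lit 4, nat_lit 9, nat_lit 4, nat_lit 9, nat_lit 4],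
   [nat_lit 5, nat_lit 9, nat_lit 5, nat_lit 9, nat_lit 5],
   [nat_lit 4, nat_lit 1, nat_lit 3, nat_lit 5, nat_lit 9, nat_lit 4, nat_lit 3, nat_lit 5],
   [nat_lit 5, nat_lit 3, nat_lit 0, nat_lit 1, nat_lit 4, nat_lit 9, nat_lit 5, nat_lit 3, nat_lit 4],
   [nat_lit 11],
   [nat_lit 7, nat_lit 4, nat_lit 9, nat_lit 5, nat_lit 6],
   [nat_lit 5, nat_lit 6, nat_lit 9, nat_lit 7, nat_lit 4],
   [nat_lit 4, nat_lit 3, nat_lit 5, nat_lit 9, nat_lit 4, nat_lit 3, nat_lit 1, nat_lit 5],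
   [nat_lit 4, nat_lit 3, nat_lit 1, nat_lit 5, nat_lit 9, nat_lit 4, nat_lit 3, nat_lit 5],
   [nat_lit 4, nat_lit 3, nat_lit 5, nat_lit 9, nat_lit 4, nat_lit 1, nat_lit 3, nat_lit 5]],
  []]

def HT : List (List (Nat × Nat × Nat)) := [
  [(0, 39, 2), (0, 10, 1), (0, 28, 1), (0, 11, 1), (0, 12, 3), (0, 12, 1), (0, 23, 2), (0, 9, 1), (0, 13, 0), (0, 32, 0), (0, 24, 0), (1, 24, 1), (2, 0, 0), (1, 32, 1), (1, 13, 1), (0, 33, 0)],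
  [(0, 29, 1), (0, 14, 1), (0, 15, 3), (0, 15, 1), (0, 23, 0), (0, 13, 1), (0, 9, 0), (0, 24, 2), (0, 24, 4), (1, 24, 4), (0, 13, 3), (1, 24, 2), (1, 13, 0), (0, 34, 0), (2, 1, 0), (1, 13, 3), (1, 34, 1), (1, 19, 1), (0, 19, 0)],
  [(0, 27, 2), (0, 16, 3), (0, 16, 1), (0, 21, 1), (1, 21, 0), (0, 27, 0), (0, 10, 0), (1, 13, 2), (0, 13, 2), (1, 13, 4), (0, 13, 4), (0, 40, 0)],
  [(0, 39, 0), (0, 14, 0), (0, 27, 3), (1, 32, 0), (0, 32, 1), (1, 32, 3), (0, 11, 0), (0, 32, 3), (0, 17, 1), (0, 25, 5), (0, 34, 5), (1, 34, 0), (2, 2, 0), (1, 17, 0), (0, 25, 2), (1, 34, 5), (0, 34, 1), (0, 33, 5), (1, 33, 6), (0, 33, 1), (1, 33, 0), (1, 19, 5), (0, 19, 4)],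
  [(0, 22, 3), (0, 37, 0), (0, 12, 0), (0, 16, 0), (0, 25, 4), (1, 17, 1), (0, 15, 0), (1, 22, 0), (1, 30, 1), (0, 31, 0), (1, 8, 0), (1, 34, 6), (2, 4, 0), (1, 33, 5), (1, 19, 0), (0, 34, 6), (1, 33, 9), (0, 33, 8)],
  [(0, 8, 0), (0, 16, 2), (0, 12, 2), (0, 31, 4), (0, 15, 2), (0, 25, 0), (0, 37, 2), (0, 30, 0), (0, 22, 1), (1, 22, 2), (0, 17, 0), (0, 34, 4), (1, 34, 4), (1, 34, 8), (0, 34, 8)],
  [(1, 36, 1), (1, 20, 0), (1, 21, 1), (0, 23, 3), (1, 24, 0), (0, 24, 3), (0, 22, 0), (1, 22, 3), (0, 31, 3), (0, 25, 3), (2, 6, 0), (0, 37, 3)],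
  [(0, 20, 0), (0, 36, 0), (0, 21, 0), (0, 23, 1), (0, 24, 1), (1, 24, 3), (1, 22, 1), (0, 22, 2), (0, 25, 1), (0, 31, 1), (0, 37, 5)],
  [(0, 36, 1), (1, 36, 0), (0, 39, 1), (0, 39, 3), (0, 38, 1), (0, 37, 1), (0, 37, 4), (0, 40, 1), (2, 8, 0)],
  [(0, 27, 1), (0, 29, 0), (1, 32, 2), (0, 28, 0), (1, 32, 4), (0, 32, 4), (0, 32, 2), (0, 38, 0), (0, 30, 1), (1, 30, 0), (0, 34, 7), (1, 33, 8), (2, 3, 0), (0, 31, 2), (0, 31, 5), (1, 34, 3), (1, 34, 7), (0, 34, 3)],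
  []]

noncomputable def P : Par := ⟨T, (nat_lit 4), (nat_lit 15), (nat_lit 324), (nat_lit 27), (nat_lit 134217727), (nat_lit 16), (nat_lit 65535), (nat_lit 10), (nat_lit 52342), (nat_lit 52352), (nat_lit 0x5a92831c8518820), RT⟩


end Cfsg.Agent.HJ.T3
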