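import Cfsg.Agent.Core.Reg

set_option autoImplicit false
set_option maxRecDepth 100000

namespace Cfsg.Agent.HJ
open Cfsg.Agent.Comp Cfsg.Agent.Core

def RDQ : List (List Nat) :=
  [[0, 0],
   [1, 1],
   [2, 2],
   [3, 3],
   [4, 4],
   [0, 1, 0, 1],
   [0, 2, 0, 2],
   [0, 3, 0, 3],
   [0, 4, 0, 4],
   [1, 2, 1, 2, 0],
   [1, 3, 1, 3, 0],
   [1, 4, 1, 4, 0],
   [2, 3, 2, 3, 0],
   [2, 4, 2, 4, 0],
   [3, 4, 3, 4, 0]]

namespace TCDQ

noncomputable def t0 : Tr := (Tr.node (nat_lit 0) (Tr.leaf (nat_lit 0x444ffff004c06d02641a704910d3fffc06c004c0980698121414ffff06a81a802580130369112fffc01201ac06a0264123434bfff01a401201a00980481092fffc0670198012025c11d4447fff00440e2037c0dc02550d1fffc0e500440de036c0944247fff03900e100440da024d051fffc0e303800dd00440922443fff0040065019006303648d0fffc062004006101800d82243fff017c05e004005d035c850fffc05c016c05a00400d62043fff0164058015c0560040000fffc05501500530148051))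
(Tr.leaf (nat_lit 0x839ffff04a002705ac1ac02ba126fffc02604a812906b40ef637ffff058401f06941ee02b191efffc01e059016207bc0ed6373fff058001c06bc1a502a589cfffc15d05b801c06900a7646ffff006c16305b816203ad89bfffc16f057401b06840a6646bfff006806f058c15f03a98dafffc06e006816005780e84357fff026001507b41eb0389095fffc09706b001507a80df4157fff02581a9069c0150371114fffc01402641ac06a41254253fff06b409700501e80379054fffc1ab02581a600500db)))

noncomputable def T : Tr := t0

def RT : List (List (List Nat)) := [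
  [[nat_lit 1, nat_lit 0, nat_lit 1],
   [nat_lit 2, nat_lit 0, nat_lit 2],
   [nat_lit 3, nat_lit 0, nat_lit 3],
   [nat_lit 4, nat_lit 0, nat_lit 4],
   [nat_lit 2, nat_lit 3, nat_lit 2, nat_lit 3],
   [nat_lit 2, nat_lit 4, nat_lit 2, nat_lit 4],
   [nat_lit 3, nat_lit 4, nat_lit 3, nat_lit 4]],
  [[nat_lit 2, nat_lit 1, nat_lit 0, nat_lit 2],
   [nat_lit 3, nat_lit 1, nat_lit 0, nat_lit 3],
   [nat_lit 4, nat_lit 1, nat_lit 0, nat_lit 4],
   [nat_lit 3, nat_lit 0, nat_lit 1, nat_lit 3],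
   [nat_lit 4, nat_lit 0, nat_lit 1, nat_lit 4],
   [nat_lit 3, nat_lit 1, nat_lit 3, nat_lit 0],
   [nat_lit 4, nat_lit 1, nat_lit 4, nat_lit 0],
   [nat_lit 0, nat_lit 4, nat_lit 1, nat_lit 4]],
  [[nat_lit 1, nat_lit 2, nat_lit 0, nat_lit 1],
   [nat_lit 3, nat_lit 2, nat_lit 0, nat_lit 3],
   [nat_lit 4, nat_lit 2, nat_lit 0, nat_lit 4],
   [nat_lit 3, nat_lit 2, nat_lit 3, nat_lit 0],
   [nat_lit 4, nat_lit 2, nat_lit 4, nat_lit 0],
   [nat_lit 4, nat_lit 0, nat_lit 2, nat_lit 4]],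
  [[nat_lit 1, nat_lit 3, nat_lit 0, nat_lit 1],
   [nat_lit 2, nat_lit 3, nat_lit 0, nat_lit 2],
   [nat_lit 4, nat_lit 3, nat_lit 0, nat_lit 4],
   [nat_lit 2, nat_lit 3, nat_lit 2, nat_lit 0],
   [nat_lit 4, nat_lit 3, nat_lit 4, nat_lit 0]],
  [[nat_lit 1, nat_lit 4, nat_lit 0, nat_lit 1],
   [nat_lit 2, nat_lit 4, nat_lit 0, nat_lit 2],
   [nat_lit 3, nat_lit 4, nat_lit 0, nat_lit 3],
   [nat_lit 2, nat_lit 4, nat_lit 2, nat_lit 0],
   [nat_lit 3, nat_lit 4, nat_lit 3, nat_lit 0]],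
  []]

def HT : List (List (Nat × Nat × Nat)) := [
  [(0, 5, 1), (0, 6, 1), (0, 7, 1), (0, 8, 1), (0, 12, 0), (0, 13, 0), (0, 14, 0)],
  [(1, 9, 3), (1, 10, 3), (1, 11, 3), (0, 10, 3), (0, 11, 3), (0, 10, 1), (0, 11, 1), (1, 11, 0)],
  [(0, 9, 2), (1, 12, 3), (1, 13, 3), (0, 12, 1), (0, 13, 1), (0, 13, 3)],
  [(0, 10, 2), (0, 12, 2), (1, 14, 3), (1, 12, 2), (0, 14, 1)],
  [(0, 11, 2), (0, 13, 2), (0, 14, 2), (1, 13, 2), (1, 14, 2)],
  []]

noncomputable def P : Par := ⟨T, (nat_lit 4), (nat_lit 15), (nat_lit 98), (nat_lit 14), (nat_lit 16383), (nat_lit 6), (nat_lit 63), (nat_lit 5), (nat_lit 48), (nat_lit 48), (nat_lit 0x18a418820), RT⟩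

noncomputable def J0 : List Nat := [
  nat_lit 0x1840000108400010084001000840100008412840001308400140084015000841028400103084010400841384800100384010040841,
  nat_lit 0x48408014084c010004841584008150840c150085010558401066084167854010606841788414188085810076841806858108768418968581]

theorem c0 : chk T (nat_lit 4) (nat_lit 15) (nat_lit 98) (nat_lit 14) (nat_lit 16383) (nat_lit 6) (nat_lit 63) (nat_lit 5) (nat_lit 48) (nat_lit 48) (nat_lit 0x18a418820) (nat_lit 4) (nat_lit 15) RT (nat_lit 16) J0 (nat_lit 16) = true := by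
  decide +kernel

theorem r0 : P.RowsOK 16 48 := chk_sound P _ _ _ J0 _ _ (by decide +kernel) c0

theorem index.{u} : IndexLe.{u} 5 RDQ [] 32 :=
  indexLe_of_cert P HT (by decide +kernel)
    (show P.RowsOK 16 48 from r0)

end TCDQ

def DQT0 : Nat := nat_lit 0xf7f9dcdf76d624f655cba4553834a41892839801

def DQT1 : Nat := nat_lit 0xe77dfad2517bb7a2e704bd86941d8b50670680c2

def DQT2 : Nat := nat_lit 0xde6b2fb3cb9c3a5bf0964a0dac09ee0b691028e3

def DQT3 : Nat := nat_lit 0xbe9f467a6dfa8bcca4e6e8f1b15a418c2a072d04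

def DQT4 : Nat := nat_lit 0xc5a2e8357f57907313bb1f342cdc35a4c127b125

def DQW : Nat := nat_lit 0x45325432045305430452035205420342053204320045003500250054003400240053004300230052004200320051004100310021000500040003000200010000

def DQI : Nat := nat_lit 0xffb9dcdf76d624f655cba455383528398a418820

def DQ : RTab := ⟨nat_lit 5, nat_lit 32, nat_lit 5, nat_lit 31, [DQT0, DQT1, DQT2, DQT3, DQT4], nat_lit 4, nat_lit 16, nat_lit 65535, DQW, DQI, RDQ⟩

instance : Fact DQ.OK := ⟨RTab.OK.of_checks _ (by decide +kernel) (by decide +kernel) TCDQ.index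
  (by decide +kernel) (by decide +kernel) (by decide +kernel) (by decide +kernel)⟩

end Cfsg.Agent.HJ
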