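import Cfsg.Agent.HJ.J2
import Cfsg.Agent.HJ.Fact3

/-!
# HJ/Three: one class of involutions; the normaliser of `C(z) ∩ C(a)`
-/

set_option autoImplicit false
set_option maxRecDepth 100000
set_option synthInstance.maxSize 100000

namespace Cfsg.Agent.HJ

open Cfsg.Agent.Comp Cfsg.Agent.Core Subgroup

variable {G : Type*} [Group G] {φ : El DH →* G} {ψ : El DN →* G}

set_option hygiene false in
scoped notation "𝐲" => φ hx * ψ nf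

theorem NM.hy (h : NM φ ψ) : 𝐲 = ψ (HJ.nx * nf) := by rw [h.nx, map_mul]

theorem NM.yz (h : NM φ ψ) : 𝐲 * 𝐳 * (𝐲)⁻¹ = 𝐞 := by rw [h.hy, h.nz, h.ne]; exact mdl h.injN

theorem NM.all_Z (h : NM φ ψ) {g : G} (hy : g * 𝐲 = 𝐲 * g) {t : G} (ht : t = 𝐳 ∨ t = 𝐞 ∨ t = 𝐞 * 𝐳)
    (hg : g * t = t * g) : g * 𝐳 = 𝐳 * g ∧ g * 𝐞 = 𝐞 * g := by
  have k : ∀ t t', 𝐲 * t * (𝐲)⁻¹ = t' → g * t = t * g → g * t' = t' * g := fun t t' e H => by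
    have := (comm_conj_iff e g).mp H
    rwa [conj_eq hy.symm] at this
  have ye : 𝐲 * 𝐞 * (𝐲)⁻¹ = 𝐞 * 𝐳 := by rw [h.hy, h.nz, h.ne]; exact mdl h.injN
  have yez : 𝐲 * (𝐞 * 𝐳) * (𝐲)⁻¹ = 𝐳 := by rw [h.hy, h.nz, h.ne]; exact mdl h.injN
  have h1 : g * 𝐳 = 𝐳 * g := by
    rcases ht with rfl | rfl | rfl
    exacts [hg, k _ _ yez (k _ _ ye hg), k _ _ yez hg]
  exact ⟨h1, k _ _ h.yz h1⟩

theorem NM.memA (h : NM φ ψ) {t : G} (h1 : t * 𝐳 = 𝐳 * t) (h2 : t * 𝐚 = 𝐚 * t) :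
    ∃ u, ψ u = t ∧ u * HJ.nz = HJ.nz * u ∧ u * HJ.na = HJ.na * u := by
  obtain ⟨u, rfl⟩ := h.memN t (Or.inl (conj_eq h1)) (Or.inr (Or.inl (conj_eq (comm_e h.toCM h1 h2).2)))
  rw [h.nz] at h1
  rw [h.na] at h2
  simp only [← map_mul, h.injN.eq_iff] at h1 h2
  exact ⟨u, rfl, h1, h2⟩

theorem conj_three {k y : G} (h : y * y * y = 1) : k * y * k⁻¹ * (k * y * k⁻¹) * (k * y * k⁻¹) = 1 := by
  calc _ = k * (y * y * y) * k⁻¹ := by group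
    _ = 1 := by rw [h]; group

theorem NM.exists_k (h : NM φ ψ) (hza : IsConj 𝐳 𝐚) : ∃ k : G, k * 𝐳 * k⁻¹ = 𝐚 ∧
    (k * 𝐱 * k⁻¹ = 𝐲 ∨ k * 𝐱 * k⁻¹ = (𝐲)⁻¹) ∧ (k * 𝐲 * k⁻¹ = 𝐱 ∨ k * 𝐲 * k⁻¹ = 𝐱⁻¹) ∧
      (k * 𝐚 * k⁻¹ = 𝐳 ∨ k * 𝐚 * k⁻¹ = 𝐞 ∨ k * 𝐚 * k⁻¹ = 𝐞 * 𝐳) := by
  obtain ⟨k, k1, k2⟩ := swap_a h.toCM (isConj_iff.mp hza).choose_spec
  have y3 : 𝐲 * 𝐲 * 𝐲 = 1 := by rw [h.hy]; exact mdl h.injN
  have y1 : 𝐲 ≠ 1 := by rw [h.hy]; exact mdl h.injN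
  obtain ⟨k, e1, e2, e3⟩ : ∃ k : G, k * 𝐳 * k⁻¹ = 𝐚 ∧ (k * 𝐱 * k⁻¹ = 𝐲 ∨ k * 𝐱 * k⁻¹ = (𝐲)⁻¹) ∧
      k * 𝐚 * k⁻¹ * 𝐳 = 𝐳 * (k * 𝐚 * k⁻¹) := by
    obtain ⟨u, hu⟩ := (h.cent _).mp ((comm_conj_iff (k := k⁻¹) (a' := 𝐳) (by rw [← k1]; group) _).mp h.ya)
    have u3 : u * u * u = 1 := h.inj (by rw [map_mul, map_mul, hu, map_one, conj_three y3])
    have ua : φ (u * ha * u⁻¹) = k⁻¹ * 𝐞 * k⁻¹⁻¹ := by
      rw [map_mul, map_mul, map_inv, hu, ← h.yz, ← k2]; group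
    have ua' : u * ha * u⁻¹ * ha = ha * (u * ha * u⁻¹) := h.inj (by
      rw [map_mul φ _ ha, map_mul φ ha, ua, show 𝐚 = k⁻¹ * 𝐳 * k⁻¹⁻¹ by rw [← k2]; group]
      exact conj_comm (h.comm _) _)
    obtain ⟨w, hw, hw'⟩ := (h_threeE u (h_f1 u ua' u3) u3).resolve_left fun e => y1 (by
      rwa [e, map_one, eq_comm, conj_eq_one_iff] at hu)
    have c : ∀ t, k * φ w * φ t * (k * φ w)⁻¹ = k * φ (w * t * w⁻¹) * k⁻¹ := fun t => by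
      simp only [map_mul, map_inv]; group
    refine ⟨k * φ w, by rw [c, h_z w, mul_inv_cancel_right, k1], hw'.imp (fun e => ?_) fun e => ?_, ?_⟩
    · rw [c, e, hu]; group
    · rw [c, ← inv_inv hx, ← conj_inv, e, map_inv, hu]; group
    · rw [c, ← k2]
      exact conj_comm (by rw [← map_mul, h_f2 w hw, map_mul]) k
  clear k1 k2
  obtain ⟨t, ht, t1, t2⟩ := h.memA e3 (by have := conj_comm (h.comm ha) k; rwa [e1] at this)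
  have tZ : k * 𝐚 * k⁻¹ = 𝐳 ∨ k * 𝐚 * k⁻¹ = 𝐞 ∨ k * 𝐚 * k⁻¹ = 𝐞 * 𝐳 := by
    refine (h.mem_Z.mp ⟨t, (n_f3 t t1 t2).1 (h.injN ?_), ht⟩).resolve_left (by rw [conj_eq_one_iff]; exact mdl h.inj)
    have c : ∀ g : G, 𝐚 * (g * 𝐚 * g⁻¹) * (g⁻¹ * 𝐚 * g) = 1 → k * g * k⁻¹ = 𝐲 →
        k * 𝐚 * k⁻¹ * (𝐲 * (k * 𝐚 * k⁻¹) * (𝐲)⁻¹) * ((𝐲)⁻¹ * (k * 𝐚 * k⁻¹) * (𝐲)⁻¹⁻¹) = 1 := fun g h1 h2 => by
      rw [← h2]
      calc _ = k * (𝐚 * (g * 𝐚 * g⁻¹) * (g⁻¹ * 𝐚 * g)) * k⁻¹ := by group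
        _ = 1 := by rw [h1]; group
    simp only [map_mul ψ _ (_ * _), map_mul ψ (_ * _), map_mul ψ _⁻¹, map_inv, ht, ← h.hy, map_one]
    rcases e2 with e | e
    · exact c 𝐱 (mdl h.inj) e
    · exact c 𝐱⁻¹ (mdl h.inj) (by rw [← conj_inv, e, inv_inv])
  have xy : 𝐲 * 𝐱 = 𝐱 * 𝐲 := by rw [mul_assoc, ← h.xf]
  have yy : k * 𝐲 * k⁻¹ * 𝐲 = 𝐲 * (k * 𝐲 * k⁻¹) := by
    have := conj_comm xy k
    rcases e2 with e | e <;> rw [e] at this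
    exacts [this, (Commute.inv_right_iff.mp this).eq]
  obtain ⟨c1, c2⟩ := h.all_Z yy tZ (conj_comm h.ya k)
  obtain ⟨u, hu⟩ := h.memN _ (Or.inl (conj_eq c1)) (Or.inr (Or.inl (conj_eq c2)))
  obtain ⟨w, w1, w2, w3, w4, w5⟩ := (n_f4 u (h.injN (by rw [map_mul, map_mul ψ _ u, hu, ← h.hy, yy]))
    (h.injN (by rw [map_mul, map_mul, hu, ← h.nz, c1])) (h.injN (by
      rw [map_mul, map_mul, hu, map_one, conj_three y3]))).resolve_left fun e => y1 (by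
      rwa [e, map_one, eq_comm, conj_eq_one_iff] at hu)
  have c : ∀ t, ψ w * k * t * (ψ w * k)⁻¹ = MulAut.conj (ψ w) (k * t * k⁻¹) := fun t => by
    rw [MulAut.conj_apply]; group
  have d : ∀ {v : El DN}, w * v = v * w → MulAut.conj (ψ w) (ψ v) = ψ v := fun hv =>
    conj_eq (by rw [← map_mul, hv, map_mul])
  have d1 := d w1
  have d2 := d w2
  have d3 := d w3
  have d4 := d w4
  rw [← h.na] at d1
  rw [← h.nz] at d2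
  rw [← h.ne] at d3
  rw [← h.hy] at d4
  refine ⟨ψ w * k, by rw [c, e1, d1], e2.imp (fun e => by rw [c, e, d4]) fun e => by rw [c, e, map_inv, d4],
    w5.imp (fun e => ?_) fun e => ?_, tZ.imp (fun e => by rw [c, e, d2]) (Or.imp (fun e => by rw [c, e, d3])
      fun e => by rw [c, e, map_mul, d2, d3])⟩
  all_goals
    rw [c, ← hu, h.nx, MulAut.conj_apply]
    simp only [← map_mul, ← map_inv, e]

/-- `r` interchanges `z` and `a` -/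
theorem NM.rv (h : NM φ ψ) {r : G} (rr : r * r = 1) (rz : r * 𝐳 * r⁻¹ = 𝐚) :
    ∃ u, ψ u = (r * (𝐬 * 𝐚 * 𝐬)) ^ 3 ∧ u * HJ.nz = HJ.nz * u ∧ u * HJ.na = HJ.na * u := by
  have ra : MulAut.conj r 𝐚 = 𝐳 := by
    rw [← rz, ← MulAut.conj_apply, ← MulAut.mul_apply, ← map_mul, rr, map_one, MulAut.one_apply]
  have vz : MulAut.conj (𝐬 * 𝐚 * 𝐬) 𝐳 = 𝐳 := by rw [MulAut.conj_apply]; exact mdl h.inj
  have va : MulAut.conj (𝐬 * 𝐚 * 𝐬) 𝐚 = 𝐚 * 𝐳 := by rw [MulAut.conj_apply]; exact mdl h.inj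
  rw [← MulAut.conj_apply] at rz
  refine h.memA (comm_of_conj ?_) (comm_of_conj ?_) <;>
    simp only [← MulAut.conj_apply, pow_succ, pow_zero, one_mul, map_mul MulAut.conj _ (_ * _), map_mul MulAut.conj r,
      MulAut.mul_apply, map_mul (MulAut.conj _), vz, va, rz, ra] <;> exact mdl h.inj

theorem NM.exists_r (h : NM φ ψ) (hza : IsConj 𝐳 𝐚) :
    ∃ r : G, r * r = 1 ∧ r * 𝐳 * r⁻¹ = 𝐚 ∧ r * 𝐱 * r⁻¹ = 𝐲 ∧ r * 𝐲 * r⁻¹ = 𝐱 := by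
  obtain ⟨k, k1, k2, k3, k4⟩ := h.exists_k hza
  simp only [← MulAut.conj_apply] at k1 k2 k3 k4
  have yz := h.yz
  have hZ : ∀ g t, g = 𝐲 ∨ g = (𝐲)⁻¹ → t = 𝐳 ∨ t = 𝐞 ∨ t = 𝐞 * 𝐳 →
      g * t * g⁻¹ = 𝐳 ∨ g * t * g⁻¹ = 𝐞 ∨ g * t * g⁻¹ = 𝐞 * 𝐳 := by
    rintro _ _ (rfl | rfl) (rfl | rfl | rfl) <;> rw [h.hy, h.nz, h.ne] <;> exact mdl h.injN
  have kk : ∀ t, k * k * t * (k * k)⁻¹ = MulAut.conj k (MulAut.conj k t) := fun t => by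
    simp only [MulAut.conj_apply]; group
  have ke : ∃ g, (g = 𝐱 ∨ g = 𝐱⁻¹) ∧ MulAut.conj k 𝐞 = g * 𝐚 * g⁻¹ :=
    ⟨_, k3, by rw [← yz, map_mul (MulAut.conj k) _ _⁻¹, map_mul (MulAut.conj k) 𝐲, map_inv, k1]⟩
  obtain ⟨m, hm⟩ := h.memN (k * k) (by rw [kk, k1]; exact k4) (by
    obtain ⟨g, hg, e⟩ := ke
    rw [kk, e, map_mul, map_mul, map_inv]
    refine hZ _ _ ?_ k4
    rcases hg with rfl | rfl
    · exact k2
    · rw [map_inv, inv_eq_iff_eq_inv, inv_inj, or_comm]; exact k2)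
  have hm' : ∀ t, ψ (m * t * m⁻¹) = MulAut.conj k (MulAut.conj k (ψ t)) := fun t => by
    rw [← kk, ← hm]; simp only [map_mul, map_inv]
  obtain ⟨m1, m2, m3, m4, m5⟩ := n_f5 m (by
      simp only [← h.injN.eq_iff, hm', map_inv, ← h.nx]
      rcases k2 with e | e <;> rcases k3 with e' | e' <;> simp only [e, e', map_inv, inv_inv, true_or, or_true])
    (by
      simp only [← h.injN.eq_iff, hm', map_inv, ← h.hy]
      rcases k2 with e | e <;> rcases k3 with e' | e' <;> simp only [e, e', map_inv, inv_inv, true_or, or_true])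
    (h.injN (by
      obtain ⟨g, hg, e⟩ := ke
      rw [map_mul, map_mul ψ HJ.na, hm', ← h.na]
      rcases k4 with e' | e' | e' <;> rcases hg with rfl | rfl <;> simp only [e', map_mul, e, k1] <;>
        first | rfl | exact mdl h.inj))
  have adj : ∀ g : El DN, (∃ i < 3, g ^ i * (m * HJ.na * m⁻¹) * (g ^ i)⁻¹ = HJ.na) →
      g * (HJ.nx * nf) = HJ.nx * nf * g → g * HJ.nx = HJ.nx * g → m * g * m⁻¹ = g → MulAut.conj k (ψ g) = (ψ g)⁻¹ →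
      ∃ r : G, r * r = 1 ∧ r * 𝐳 * r⁻¹ = 𝐚 ∧ r * 𝐱 * r⁻¹ = MulAut.conj k 𝐱 ∧ r * 𝐲 * r⁻¹ = MulAut.conj k 𝐲 := by
    rintro g ⟨i, -, hi⟩ g1 g2 g3 g4
    have c : ∀ t, ψ (g ^ i) * (ψ m * k) * t * (ψ (g ^ i) * (ψ m * k))⁻¹ =
        MulAut.conj (ψ (g ^ i)) (MulAut.conj (ψ m) (MulAut.conj k t)) := fun t => by
      simp only [MulAut.conj_apply]; group
    have d : ∀ {u v : El DN}, u * v * u⁻¹ = v → MulAut.conj (ψ u) (ψ v) = ψ v := fun hv => by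
      rw [MulAut.conj_apply, ← map_inv, ← map_mul, ← map_mul, hv]
    have d1 := d m1
    have d2 := d m2
    have d3 := d (conj_eq (Commute.pow_left g2 i).eq)
    have d4 := d (conj_eq (Commute.pow_left g1 i).eq)
    rw [← h.nx] at d1 d3
    rw [← h.hy] at d2 d4
    refine ⟨ψ (g ^ i) * (ψ m * k), ?_, ?_, ?_, ?_⟩
    · calc _ = ψ (g ^ i) * MulAut.conj (ψ m) (MulAut.conj k (ψ (g ^ i))) * (ψ m * k * (ψ m * k)) := by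
            simp only [MulAut.conj_apply]; group
        _ = _ := by
          rw [map_pow, map_pow, g4, map_pow, map_inv, d g3, inv_pow, mul_inv_cancel, one_mul, ← map_one ψ, ← m3,
            map_mul, map_mul, hm]
          group
    · rw [c, k1, h.na]
      simp only [MulAut.conj_apply, ← map_mul, ← map_inv, hi]
    · rcases k2 with e | e <;> simp only [c, e, map_inv, d2, d4]
    · rcases k3 with e | e <;> simp only [c, e, map_inv, d1, d3]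
  have mx := hm' HJ.nx
  rw [m1, ← h.nx] at mx
  have xy : 𝐲 * 𝐱 = 𝐱 * 𝐲 := by rw [mul_assoc, ← h.xf]
  rcases k2 with e | e <;> rcases k3 with e' | e'
  · obtain ⟨r, H⟩ := adj nf m4 (by decide +kernel) (by decide +kernel) (by
      rw [show nf = HJ.nx⁻¹ * (HJ.nx * nf) by group, ← conj_mul, ← conj_inv, m1, m2]) (by
      rw [show ψ nf = 𝐱⁻¹ * 𝐲 by group, map_mul, map_inv, e, e']; group)
    rw [e, e'] at H
    exact ⟨r, H⟩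
  · rw [e, e'] at mx
    exact absurd mx (mdl h.inj)
  · rw [e, map_inv, e'] at mx
    exact absurd mx (mdl h.inj)
  obtain ⟨r, rr, rz, rx, ry⟩ := adj (HJ.nx * nf⁻¹) m5 (by decide +kernel) (by decide +kernel) (by
    rw [show HJ.nx * nf⁻¹ = (HJ.nx * (HJ.nx * nf))⁻¹ by decide +kernel, ← conj_inv, ← conj_mul, m1, m2]) (by
    rw [show HJ.nx * nf⁻¹ = (HJ.nx * (HJ.nx * nf))⁻¹ by decide +kernel, map_inv, map_mul, ← h.nx, ← h.hy, map_inv,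
      map_mul, e, e', ← mul_inv_rev])
  exfalso
  rw [e, ← MulAut.conj_apply] at rx
  rw [e', ← MulAut.conj_apply] at ry
  obtain ⟨u, hu, u1, u2⟩ := h.rv rr rz
  rw [← MulAut.conj_apply] at rz
  have rr' : ∀ t, MulAut.conj r (MulAut.conj r t) = t := fun t => by
    rw [← MulAut.mul_apply, ← map_mul, rr, map_one, MulAut.one_apply]
  have re : MulAut.conj r 𝐞 = 𝐱⁻¹ * 𝐚 * 𝐱 := by
    rw [← yz, map_mul (MulAut.conj r) _ _⁻¹, map_mul (MulAut.conj r) 𝐲, map_inv, rz, ry, inv_inv]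
  have rc : MulAut.conj r (𝐱⁻¹ * 𝐚 * 𝐱) = 𝐞 := by rw [← re, rr']
  have ra : MulAut.conj r 𝐚 = 𝐳 := by rw [← rz, rr']
  have ve : MulAut.conj (𝐬 * 𝐚 * 𝐬) 𝐞 = 𝐞 := by rw [MulAut.conj_apply]; exact mdl h.inj
  have va : MulAut.conj (𝐬 * 𝐚 * 𝐬) 𝐚 = 𝐚 * 𝐳 := by rw [MulAut.conj_apply]; exact mdl h.inj
  have vc : MulAut.conj (𝐬 * 𝐚 * 𝐬) (𝐱⁻¹ * 𝐚 * 𝐱) = 𝐱⁻¹ * 𝐚 * 𝐱 * (𝐞 * 𝐳) := by
    rw [MulAut.conj_apply]; exact mdl h.inj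
  have := conj_eq (show ψ u * ψ HJ.ne = ψ HJ.ne * ψ u by rw [← map_mul, (n_f3 u u1 u2).2.2.2, map_mul])
  rw [hu, ← h.ne, ← MulAut.conj_apply] at this
  generalize hc : 𝐱⁻¹ * 𝐚 * 𝐱 = c at re rc vc
  simp only [pow_succ, pow_zero, one_mul, map_mul MulAut.conj _ (_ * _), map_mul MulAut.conj r,
      MulAut.mul_apply, map_mul (MulAut.conj _), ve, va, vc, rz, ra, re, rc] at this
  rw [← hc] at this
  exact absurd this (mdl h.inj)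

end Cfsg.Agent.HJ
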