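import Cfsg.Agent.HJ.Norm
import Cfsg.Agent.HJ.FactJ
import Cfsg.Agent.Transfer.Abelian
import Cfsg.Agent.S3277
import Cfsg.Agent.S0213

/-!
# HJ/Two: two classes of involutions; the centraliser of `a`
-/

set_option autoImplicit false
set_option maxRecDepth 100000
set_option synthInstance.maxSize 100000

namespace Cfsg.Agent.HJ

open Cfsg.Agent.Comp Cfsg.Agent.Core Subgroup

variable {G : Type*} [Group G] {φ : El DH →* G} {ψ : El DN →* G}

theorem mem_zpowers_iff_lt {w t : G} {n : ℕ} (hn0 : 0 < n) (hn : n ≤ 12) (h : w ^ n = 1) :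
    t ∈ zpowers w ↔ ∃ j < 12, w ^ j = t := by
  refine ⟨fun ht => ?_, fun ⟨j, _, e⟩ => e ▸ npow_mem_zpowers w j⟩
  obtain ⟨m, rfl⟩ := (isOfFinOrder_iff_pow_eq_one.mpr ⟨n, hn0, h⟩).mem_powers_iff_mem_zpowers.mpr ht
  exact ⟨m % n, (Nat.mod_lt _ hn0).trans_le hn, (pow_eq_pow_mod m h).symm⟩

theorem Cj.isConj {M : Type} [Group M] (χ : M →* G) {w r u : M} (h : Cj w r u) : IsConj (χ r) (χ u) :=
  isConj_iff.mpr ⟨χ w, by rw [← h]; simp only [map_mul, map_inv]⟩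

theorem in_Z (h : CM φ hz) (hza : ¬ IsConj 𝐳 𝐚) {t : G} (ht : IsConj 𝐳 t) (h1 : t * 𝐳 = 𝐳 * t)
    (h2 : t * 𝐚 = 𝐚 * t) : t = 𝐳 ∨ t = 𝐞 ∨ t = 𝐞 * 𝐳 := by
  obtain ⟨u, rfl⟩ := (h.cent t).mp h1
  rcases h_A u (h.inj (by rw [map_mul, map_mul, h2])) with rfl | rfl | rfl | rfl | ⟨v, e⟩
  · rw [map_one, isConj_one_left] at ht
    exact absurd ht (mdl h.inj)
  · exact Or.inl rfl
  · exact Or.inr (Or.inl rfl)
  · exact Or.inr (Or.inr (map_mul _ _ _))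
  · exact absurd (ht.trans (Cj.isConj φ e).symm) hza

/-- the four-group `⟨z, e⟩` in the model of its normaliser -/
def ZN : Subgroup (El DN) where
  carrier := {c | c = 1 ∨ c = nz ∨ c = ne ∨ c = ne * nz}
  mul_mem' := by
    rintro _ _ (rfl | rfl | rfl | rfl) (rfl | rfl | rfl | rfl) <;> rw [Set.mem_setOf_eq] <;> decide +kernel
  one_mem' := Or.inl rfl
  inv_mem' := by rintro _ (rfl | rfl | rfl | rfl) <;> rw [Set.mem_setOf_eq] <;> decide +kernel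

theorem card_ZN : Nat.card ZN = 4 :=
  (El.card_eq_cnt fun c : El DN => c = 1 ∨ c = nz ∨ c = ne ∨ c = ne * nz).trans (by decide +kernel)

theorem NM.mem_Z (h : NM φ ψ) {g : G} : g ∈ ZN.map ψ ↔ g = 1 ∨ g = 𝐳 ∨ g = 𝐞 ∨ g = 𝐞 * 𝐳 := by
  rw [h.nz, h.ne, ← map_mul, ← map_one ψ]
  constructor
  · rintro ⟨c, rfl | rfl | rfl | rfl, rfl⟩ <;> simp
  · rintro (rfl | rfl | rfl | rfl) <;> exact mem_map_of_mem _ (by simp [ZN])

theorem NM.card_ca (h : NM φ ψ) : Nat.card (ψ.range ⊓ centralizer {𝐚} : Subgroup G) = 48 :=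
  (El.card_sub h.injN (Q := fun g => g ∈ ψ.range ⊓ centralizer {𝐚}) (fun _ hd => hd.1)
    (fun u => u * HJ.na = HJ.na * u) fun u => by
      simp only [mem_inf, mem_cent, h.na, ← map_mul, h.injN.eq_iff, MonoidHom.mem_range, exists_apply_eq_apply,
        true_and]).trans n_cnt.2

theorem comm_e (h : CM φ hz) {u : G} (h1 : u * 𝐳 = 𝐳 * u) (h2 : u * 𝐚 = 𝐚 * u) : u * u = 1 ∧ u * 𝐞 = 𝐞 * u := by
  obtain ⟨u, rfl⟩ := (h.cent u).mp h1
  simp only [← map_mul, h.inj.eq_iff, map_eq_one_iff _ h.inj] at h2 ⊢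
  exact h_A' u h2

theorem NM.ya (h : NM φ ψ) : 𝐱 * ψ nf * 𝐚 = 𝐚 * (𝐱 * ψ nf) := by
  rw [h.nx, h.na]; exact mdl h.injN

/-- the 2-residual of `C(a)` -/
theorem NM.exists_L [Finite G] (h : NM φ ψ) (hza : ¬ IsConj 𝐳 𝐚) : ∃ L : Subgroup G, (∀ g ∈ L, g * 𝐚 = 𝐚 * g) ∧
    (∀ g ∈ L, g * 𝐳 = 𝐳 * g → g ∈ ZN.map ψ) ∧ 𝐱 * ψ nf ∈ L ∧ ∀ g, g * 𝐚 = 𝐚 * g → (∀ l ∈ L, g * l * g⁻¹ ∈ L) ∧
      ∃ l ∈ L, ∃ u, u * 𝐳 = 𝐳 * u ∧ u * 𝐚 = 𝐚 * u ∧ l * u = g := by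
  haveI : Fact (Nat.Prime 2) := ⟨Nat.prime_two⟩
  let X := centralizer ({𝐚} : Set G)
  let A := centralizer ({𝐳} : Set G) ⊓ X
  have hA : ∀ {g}, g ∈ A ↔ g * 𝐳 = 𝐳 * g ∧ g * 𝐚 = 𝐚 * g := by simp only [A, X, mem_inf, mem_cent, implies_true]
  have cA : Nat.card A = 16 := (Nat.card_congr (Equiv.subtypeEquivRight fun _ => hA)).trans (HJ.card_ca h.toCM)
  have hN : ∀ g, (∀ u ∈ A, g * u * g⁻¹ ∈ A) → ∃ v, ψ v = g := fun g hg => by
    have h1 := hA.mp (hg 𝐳 (hA.mpr ⟨rfl, mdl h.inj⟩))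
    have h2 := hA.mp (hg 𝐞 (hA.mpr ⟨mdl h.inj, mdl h.inj⟩))
    exact h.memN g (in_Z h.toCM hza (Inv.isConj_conj _ _) h1.1 h1.2)
      (in_Z h.toCM hza (h.conj_ze.trans (Inv.isConj_conj _ _)) h2.1 h2.2)
  have hS : IsSylowOf 2 A X := by
    refine IsSylowOf.of_normalizer ⟨le_inf inf_le_right le_normalizer, IsPGroup.of_card (n := 4) cA, fun h2 => ?_⟩
    have h1 := card_dvd_of_le (show X ⊓ normalizer (A : Set G) ≤ ψ.range ⊓ X from fun g hg =>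
      ⟨hN g fun u hu => (mem_normalizer_iff.mp hg.2 u).mp hu, hg.1⟩)
    rw [← card_mul_relIndex (le_inf inf_le_right le_normalizer : A ≤ _), cA, h.card_ca] at h1
    exact absurd ((Nat.mul_dvd_mul_left 16 h2).trans h1) (by norm_num)
  obtain ⟨P, hP⟩ : ∃ P : Sylow 2 X, ∀ {g : X}, g ∈ (P : Subgroup X) ↔ (g : G) ∈ A :=
    ⟨hS.toSylow, by rw [hS.coe_toSylow]; exact Iff.rfl⟩
  have hab : ∀ u ∈ A, ∀ v ∈ A, u * v = v * u := fun u hu v hv => by
    have k : ∀ w ∈ A, w⁻¹ = w := fun w hw =>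
      inv_eq_of_mul_eq_one_left (comm_e h.toCM (hA.mp hw).1 (hA.mp hw).2).1
    rw [← k _ (mul_mem hu hv), mul_inv_rev, k u hu, k v hv]
  haveI : IsMulCommutative (P : Subgroup X) :=
    ⟨⟨fun u v => Subtype.ext (Subtype.ext (hab _ (hP.mp u.2) _ (hP.mp v.2)))⟩⟩
  refine ⟨(pResidual 2 X).map X.subtype, ?_, ?_, ?_, fun g hg => ⟨?_, ?_⟩⟩
  · rintro _ ⟨g, -, rfl⟩
    exact mem_cent.mp g.2
  · rintro _ ⟨g, hg, rfl⟩ hz'
    have h1 : g ∈ (P : Subgroup X) ⊓ pResidual 2 X := ⟨hP.mpr (hA.mpr ⟨hz', mem_cent.mp g.2⟩), hg⟩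
    rw [Transfer.inf_pResidual_eq_of_abelian] at h1
    refine (commutator_le.mpr fun u hu v hv => ?_ : _ ≤ (ZN.map ψ).comap X.subtype) h1
    obtain ⟨v', hv'⟩ := hN v fun w hw => hP.mp ((mem_normalizer_iff.mp hv ⟨w, hw.2⟩).mp (hP.mpr hw))
    obtain ⟨u', hu'⟩ := hN u fun w hw => by rw [conj_eq (hab _ (hP.mp hu) w hw)]; exact hw
    have h2 := hA.mp (hP.mp hu)
    have h3 := mem_cent.mp v.2
    rw [← hu', h.nz, h.na] at h2
    rw [← hv', h.na] at h3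
    simp only [← map_mul, h.injN.eq_iff] at h2 h3
    refine ⟨_, (n_ca v' h3).2 u' h2.2 h2.1, ?_⟩
    simp only [map_mul, map_inv, hu', hv', commutatorElement_def, coe_subtype]
  · refine ⟨⟨_, mem_cent.mpr h.ya⟩, Transfer.mem_pResidual_of_coprime ?_, rfl⟩
    rw [← orderOf_coe, coe_mk, h.nx, ← map_mul, orderOf_injective ψ h.injN,
      orderOf_eq_prime (p := 3) (by decide +kernel) (by decide +kernel)]
    norm_num
  · rintro _ ⟨l, hl, rfl⟩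
    exact ⟨_, Normal.conj_mem inferInstance l hl ⟨g, mem_cent.mpr hg⟩, rfl⟩
  · obtain ⟨l, hl, u, hu, e⟩ := mem_sup_of_normal_left.mp ((Transfer.pResidual_sup_eq_top_of_coprime
      (H := (P : Subgroup X)) ((Nat.Prime.coprime_iff_not_dvd Nat.prime_two).mpr P.not_dvd_index)).ge
      (mem_top ⟨g, mem_cent.mpr hg⟩))
    exact ⟨l, ⟨l, hl, rfl⟩, u, (hA.mp (hP.mp hu)).1, (hA.mp (hP.mp hu)).2, congrArg Subtype.val e⟩

theorem NM.dich [Finite G] (h : NM φ ψ) {L : Subgroup G} (hz' : ∀ g ∈ L, g * 𝐳 = 𝐳 * g → g ∈ ZN.map ψ)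
    (hy : 𝐱 * ψ nf ∈ L) (hn : ∀ g, g * 𝐚 = 𝐚 * g → ∀ l ∈ L, g * l * g⁻¹ ∈ L) :
    𝐳 ∈ L ∧ 𝐞 ∈ L ∧ (L ≤ ψ.range ∨ Nonempty (L ≃* alternatingGroup (Fin 5))) := by
  haveI : Fact (Nat.Prime 2) := ⟨Nat.prime_two⟩
  generalize hy' : 𝐱 * ψ nf = y at hy
  have yz : y * 𝐳 * y⁻¹ = 𝐞 := by rw [← hy', h.nx, h.nz, h.ne]; exact mdl h.injN
  have ye : y * 𝐞 * y⁻¹ = 𝐞 * 𝐳 := by rw [← hy', h.nx, h.nz, h.ne]; exact mdl h.injN
  have yez : y * (𝐞 * 𝐳) * y⁻¹ = 𝐳 := by rw [← hy', h.nx, h.nz, h.ne]; exact mdl h.injN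
  have y3 : orderOf y = 3 := by
    rw [← hy', h.nx, ← map_mul, orderOf_injective ψ h.injN,
      orderOf_eq_prime (p := 3) (by decide +kernel) (by decide +kernel)]
  have all : ∀ K : Subgroup G, (∀ t ∈ K, y * t * y⁻¹ ∈ K) → 𝐳 ∈ K ∨ 𝐞 ∈ K ∨ 𝐞 * 𝐳 ∈ K → 𝐳 ∈ K ∧ 𝐞 ∈ K := by
    intro K hK H
    have h1 : 𝐳 ∈ K := by
      rcases H with H | H | H
      exacts [H, yez ▸ hK _ (ye ▸ hK _ H), yez ▸ hK _ H]
    exact ⟨h1, yz ▸ hK _ h1⟩
  have hez : y * (𝐳 * y⁻¹ * 𝐳⁻¹) = 𝐞 * 𝐳 := by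
    rw [← yz, show 𝐳⁻¹ = 𝐳 from mdl h.inj]; group
  obtain ⟨hzL, heL⟩ := all L (fun t ht => mul_mem (mul_mem hy ht) (inv_mem hy))
    (Or.inr (Or.inr (hez ▸ mul_mem hy (hn _ (mdl h.inj) _ (inv_mem hy)))))
  refine ⟨hzL, heL, or_iff_not_imp_left.mpr fun hL => ?_⟩
  have hZL : ZN.map ψ ≤ L := fun g hg => by
    rcases h.mem_Z.mp hg with rfl | rfl | rfl | rfl
    exacts [one_mem _, hzL, heL, mul_mem heL hzL]
  have cZ : Nat.card (ZN.map ψ) = 4 := (card_map_of_injective h.injN).trans card_ZN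
  have hC : (centralizer {(⟨𝐳, hzL⟩ : L)}).map L.subtype = ZN.map ψ := by
    refine le_antisymm ?_ fun g hg => ⟨⟨g, hZL hg⟩, mem_cent.mpr (Subtype.ext ?_), rfl⟩
    · rintro _ ⟨g, hg, rfl⟩
      exact hz' _ g.2 (congrArg Subtype.val (mem_cent.mp hg))
    · change g * 𝐳 = 𝐳 * g
      rcases h.mem_Z.mp hg with rfl | rfl | rfl | rfl
      exacts [by simp, rfl, mdl h.inj, mdl h.inj]
  refine S3277.result (⟨𝐳, hzL⟩ : L) (Inv.two_of_mul_self (fun e => absurd (congrArg Subtype.val e)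
    (show 𝐳 ≠ 1 from mdl h.inj)) (Subtype.ext (show 𝐳 * 𝐳 = 1 from mdl h.inj)))
    (by rw [← cZ, ← hC, card_map_of_injective L.subtype_injective]) (fun c hc => Subtype.ext ?_) ?_ ?_
  · change (c : G) ^ 2 = 1
    rcases h.mem_Z.mp (hC.le ⟨c, hc, rfl⟩) with e | e | e | e <;> change (c : G) = _ at e <;> rw [e]
    exacts [one_pow _, mdl h.inj, mdl h.inj, mdl h.inj]
  · rintro ⟨P, K, hK, hc⟩
    obtain ⟨k, hk⟩ := P.isPGroup'.exists_card_eq
    have h1 : (⟨y, hy⟩ : L) ∈ K := Transfer.mem_of_pow_mem_of_coprime (n := K.index)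
      (by rw [hc.symm.index_eq_card, hk, ← orderOf_coe, coe_mk, y3]; exact Nat.Coprime.pow_left _ (by norm_num))
      (K.pow_index_mem _)
    have h2 : Odd (Nat.card K) := by
      rw [← hc.index_eq_card, ← Nat.not_even_iff_odd, even_iff_two_dvd]; exact P.not_dvd_index
    refine Inv.odd_card_iff.mp h2 _ (mul_mem h1 (hK.conj_mem _ (inv_mem h1) ⟨𝐳, hzL⟩)) ?_
    rw [← orderOf_coe]
    change orderOf (y * (𝐳 * y⁻¹ * 𝐳⁻¹)) = 2
    rw [hez]
    exact Inv.two_of_mul_self (mdl h.inj) (mdl h.inj)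
  · intro E hE hE2
    by_contra hne
    have hc : Nat.card E = 2 ∨ Nat.card E = 4 := by omega
    have hE' : ∀ l ∈ L, ∀ t ∈ E.map L.subtype, l * t * l⁻¹ ∈ E.map L.subtype := by
      rintro l hl _ ⟨t, ht, rfl⟩
      exact ⟨_, hE.conj_mem t ht ⟨l, hl⟩, rfl⟩
    have hEL : E.map L.subtype ≤ L := map_subtype_le _
    have h2 : ∀ t ∈ E.map L.subtype, t * t = 1 := by
      rintro _ ⟨t, ht, rfl⟩
      exact congrArg Subtype.val ((pow_two t).symm.trans (hE2.2 t ht))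
    have hcard : Nat.card (E.map L.subtype) = Nat.card E := card_map_of_injective L.subtype_injective
    rw [← hcard] at hc
    generalize E.map L.subtype = E' at hc hE' hEL h2
    obtain ⟨t, htE, ht1⟩ : ∃ t ∈ E', t ≠ 1 := by
      by_contra! H
      rw [(eq_bot_iff_forall _).mpr H, card_bot] at hc
      omega
    have zz : 𝐳 * 𝐳 = 1 := mdl h.inj
    obtain ⟨t, htE, ht1, htz⟩ : ∃ t ∈ E', t ≠ 1 ∧ t * 𝐳 = 𝐳 * t := by
      by_cases H : t * 𝐳 = 𝐳 * t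
      · exact ⟨t, htE, ht1, H⟩
      have h3 := mul_mem htE (hE' _ hzL t htE)
      refine ⟨_, h3, fun e => H (comm_of_conj ?_).symm, ?_⟩
      · rw [← inv_eq_of_mul_eq_one_right e, inv_eq_of_mul_eq_one_right (h2 t htE)]
      · refine (comm_of_conj (Eq.trans ?_ (inv_eq_of_mul_eq_one_right (h2 _ h3)))).symm
        calc _ = 𝐳 * (t * t) * t⁻¹ * 𝐳⁻¹ * ((𝐳 * 𝐳) * (t * t) * t⁻¹ * (𝐳 * 𝐳)⁻¹) := by group
          _ = _ := by rw [zz, h2 t htE]; group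
    obtain ⟨h3, h4⟩ := all E' (hE' y hy) (by
      rcases h.mem_Z.mp (hz' t (hEL htE) htz) with rfl | rfl | rfl | rfl
      exacts [absurd rfl ht1, Or.inl htE, Or.inr (Or.inl htE), Or.inr (Or.inr htE)])
    have h5 : ZN.map ψ = E' := eq_of_le_of_card_ge (fun g hg => by
      rcases h.mem_Z.mp hg with rfl | rfl | rfl | rfl
      exacts [one_mem _, h3, h4, mul_mem h4 h3]) (by omega)
    refine hL fun l hl => h.memN l ?_ ?_
    · exact (h.mem_Z.mp (h5 ▸ hE' l hl _ h3)).resolve_left (by rw [conj_eq_one_iff]; exact mdl h.inj)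
    · exact (h.mem_Z.mp (h5 ▸ hE' l hl _ h4)).resolve_left (by rw [conj_eq_one_iff]; exact mdl h.inj)

theorem comm_of_mem {u v t : G} (hu : orderOf u = 2) (hv : orderOf v = 2) (ht : orderOf t = 2)
    (h : t ∈ zpowers (u * v)) : u * t = t * u ∧ v * t = t * v :=
  ⟨comm_of_conj ((Inv.inverts_of_mem_zpowers (Inv.inverts_mul_left (Inv.mul_self_of_two hu)
    (Inv.mul_self_of_two hv)) h).trans (Inv.inv_eq_of_two ht)), comm_of_conj ((Inv.inverts_of_mem_zpowers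
    (Inv.inverts_mul_right (Inv.mul_self_of_two hu) (Inv.mul_self_of_two hv)) h).trans (Inv.inv_eq_of_two ht))⟩

theorem z_two (h : CM φ hz) : orderOf 𝐳 = 2 := Inv.two_of_mul_self (mdl h.inj) (mdl h.inj)

theorem a_two (h : CM φ hz) : orderOf 𝐚 = 2 := Inv.two_of_mul_self (mdl h.inj) (mdl h.inj)

theorem two_iff {M : Type} [Group M] {χ : M →* G} (h : Function.Injective χ) {t : G} (ht : orderOf t = 2) {u : M}
    (hu : IsConj t (χ u)) : u * u = 1 ∧ u ≠ 1 := by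
  rw [Inv.orderOf_of_isConj hu, orderOf_injective χ h] at ht
  exact ⟨Inv.mul_self_of_two ht, Inv.ne_one_of_two ht⟩

theorem card_cz (h : CM φ hz) : Nat.card (centralizer ({𝐳} : Set G)) = 1920 := by
  rw [show centralizer ({𝐳} : Set G) = φ.range from ext fun g => mem_cent.trans (h.cent g), El.card_range h.inj]
  rfl

theorem NM.n1 (h : NM φ ψ) (hza : ¬ IsConj 𝐳 𝐚) :
    Nat.card {p : G × G // IsConj 𝐳 p.1 ∧ IsConj 𝐚 p.2 ∧ 𝐳 ∈ zpowers (p.1 * p.2)} = 960 := by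
  have z2 := z_two h.toCM
  have a2 := a_two h.toCM
  have pe : ∀ u, PE u → IsConj 𝐳 (φ u) := by
    rintro u (rfl | H)
    exacts [IsConj.refl _, h.conj_ze.trans (H.isConj φ)]
  refine (El.card_sub_pairs h.inj (fun p hp => ?_) _ _ fun u v => ?_).trans h_n1
  · have := comm_of_mem (Inv.orderOf_of_isConj hp.1 ▸ z2) (Inv.orderOf_of_isConj hp.2.1 ▸ a2) z2 hp.2.2
    exact ⟨(h.cent _).mp this.1, (h.cent _).mp this.2⟩
  refine and_congr ⟨fun H => ?_, pe u⟩ (and_congr ⟨fun H => ?_, fun H => H.isConj φ⟩ ?_)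
  · obtain ⟨h1, h2⟩ := two_iff h.inj z2 H
    exact ((h_inv' u h1).resolve_left h2).resolve_right fun H' => hza (H.trans (H'.isConj φ).symm)
  · obtain ⟨h1, h2⟩ := two_iff h.inj a2 H
    exact ((h_inv' v h1).resolve_left h2).resolve_left fun H' => hza ((pe v H').trans H.symm)
  · rw [← map_mul, ← MonoidHom.map_zpowers, mem_map_iff_mem h.inj]
    rcases h_exp (u * v) with H | H | H <;> exact mem_zpowers_iff_lt (by norm_num) (by norm_num) H

theorem NM.card_G [Finite G] (h : NM φ ψ) (hza : ¬ IsConj 𝐳 𝐚) :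
    Nat.card G = Nat.card (centralizer ({𝐚} : Set G)) * 960 +
      1920 * Nat.card {p : G × G // IsConj 𝐳 p.1 ∧ IsConj 𝐚 p.2 ∧ 𝐚 ∈ zpowers (p.1 * p.2)} := by
  rw [S0213.result 𝐳 𝐚 (z_two h.toCM) (a_two h.toCM) hza fun t ht => (inv_classes h.toCM ht).elim Or.inl
    fun H => H.imp_left h.conj_ze.trans, h.n1 hza, card_cz h.toCM]

set_option maxHeartbeats 1000000 in
theorem NM.not_le [Finite G] (h : NM φ ψ) (hza : ¬ IsConj 𝐳 𝐚) : ¬ ∀ g, g * 𝐚 = 𝐚 * g → g ∈ ψ.range := fun H => by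
  have z2 := z_two h.toCM
  have a2 := a_two h.toCM
  have c1 := h.card_ca
  rw [inf_eq_right.mpr fun g hg => H g (mem_cent.mp hg)] at c1
  have c2 : Nat.card {p : G × G // IsConj 𝐳 p.1 ∧ IsConj 𝐚 p.2 ∧ 𝐚 ∈ zpowers (p.1 * p.2)} = 3 := by
    have k : ∀ p : G × G, IsConj 𝐳 p.1 ∧ IsConj 𝐚 p.2 ∧ 𝐚 ∈ zpowers (p.1 * p.2) →
        (p.1 * 𝐚 = 𝐚 * p.1 ∧ p.1 * 𝐳 = 𝐳 * p.1) ∧ p.2 * 𝐚 = 𝐚 * p.2 ∧ p.2 * 𝐳 = 𝐳 * p.2 := fun p hp => by
      have h1 := Inv.orderOf_of_isConj hp.1 ▸ z2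
      have h2 := Inv.orderOf_of_isConj hp.2.1 ▸ a2
      have k : ∀ g, orderOf g = 2 → g * 𝐚 = 𝐚 * g → g * 𝐚 = 𝐚 * g ∧ g * 𝐳 = 𝐳 * g := fun g g2 hg => by
        obtain ⟨v, rfl⟩ := H g hg
        refine ⟨hg, ?_⟩
        have g3 := Inv.mul_self_of_two g2
        rw [h.na] at hg
        rw [h.nz]
        simp only [← map_mul, h.injN.eq_iff, map_eq_one_iff _ h.injN] at hg g3 ⊢
        exact (n_ca v hg).1 g3
      exact ⟨k _ h1 (comm_of_mem h1 h2 a2 hp.2.2).1, k _ h2 (comm_of_mem h1 h2 a2 hp.2.2).2⟩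
    refine (El.card_sub_pairs h.inj (fun p hp => ⟨(h.cent _).mp (k p hp).1.2, (h.cent _).mp (k p hp).2.2⟩)
      (fun u => u = hz ∨ u = he ∨ u = he * hz) (fun u v => v = u * ha) fun u v => ⟨fun hp => ?_, ?_⟩).trans
      (by decide +kernel)
    · obtain ⟨⟨h1, h2⟩, h3, h4⟩ := k _ hp
      have h5 := in_Z h.toCM hza hp.1 h2 h1
      simp only [← map_mul, h.inj.eq_iff] at h1 h3 h5
      refine ⟨h5, ?_⟩
      have h6 := hp.2.2
      rw [← map_mul, ← MonoidHom.map_zpowers, mem_map_iff_mem h.inj] at h6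
      have h7 : u * v * ha = ha * (u * v) := by rw [mul_assoc, h3, ← mul_assoc, h1, mul_assoc]
      obtain ⟨j, -, e⟩ := (mem_zpowers_iff_lt two_pos (by norm_num) ((pow_two _).trans (h_A' _ h7).1)).mp h6
      rw [pow_eq_pow_mod j ((pow_two _).trans (h_A' _ h7).1)] at e
      rcases Nat.mod_two_eq_zero_or_one j with H | H <;> rw [H] at e
      · exact absurd ((pow_zero _).symm.trans e) (by decide +kernel)
      · rw [← e, pow_one, ← mul_assoc, (h_A' _ h1).1, one_mul]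
    · rintro ⟨hu, rfl⟩
      refine ⟨?_, ?_, ?_⟩
      · rcases hu with rfl | rfl | rfl
        exacts [IsConj.refl _, h.conj_ze, h.conj_ze.trans (Cj.isConj φ (w := hs) (by decide +kernel))]
      · rcases hu with rfl | rfl | rfl
        exacts [(by decide +kernel : PA (hz * ha)).isConj φ, h_A3.2.2.2.2.2.1.isConj φ, h_A3.2.2.2.2.2.2.isConj φ]
      · rw [← map_mul, show u * (u * ha) = ha by rcases hu with rfl | rfl | rfl <;> decide +kernel]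
        exact mem_zpowers _
  have c3 := h.card_G hza
  rw [c1, c2, ← (centralizer ({𝐳} : Set G)).card_mul_index, card_cz h.toCM, ← Inv.card_isConj_eq_index] at c3
  have sf : IsConj 𝐳 (ψ HJ.ns) := h.ns ▸ h.conj_ze.trans (Cj.isConj φ (w := hp) (by decide +kernel))
  obtain ⟨w, hw, -⟩ := of_card_le (P := fun g => ∃ v, ψ v = g ∧ PN v) (Q := IsConj 𝐳) (by
      rintro _ ⟨v, rfl, H | H⟩
      exacts [h.nz ▸ H.isConj ψ, sf.trans (H.isConj ψ)]) (by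
      rw [El.card_sub h.injN (Q := fun g => ∃ v, ψ v = g ∧ PN v) (fun g ⟨v, hv, _⟩ => ⟨v, hv⟩) PN fun v => by simp only [h.injN.eq_iff, exists_eq_left],
        n_27]
      omega) (𝐩 * ψ (HJ.ns * nf) * 𝐩⁻¹)
    ((sf.trans (Cj.isConj ψ (w := nf) (u := HJ.ns * nf) (by decide +kernel))).trans (Inv.isConj_conj _ _))
  have e1 : ψ (HJ.ne * w) = 𝐩 * ψ nf * 𝐩⁻¹ := by
    rw [map_mul, hw, map_mul, ← h.ne, ← h.ns, show 𝐞 = 𝐩 * 𝐬⁻¹ * 𝐩⁻¹ from mdl h.inj]; group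
  have e2 := congrArg ψ (n_e4 w (h.injN (by
    rw [map_mul, hw, map_one]
    calc _ = 𝐩 * ψ (HJ.ns * nf * (HJ.ns * nf)) * 𝐩⁻¹ := by rw [map_mul ψ (HJ.ns * nf)]; group
      _ = 1 := by rw [show HJ.ns * nf * (HJ.ns * nf) = 1 by decide +kernel, map_one]; group)))
  rw [map_pow, e1, map_one, conj_pow, conj_eq_one_iff] at e2
  exact absurd e2 (mdl h.injN)

/-- models of `C(z)`, `N(⟨z, e⟩)` and `C(a)` when there are two classes of involutions -/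
structure JC (φ : El DH →* G) (ψ : El DN →* G) (χ : El DC →* G) : Prop extends NM φ ψ where
  hza : ¬ IsConj 𝐳 𝐚
  injC : Function.Injective χ
  cz : 𝐳 = χ cz
  ce : 𝐞 = χ ce
  cy : 𝐱 * ψ nf = χ cy
  ca : 𝐚 = χ ca
  cb : 𝐱 * 𝐚 * 𝐱⁻¹ = χ cb
  memC : ∀ g, g * 𝐚 = 𝐚 * g → ∃ w, χ w = g

theorem equiv_DA : Nonempty (El DA ≃* alternatingGroup (Fin 5)) := by
  obtain ⟨χ, hχ, -⟩ := five_dvd (X := alternatingGroup (Fin 5)) 
    (z := ⟨.swap 0 1 * .swap 2 3, Equiv.Perm.mem_alternatingGroup.mpr (by decide)⟩)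
    (e := ⟨.swap 0 2 * .swap 1 3, Equiv.Perm.mem_alternatingGroup.mpr (by decide)⟩)
    (y := ⟨.swap 1 3 * .swap 1 2, Equiv.Perm.mem_alternatingGroup.mpr (by decide)⟩)
    (r := ⟨.swap 2 3 * .swap 0 4, Equiv.Perm.mem_alternatingGroup.mpr (by decide)⟩)
    (by decide) (by decide) (by decide) (by decide) (by decide) (by decide) (by decide) (by decide) (by decide)
    (by decide)
  refine ⟨MulEquiv.ofBijective χ ((Nat.bijective_iff_injective_and_card χ).mpr ⟨hχ, ?_⟩)⟩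
  rw [El.card_El, nat_card_alternatingGroup, Nat.card_eq_fintype_card, Fintype.card_fin]; rfl

theorem NM.exists_jc [Finite G] (h : NM φ ψ) (hza : ¬ IsConj 𝐳 𝐚) : ∃ χ, JC φ ψ χ := by
  obtain ⟨L, hLa, hLz, hy, hL⟩ := h.exists_L hza
  obtain ⟨hzL, heL, H⟩ := h.dich hLz hy fun g hg => (hL g hg).1
  obtain ⟨ε⟩ := H.resolve_left fun H => h.not_le hza fun g hg => by
    obtain ⟨l, hl, u, h1, h2, rfl⟩ := (hL g hg).2
    exact mul_mem (H hl) (h.memN u (Or.inl (conj_eq h1)) (Or.inr (Or.inl (conj_eq (comm_e h.toCM h1 h2).2))))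
  obtain ⟨ε'⟩ := equiv_DA
  let θ : El DA →* G := L.subtype.comp (ε'.trans ε.symm).toMonoidHom
  have θi : Function.Injective θ := L.subtype_injective.comp (ε'.trans ε.symm).injective
  have θL : ∀ g ∈ L, ∃ w, θ w = g := fun g hg => by
    obtain ⟨w, hw⟩ := (ε'.trans ε.symm).surjective ⟨g, hg⟩
    exact ⟨w, congrArg Subtype.val hw⟩
  have θL' : ∀ w, θ w ∈ L := fun w => ((ε'.trans ε.symm) w).2
  clear_value θ
  have hb : 𝐱 * 𝐚 * 𝐱⁻¹ = ψ (HJ.nx * HJ.na * HJ.nx⁻¹) := by rw [h.nx, h.na]; simp only [map_mul, map_inv]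
  have hy' : 𝐱 * ψ nf = ψ (HJ.nx * nf) := by rw [h.nx, map_mul]
  generalize hb' : 𝐱 * 𝐚 * 𝐱⁻¹ = b at hb
  generalize hy'' : 𝐱 * ψ nf = y at hy hy'
  obtain ⟨z', hz'⟩ := θL _ hzL
  obtain ⟨y', hy1⟩ := θL _ hy
  have yz : y * 𝐳 * y⁻¹ = 𝐞 := by rw [hy', h.nz, h.ne]; exact mdl h.injN
  have ye : y * 𝐞 * y⁻¹ = 𝐞 * 𝐳 := by rw [hy', h.nz, h.ne]; exact mdl h.injN
  have y3 : y * y * y = 1 := by rw [hy']; exact mdl h.injN
  have zz : 𝐳 * 𝐳 = 1 := mdl h.inj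
  have z1 : 𝐳 ≠ 1 := mdl h.inj
  obtain ⟨r', ⟨r1, r2, r3⟩, ru⟩ := a_r z' (θi (by rw [map_mul, hz', zz, map_one]))
    (fun e => z1 (by rw [← hz', e, map_one])) y' (θi (by simp only [map_mul, hy1, y3, map_one]))
    (θi (by simp only [map_mul, map_inv, hy1, hz', yz, ye]))
  have r1' := congrArg θ r1
  have r2' := congrArg θ r2
  have r3' := congrArg θ r3
  simp only [map_mul, map_one, hy1, hz'] at r1' r2' r3'
  have ba : b * 𝐚 = 𝐚 * b := by rw [hb, h.na]; exact mdl h.injN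
  have bz : MulAut.conj b 𝐳 = 𝐳 := by rw [MulAut.conj_apply, hb, h.nz]; exact mdl h.injN
  have by' : MulAut.conj b y = y := by rw [MulAut.conj_apply, hb, hy']; exact mdl h.injN
  have br : b * θ r' * b⁻¹ = θ r' := by
    obtain ⟨t, ht⟩ := θL _ ((hL b ba).1 _ (θL' r'))
    rw [← MulAut.conj_apply] at ht
    rw [← MulAut.conj_apply, ← ht, ru t (θi ?_) (θi ?_) (θi ?_)]
    · rw [map_mul, ht, ← map_mul, r1', map_one, map_one]
    · simp only [map_mul, ht, hy1, map_one]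
      rw [← by']; simp only [← map_mul, r2', map_one]
    · simp only [map_mul, ht, hz', map_one]
      rw [← bz]; simp only [← map_mul (MulAut.conj b), r3', map_one]
  have ra := hLa _ (θL' r')
  have rL := θL' r'
  generalize θ r' = r at r1' r2' r3' br ra rL
  have ee : 𝐞 * 𝐞 = 1 := mdl h.inj
  have ze : 𝐳 * 𝐞 * 𝐳 * 𝐞 = 1 := mdl h.inj
  have aa : 𝐚 * 𝐚 = 1 := mdl h.inj
  have bb : b * b = 1 := by rw [hb]; exact mdl h.injN
  have c2 : ∀ {u v : G}, u * u = 1 → v * v = 1 → u * v = v * u → u * v * u * v = 1 := fun {u v} h1 h2 h3 => by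
    rw [h3, mul_assoc v, h1, mul_one, h2]
  obtain ⟨χ, hχ, -⟩ := El.exists_hom (D := DC) (c := fun n => [𝐳, 𝐞, y, y⁻¹, r, 𝐚, b].getD n 1) fun w hw => by
    simp only [DC, RDC, List.mem_cons, List.not_mem_nil, or_false] at hw
    rcases hw with rfl | rfl | rfl | rfl | rfl | rfl | rfl | rfl | rfl | rfl | rfl | rfl | rfl | rfl | rfl | rfl |
      rfl | rfl | rfl | rfl | rfl | rfl <;>
      simp only [ev_cons, ev_nil, List.getD_cons_succ, List.getD_cons_zero, mul_one, ← mul_assoc]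
    exacts [zz, ee, by group, by group, r1', aa, bb, y3, ze, by rw [yz, ee], by rw [ye]; exact mdl h.inj, r2', r3',
      c2 aa bb ba.symm, mdl h.inj, mdl h.inj, by rw [hy', h.na]; exact mdl h.injN, c2 aa r1' ra.symm,
      by rw [hb, h.nz]; exact mdl h.injN, by rw [hb, h.ne]; exact mdl h.injN, by rw [hb, hy']; exact mdl h.injN,
      c2 bb r1' (comm_of_conj br)]
  obtain ⟨l0, l1, l2, l4, l5, l6⟩ := c_l
  have e0 : 𝐳 = χ cz := l0 ▸ (hχ 0 (by decide)).symm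
  have e1 : 𝐞 = χ ce := l1 ▸ (hχ 1 (by decide)).symm
  have e2 : y = χ cy := l2 ▸ (hχ 2 (by decide)).symm
  have e4 : r = χ cr := l4 ▸ (hχ 4 (by decide)).symm
  have e5 : 𝐚 = χ ca := l5 ▸ (hχ 5 (by decide)).symm
  have e6 : b = χ cb := l6 ▸ (hχ 6 (by decide)).symm
  have hA : ∀ u, u * 𝐳 = 𝐳 * u → u * 𝐚 = 𝐚 * u → u ∈ χ.range := fun u h1 h2 => by
    obtain ⟨u, rfl⟩ := (h.cent u).mp h1
    obtain ⟨i, -, j, -, k, -, l, -, rfl⟩ := h_A2 u (h.inj (by rw [map_mul, map_mul, h2]))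
    simp only [map_mul, map_pow, map_inv, hb', e6]
    rw [e0, e1, e5]
    exact ⟨cz ^ i * ce ^ j * ca ^ k * cb ^ l, by simp only [map_mul, map_pow]⟩
  have c60 : Nat.card L = 60 := by rw [Nat.card_congr (ε.trans ε'.symm).toEquiv, El.card_El]; rfl
  have hLC : L ≤ χ.range := by
    obtain ⟨κ, κi, k0, k1, k2, k4⟩ := five_dvd (X := L) (z := ⟨_, hzL⟩) (e := ⟨_, heL⟩) (y := ⟨_, hy⟩) (r := ⟨_, rL⟩)
      (fun e => z1 (congrArg Subtype.val e)) (Subtype.ext zz) (Subtype.ext ee) (Subtype.ext r1') (Subtype.ext y3)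
      (Subtype.ext ze) (Subtype.ext yz) (Subtype.ext ye) (Subtype.ext r2') (Subtype.ext r3')
    have hs := ((Nat.bijective_iff_injective_and_card κ).mpr ⟨κi, by rw [c60, El.card_El]; rfl⟩).2
    intro g hg
    obtain ⟨w, hw⟩ := hs ⟨g, hg⟩
    have : w ∈ χ.range.comap (L.subtype.comp κ) := gen_le.mpr (fun i hi => by
      change (κ (El.l DA i) : G) ∈ χ.range
      change i < 5 at hi
      interval_cases i
      · rw [k0]; exact ⟨_, e0.symm⟩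
      · rw [k1]; exact ⟨_, e1.symm⟩
      · rw [k2]; exact ⟨_, e2.symm⟩
      · rw [show El.l DA 3 = (El.l DA 2)⁻¹ by decide +kernel, map_inv, k2]; exact inv_mem ⟨_, e2.symm⟩
      · rw [k4]; exact ⟨_, e4.symm⟩) ((El.gen_l (D := DA)).ge (mem_top w))
    rwa [mem_comap, MonoidHom.comp_apply, hw] at this
  refine ⟨χ, h, hza, El.injective_of_card (Nat.le_of_dvd Nat.card_pos ?_), e0, e1, hy''.trans e2, e5,
    hb'.trans e6, fun g hg => ?_⟩
  · have h1 := card_dvd_of_le hLC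
    have h2 := card_dvd_of_le (show centralizer {𝐳} ⊓ centralizer {𝐚} ≤ χ.range from fun u hu =>
      hA u (mem_cent.mp hu.1) (mem_cent.mp hu.2))
    rw [(Nat.card_congr (Equiv.subtypeEquivRight fun _ => by rw [mem_inf, mem_cent, mem_cent])).trans
      (HJ.card_ca h.toCM)] at h2
    rw [c60] at h1
    exact Nat.lcm_dvd h1 h2
  · obtain ⟨l, hl, u, h1, h2, rfl⟩ := (hL g hg).2
    exact mul_mem (hLC hl) (hA u h1 h2)

namespace JC

variable {χ : El DC →* G}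

theorem cent_a (h : JC φ ψ χ) : centralizer ({𝐚} : Set G) = χ.range := ext fun g => mem_cent.trans
  ⟨h.memC g, fun ⟨w, hw⟩ => by rw [← hw, h.ca, ← map_mul, ← map_mul, (c_cen w).1]⟩

theorem card_G [Finite G] (h : JC φ ψ χ) : Nat.card G = 604800 := by
  have z2 := z_two h.toCM
  have a2 := a_two h.toCM
  have pa : ∀ u, CA u → IsConj 𝐚 (χ u) := by
    obtain ⟨p1, p2, p3, p4, p5, -⟩ := h_A3
    have q1 := p1.isConj φ
    have q2 := p2.isConj φ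
    have q3 := p3.isConj φ
    have q4 := p4.isConj φ
    have q5 := p5.isConj φ
    simp only [map_mul, map_inv, h.cb] at q1 q2 q3 q4 q5
    rw [h.cz] at q3 q4 q5
    nth_rw 2 [h.ca] at q2 q3 q5
    simp only [← map_mul] at q2 q3 q4 q5
    rintro u (rfl | rfl | rfl | H | H | H)
    exacts [h.ca ▸ IsConj.refl _, q1, q2, q3.trans (H.isConj χ), q4.trans (H.isConj χ), q5.trans (H.isConj χ)]
  have pz : ∀ u, CZ u → IsConj 𝐳 (χ u) := fun u H => h.cz ▸ H.isConj χ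
  rw [h.toNM.card_G h.hza, h.cent_a, El.card_range h.injC, (El.card_sub_pairs h.injC (fun p hp => ?_) _ _
    fun u v => ?_).trans c_n2]
  · rfl
  · have := comm_of_mem (Inv.orderOf_of_isConj hp.1 ▸ z2) (Inv.orderOf_of_isConj hp.2.1 ▸ a2) a2 hp.2.2
    exact ⟨h.memC _ this.1, h.memC _ this.2⟩
  refine and_congr ⟨fun H => ?_, pz u⟩ (and_congr ⟨fun H => ?_, pa v⟩ ?_)
  · obtain ⟨h1, h2⟩ := two_iff h.injC z2 H
    exact ((c_inv u h1).resolve_left h2).resolve_right fun H' => h.hza (H.trans (pa u H').symm)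
  · obtain ⟨h1, h2⟩ := two_iff h.injC a2 H
    exact ((c_inv v h1).resolve_left h2).resolve_left fun H' => h.hza ((pz v H').trans H.symm)
  · rw [← map_mul, ← MonoidHom.map_zpowers, h.ca, mem_map_iff_mem h.injC]
    rcases c_exp (u * v) with H | H <;> exact mem_zpowers_iff_lt (by norm_num) (by norm_num) H

theorem cent_b [Finite G] (h : JC φ ψ χ) : centralizer ({χ HJ.cb} : Set G) = χ.range := by
  refine (eq_of_le_of_card_ge (fun g hg => mem_cent.mpr ?_) (le_of_eq ?_)).symm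
  · obtain ⟨w, rfl⟩ := hg
    rw [← map_mul, ← map_mul, (c_cen w).2]
  · rw [← h.cent_a]
    exact (card_conj 𝐱 fun g => by rw [mem_cent, mem_cent, comm_conj_iff h.cb g]).symm

theorem xr [Finite G] (h : JC φ ψ χ) : 𝐱 * χ cr * 𝐱⁻¹ = χ cr := by
  obtain ⟨t, ht⟩ := h.cent_b.le (mem_cent.mpr ((comm_conj_iff h.cb (χ cr)).mp (by
    rw [h.ca]; exact mdl h.injC)))
  have xz : MulAut.conj 𝐱 (χ HJ.cz) = χ HJ.cz := by rw [← h.cz]; exact conj_eq (h.comm _)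
  have xy : MulAut.conj 𝐱 (χ HJ.cy) = χ HJ.cy := by rw [← h.cy, MulAut.conj_apply, h.nx]; exact mdl h.injN
  rw [← MulAut.conj_apply] at ht
  rw [← MulAut.conj_apply, ← ht, c_r t (h.injC ?_) (h.injC ?_) (h.injC ?_)]
  · rw [map_mul, ht, ← map_mul, ← map_mul, show cr * cr = 1 by decide +kernel, map_one, map_one]
  · simp only [map_mul, ht, map_one]
    rw [← xy]; simp only [← map_mul]
    rw [show cr * HJ.cy * cr * HJ.cy = 1 by decide +kernel, map_one, map_one]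
  · simp only [map_mul, ht, map_one]
    rw [← xz]; simp only [← map_mul]
    rw [show cr * HJ.cz * cr * HJ.cz * cr * HJ.cz = 1 by decide +kernel, map_one, map_one]

end JC

end Cfsg.Agent.HJ
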